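import Cfsg.Agent.Lib.UFourType.Top

/-!
An element of order three of one factor is a product of commutators in its centralizer.
-/

set_option autoImplicit false
set_option maxRecDepth 100000

namespace CfsgLib.UFourType

open Cfsg CfsgLib.CosetEnum

/-- the four words -/
def witW : List (List ℕ) := [[1, 1], [8, 0, 3, 7, 3, 7], [6, 0, 6], [1, 7, 3, 8, 2, 8]]

/-- a commutator word -/
def commW (a b : List ℕ) : List ℕ := a ++ b ++ inv9 a ++ inv9 b

theorem wit_checks : (witW.all fun w => triv9 (commW w [2])) = true ∧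
    triv9 (commW (witW.getD 0 []) (witW.getD 1 []) ++ commW (witW.getD 2 []) (witW.getD 3 []) ++ [3]) = true ∧
    (witW.all fun w => w.all fun l => Nat.blt l 9) = true := by
  decide +kernel

section

variable {G : Type*} [Group G] [Finite G] {z : G} {α β : SL23 →* G} {Q : Subgroup G}

/-- the order-three element of a factor lies in the derived group of its centralizer -/
theorem Hyp.exists_witness (h : Hyp z α β Q) {K : Type} [Field K] [Fintype K] (hK9 : Fintype.card K = 9) :
    ∃ a b c e : G, Commute a (α sU) ∧ Commute b (α sU) ∧ Commute c (α sU) ∧ Commute e (α sU) ∧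
      α sU = a * b * a⁻¹ * b⁻¹ * (c * e * c⁻¹ * e⁻¹) := by
  obtain ⟨i, p, a, s, d, hp, -, D⟩ := h.exists_sdata
  obtain ⟨d', M⟩ := D.exists_mdata
  obtain ⟨f, -, I⟩ := M.exists_embedding hK9
  obtain ⟨hc, hw, hl⟩ := wit_checks
  simp only [List.all_eq_true, Nat.blt_eq] at hc hl
  let W : List ℕ → G := prodW (gen9 i p a s d')
  have hinv : ∀ u : List ℕ, (∀ l ∈ u, l < 9) → W (inv9 u) = (W u)⁻¹ := fun u hu => inv9_spec M.sd.s_sq hu
  have hcomm : ∀ u v : List ℕ, (∀ l ∈ u, l < 9) → (∀ l ∈ v, l < 9) →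
      W (commW u v) = W u * W v * (W u)⁻¹ * (W v)⁻¹ := by
    intro u v hu hv
    show prodW (gen9 i p a s d') (u ++ v ++ inv9 u ++ inv9 v) = _
    rw [prodW_append, prodW_append, prodW_append]
    show W u * W v * W (inv9 u) * W (inv9 v) = _
    rw [hinv u hu, hinv v hv]
  have hW2 : W [2] = α sU := by rw [← hp]; simp [W, prodW, gen9]
  have hW3 : W [3] = (α sU)⁻¹ := by rw [← hp]; simp [W, prodW, gen9]
  have mem : ∀ j < 4, witW.getD j [] ∈ witW := fun j hj => by
    interval_cases j <;> simp [witW]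
  have cen : ∀ j < 4, Commute (W (witW.getD j [])) (α sU) := fun j hj => by
    have e := hcomm _ [2] (hl _ (mem j hj)) (by simp)
    rw [show W (commW (witW.getD j []) [2]) = 1 from I.eval _ (hc _ (mem j hj)), hW2] at e
    exact mul_inv_eq_iff_eq_mul.1 (mul_inv_eq_one.1 e.symm)
  refine ⟨_, _, _, _, cen 0 (by norm_num), cen 1 (by norm_num), cen 2 (by norm_num), cen 3 (by norm_num), ?_⟩
  have e : W (commW (witW.getD 0 []) (witW.getD 1 []) ++ commW (witW.getD 2 []) (witW.getD 3 []) ++ [3]) = 1 :=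
    I.eval _ hw
  simp only [W, prodW_append] at e
  change W (commW _ _) * W (commW _ _) * W [3] = 1 at e
  rw [hcomm _ _ (hl _ (mem 0 (by norm_num))) (hl _ (mem 1 (by norm_num))),
    hcomm _ _ (hl _ (mem 2 (by norm_num))) (hl _ (mem 3 (by norm_num))), hW3, mul_inv_eq_one] at e
  exact e.symm

end

end CfsgLib.UFourType
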