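import Cfsg.Agent.Lib.UFourType.Witness
import Cfsg.Agent.Lib.UFourType.DataAxis

/-!
An elementary abelian subgroup of order 81 and its normalizer.
-/

set_option autoImplicit false
set_option maxRecDepth 100000
set_option maxHeartbeats 1000000
set_option linter.style.haveILetI false

namespace CfsgLib.UFourType

open Cfsg CfsgLib.CosetEnum CfsgLib.M24.PackChain

/-- a conjugate word -/
def cjW (r a : List ℕ) : List ℕ := r ++ a ++ inv9 r

/-- a word agrees with a packed permutation -/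
noncomputable def agree (u : List ℕ) (K : ℕ) : Bool :=
  (List.range 126).all fun i => Nat.beq (pk K i) (ap9 u i)

/-- the packed permutation of a word -/
noncomputable def key9 (u : List ℕ) : ℕ :=
  ((List.range 126).map (ap9 u)).foldr (fun v acc => Nat.add v (Nat.mul 1024 acc)) 0

/-- an entry is exact -/
noncomputable def okE (u : List ℕ) (K : ℕ) : Bool :=
  u.all (fun l => Nat.blt l 9) && Nat.beq (key9 u) K && agree u K

/-- adjacent entries increase -/
def incr : List ℕ → Bool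
  | [] => true
  | [_] => true
  | a :: b :: l => Nat.blt a b && incr (b :: l)

theorem incr_nodup : ∀ l : List ℕ, incr l = true → l.Pairwise (· < ·)
  | [], _ => List.Pairwise.nil
  | [_], _ => List.pairwise_singleton _ _
  | a :: b :: l, h => by
    simp only [incr, Bool.and_eq_true, Nat.blt_eq] at h
    have ih := incr_nodup (b :: l) h.2
    refine List.pairwise_cons.2 ⟨fun c hc => ?_, ih⟩
    rcases List.mem_cons.1 hc with rfl | hc
    · exact h.1
    · exact h.1.trans ((List.pairwise_cons.1 ih).1 c hc)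

/-- a word of an element -/
def elW (es : List ℕ) : List ℕ :=
  ((List.range 4).map fun j => (List.replicate (es.getD j 0) (axBas.getD j [])).flatten).flatten

/-- a word in the generators -/
def seqW (s : List ℕ) : List ℕ := (s.map fun i => axGen.getD i []).flatten

/-- the second element -/
def wW : List ℕ := [6, 2, 6]

theorem ap_lt : ∀ l : Fin 9, ∀ i : Fin 126, pk (nth perm9 l 0) i < 126 := by decide +kernel

theorem ap9_lt : ∀ {u : List ℕ}, (∀ l ∈ u, l < 9) → ∀ {i : ℕ}, i < 126 → ap9 u i < 126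
  | [], _, _, hi => hi
  | l :: u, hu, i, hi =>
    ap_lt ⟨l, hu l List.mem_cons_self⟩ ⟨ap9 u i, ap9_lt (fun m hm => hu m (List.mem_cons_of_mem _ hm)) hi⟩

theorem ap9_append (u v : List ℕ) (i : ℕ) : ap9 (u ++ v) i = ap9 u (ap9 v i) := by
  simp [ap9, List.foldr_append]

theorem letters_check : (axGen.all fun u => u.all fun l => Nat.blt l 9) = true ∧
    (axBas.all fun u => u.all fun l => Nat.blt l 9) = true ∧ (axInv.all fun u => u.all fun l => Nat.blt l 9) = true ∧
    axGen.length = 6 ∧ axBas.length = 4 ∧ axEl.length = 81 ∧ axCls.length = 560 ∧ axClsTwo.length = 36 ∧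
    axInv.length = 81 ∧ axPts.length = 20 ∧ axNine.length = 9 := by decide +kernel

theorem el_check : (axEl.all fun e => okE (elW e.1) e.2) = true ∧ incr (axEl.map Prod.snd) = true ∧
    (axEl.all fun e => (List.range 4).all fun j => axEl.any fun e' => agree (elW e.1 ++ axBas.getD j []) e'.2) = true ∧
    ((List.range 4).all fun i => (List.range 4).all fun j => triv9 (commW (axBas.getD i []) (axBas.getD j []))) = true ∧
    ((List.range 4).all fun j => triv9 (axBas.getD j [] ++ axBas.getD j [] ++ axBas.getD j [])) = true ∧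
    (axEl.any fun e => agree [] e.2) = true ∧ (axEl.any fun e => agree [2] e.2) = true ∧
    (axEl.any fun e => agree wW e.2) = true ∧ triv9 (commW [0, 0] (axBas.getD 2 [])) = false := by
  decide +kernel

theorem cls_check : (axCls.all fun e => okE (cjW e.1 [2]) e.2) = true ∧ incr (axCls.map Prod.snd) = true := by
  decide +kernel

theorem bas_check : ((List.range 4).all fun j => axCls.any fun e => agree (axBas.getD j []) e.2) = true := by
  decide +kernel

theorem clsTwo_check : (axClsTwo.all fun e => okE (cjW e.1 wW) e.2 && triv9 (commW e.1 [2])) = true ∧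
    incr (axClsTwo.map Prod.snd) = true := by
  decide +kernel

theorem inv_check : ((List.range 81).all fun i =>
    triv9 (commW (elW (axEl.getD i ([], 0)).1) (cjW (axInv.getD i []) [0, 0]))) = true := by
  decide +kernel

theorem gen_check : (axGen.all fun g => triv9 ((List.replicate 12 g).flatten) &&
    (List.range 4).all fun j => axEl.any fun e => agree (cjW g (axBas.getD j [])) e.2) = true := by
  decide +kernel

theorem pts_check : (axPts.all fun e => okE (cjW (seqW e.1) [2]) e.2 && e.1.all (fun i => Nat.blt i 6)) = true ∧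
    decide (axPts.map Prod.snd).Nodup = true ∧
    (axPts.all fun e => axEl.any fun e' => Nat.beq e.2 e'.2) = true ∧
    ((List.range 20).all fun i => triv9 (cjW (seqW (axPts.getD i ([], 0)).1) [2] ++
      cjW (seqW (axPts.getD ((i + 10) % 20) ([], 0)).1) [2])) = true ∧
    agree [2] (axPts.getD 0 ([], 0)).2 = true ∧
    (axCls.all fun e => !(axEl.any fun e' => Nat.beq e.2 e'.2) || axPts.any fun e' => Nat.beq e.2 e'.2) = true := by
  decide +kernel

theorem full_check : agree (elW [1, 1, 1, 1]) (axPts.getD 17 ([], 0)).2 = true ∧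
    axBas.getD 0 [] = [2] ∧ axBas.getD 1 [] = wW ∧ (elW [1, 1, 1, 1]).all (fun l => Nat.blt l 9) = true := by
  decide +kernel

theorem nine_check : (axNine.all fun e => okE (cjW (seqW e.1) wW) e.2 && e.1.all (fun i => Nat.blt i 6) &&
      triv9 (commW (seqW e.1) [2])) = true ∧
    incr (axNine.map Prod.snd) = true ∧
    (axNine.all fun e => axEl.any fun e' => Nat.beq e.2 e'.2) = true ∧
    (axClsTwo.all fun e => !(axEl.any fun e' => Nat.beq e.2 e'.2) || axNine.any fun e' => Nat.beq e.2 e'.2) = true ∧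
    ((List.range 20).all fun i => Nat.beq i 0 || Nat.beq i 10 || axNine.any fun e' =>
      Nat.beq (axPts.getD i ([], 0)).2 e'.2 || Nat.beq (axPts.getD ((i + 10) % 20) ([], 0)).2 e'.2) = true := by
  decide +kernel

/-- the properties -/
structure Axis {G : Type*} [Group G] (z u w : G) (Ab : Subgroup G) (nk : List G) (pt : Fin 20 → G)
    (nine : Fin 9 → G) : Prop where
  card : Nat.card Ab = 81
  comm : ∀ a ∈ Ab, ∀ b ∈ Ab, a * b = b * a
  cube : ∀ a ∈ Ab, a * a * a = 1
  umem : u ∈ Ab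
  wmem : w ∈ Ab
  base : ∃ r : Fin 4 → G, (∀ j, r j * u * (r j)⁻¹ ∈ Ab) ∧ (∀ a ∈ Ab, ∃ e : Fin 4 → ℕ,
      a = (r 0 * u * (r 0)⁻¹) ^ e 0 * (r 1 * u * (r 1)⁻¹) ^ e 1 * (r 2 * u * (r 2)⁻¹) ^ e 2 * (r 3 * u * (r 3)⁻¹) ^ e 3) ∧
    r 0 * u * (r 0)⁻¹ = u ∧ r 1 * u * (r 1)⁻¹ = w ∧
    ∃ i, pt i = r 0 * u * (r 0)⁻¹ * (r 1 * u * (r 1)⁻¹) * (r 2 * u * (r 2)⁻¹) * (r 3 * u * (r 3)⁻¹)
  cent : ∀ g, Commute g u → Commute g w → g ∈ Ab ∨ g * z ∈ Ab
  zmove : ∃ a ∈ Ab, ¬ Commute z a
  invol : ∀ a ∈ Ab, ∃ n, Commute a (n * z * n⁻¹)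
  ngen : ∀ g ∈ nk, g ∈ Subgroup.normalizer (Ab : Set G) ∧ g ^ 12 = 1
  z_nk : z ∈ nk
  pt_mem : ∀ i, pt i ∈ Ab
  pt_inj : Function.Injective pt
  pt_inv : ∀ i, (pt i)⁻¹ = pt (i + 10)
  pt_zero : pt 0 = u
  trans : ∀ i, ∃ g ∈ Subgroup.closure {g | g ∈ nk}, g * u * g⁻¹ = pt i
  conj : ∀ g, g * u * g⁻¹ ∈ Ab → ∃ i, g * u * g⁻¹ = pt i
  nine_trans : ∀ i, ∃ g ∈ Subgroup.closure {g | g ∈ nk}, Commute g u ∧ g * w * g⁻¹ = nine i
  nine_mem : ∀ i, nine i ∈ Ab
  nine_inj : Function.Injective nine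
  nine_conj : ∀ g, Commute g u → g * w * g⁻¹ ∈ Ab → ∃ j, g * w * g⁻¹ = nine j
  nine_pt : ∀ i, i ≠ 0 → i ≠ 10 → ∃ j, pt i = nine j ∨ pt (i + 10) = nine j

section

variable {G : Type*} [Group G] [Finite G] {z : G} {α β : SL23 →* G} {Q : Subgroup G}

theorem Hyp.exists_axis (h : Hyp z α β Q) {K : Type} [Field K] [Fintype K] (hK9 : Fintype.card K = 9) :
    ∃ (Ab : Subgroup G) (nk : List G) (pt : Fin 20 → G) (nine : Fin 9 → G),
      Axis z (α sU) (β sU) Ab nk pt nine := by
  classical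
  have hG := (h.main hK9).2.1
  obtain ⟨i0, p, a0, s, d0, hp, hs, D⟩ := h.exists_sdata
  obtain ⟨d, M⟩ := D.exists_mdata
  obtain ⟨f, -, I⟩ := M.exists_embedding hK9
  let W : List ℕ → G := prodW (gen9 i0 p a0 s d)
  have happ : ∀ u v, W (u ++ v) = W u * W v := fun u v => prodW_append _ _ _
  have hinv : ∀ {u : List ℕ}, (∀ l ∈ u, l < 9) → W (inv9 u) = (W u)⁻¹ := fun hu => inv9_spec M.sd.s_sq hu
  have inv9_lt : ∀ {u : List ℕ}, (∀ l ∈ u, l < 9) → ∀ l ∈ inv9 u, l < 9 := by
    intro u hu l hl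
    simp only [inv9, List.mem_reverse, List.mem_map] at hl
    obtain ⟨m, hm', rfl⟩ := hl
    have := hu m hm'
    interval_cases m <;> simp
  have app_lt : ∀ {u v : List ℕ}, (∀ l ∈ u, l < 9) → (∀ l ∈ v, l < 9) → ∀ l ∈ u ++ v, l < 9 := fun hu hv l hl =>
    (List.mem_append.1 hl).elim (hu l) (hv l)
  have cj_lt : ∀ {r a : List ℕ}, (∀ l ∈ r, l < 9) → (∀ l ∈ a, l < 9) → ∀ l ∈ cjW r a, l < 9 := fun hr ha =>
    app_lt (app_lt hr ha) (inv9_lt hr)
  have hcj : ∀ {r a : List ℕ}, (∀ l ∈ r, l < 9) → W (cjW r a) = W r * W a * (W r)⁻¹ := fun {r a} hr => by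
    rw [cjW, happ, happ, hinv hr]
  have hcomm : ∀ {u v : List ℕ}, (∀ l ∈ u, l < 9) → (∀ l ∈ v, l < 9) →
      W (commW u v) = W u * W v * (W u)⁻¹ * (W v)⁻¹ := fun {u v} hu hv => by
    rw [commW, happ, happ, happ, hinv hu, hinv hv]
  have trivE : ∀ {u : List ℕ}, triv9 u = true → W u = 1 := fun hu => I.eval _ hu
  have commE : ∀ {u v : List ℕ}, (∀ l ∈ u, l < 9) → (∀ l ∈ v, l < 9) → triv9 (commW u v) = true →
      Commute (W u) (W v) := fun {u v} hu hv ht => by
    have e := hcomm hu hv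
    rw [trivE ht] at e
    exact mul_inv_eq_iff_eq_mul.1 (mul_inv_eq_one.1 e.symm)
  have eqW : ∀ {u v : List ℕ} {K : ℕ}, (∀ l ∈ u, l < 9) → (∀ l ∈ v, l < 9) → agree u K = true → agree v K = true →
      W u = W v := by
    intro u v K hu hv h1 h2
    simp only [agree, List.all_eq_true, List.mem_range, Nat.beq_eq] at h1 h2
    have hvv := I.nontriv (v ++ inv9 v) (app_lt hv (inv9_lt hv)) (by
      show W (v ++ inv9 v) = 1
      rw [happ, hinv hv, mul_inv_cancel])
    simp only [triv9, Bool.and_eq_true, List.all_eq_true, List.mem_range, Nat.beq_eq, ap9_append] at hvv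
    have ht : triv9 (u ++ inv9 v) = true := by
      simp only [triv9, Bool.and_eq_true, List.all_eq_true, List.mem_range, Nat.beq_eq, Nat.blt_eq, ap9_append]
      refine ⟨app_lt hu (inv9_lt hv), fun i hi => ?_⟩
      have hlt := ap9_lt (inv9_lt hv) hi
      rw [← h1 _ hlt, h2 _ hlt]
      exact hvv.2 i hi
    have := trivE ht
    rwa [happ, hinv hv, mul_inv_eq_one] at this
  have keyW : ∀ {u v : List ℕ}, (∀ l ∈ u, l < 9) → (∀ l ∈ v, l < 9) → W u = W v → key9 u = key9 v := by
    intro u v hu hv e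
    have h1 := I.nontriv (u ++ inv9 v) (app_lt hu (inv9_lt hv)) (by
      show W (u ++ inv9 v) = 1
      rw [happ, hinv hv, e, mul_inv_cancel])
    have h2 := I.nontriv (inv9 v ++ v) (app_lt (inv9_lt hv) hv) (by
      show W (inv9 v ++ v) = 1
      rw [happ, hinv hv, inv_mul_cancel])
    simp only [triv9, Bool.and_eq_true, List.all_eq_true, List.mem_range, Nat.beq_eq, ap9_append] at h1 h2
    unfold key9
    congr 1
    refine List.map_congr_left fun i hi => ?_
    have hi' := List.mem_range.1 hi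
    have := h1.2 (ap9 v i) (ap9_lt hv hi')
    rw [h2.2 i hi'] at this
    exact this
  have okE' : ∀ {u : List ℕ} {K : ℕ}, okE u K = true → (∀ l ∈ u, l < 9) ∧ key9 u = K ∧ agree u K = true := by
    intro u K hu
    simp only [okE, Bool.and_eq_true, List.all_eq_true, Nat.blt_eq, Nat.beq_eq] at hu
    exact ⟨hu.1.1, hu.1.2, hu.2⟩
  have okEq : ∀ {u v : List ℕ} {K K' : ℕ}, okE u K = true → okE v K' = true → (W u = W v ↔ K = K') := by
    intro u v K K' h1 h2
    obtain ⟨l1, k1, a1⟩ := okE' h1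
    obtain ⟨l2, k2, a2⟩ := okE' h2
    exact ⟨fun e => by rw [← k1, ← k2]; exact keyW l1 l2 e, fun e => eqW l1 l2 a1 (e ▸ a2)⟩
  -- basic words
  obtain ⟨hgl, hbl, hil, lg, lb, le, lc, lc2, li, lp, ln⟩ := letters_check
  simp only [List.all_eq_true, Nat.blt_eq] at hgl hbl hil
  have hbj : ∀ j < 4, axBas.getD j [] ∈ axBas := fun j hj => by
    rw [List.getD_eq_getElem _ _ (by omega)]; exact List.getElem_mem _
  have u2 : ∀ l ∈ ([2] : List ℕ), l < 9 := by simp
  have wl : ∀ l ∈ wW, l < 9 := by simp [wW]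
  have zl : ∀ l ∈ ([0, 0] : List ℕ), l < 9 := by simp
  have hU : W [2] = α sU := by rw [← hp]; simp [W, prodW, gen9]
  have hWw : W wW = β sU := by
    rw [← hs, inv_eq_of_mul_eq_one_left M.sd.s_sq]
    simp [W, wW, prodW, gen9, mul_assoc]
  have hZ : W [0, 0] = z := by
    have hq := (q_basic ⟨5, by norm_num⟩).2.2.1
    rw [← M.sd.dat.z_eq, ← Nat.eq_of_beq_eq_true hq, ← prodW_val M.sd.dat.rel (by simp)]
    simp [W, prodW, gen9, gen8]
  -- the elements
  obtain ⟨hel, helinc, helmul, hbcomm, hbcube, hel1, helu, helw, hzm⟩ := el_check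
  simp only [List.all_eq_true, List.mem_range, List.any_eq_true] at hel helmul hbcomm hbcube hel1 helu helw
  let bs : ℕ → G := fun j => W (axBas.getD j [])
  have bcomm : ∀ i < 4, ∀ j < 4, Commute (bs i) (bs j) := fun i hi j hj =>
    commE (hbl _ (hbj i hi)) (hbl _ (hbj j hj)) (hbcomm i hi j hj)
  set Ab : Subgroup G := Subgroup.closure {g | ∃ j < 4, bs j = g} with hAb
  have bmem : ∀ j < 4, bs j ∈ Ab := fun j hj => Subgroup.subset_closure ⟨j, hj, rfl⟩
  have hflat : ∀ (n : ℕ) (u : List ℕ), W (List.replicate n u).flatten = W u ^ n := by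
    intro n u
    induction n with
    | zero => simp [W, prodW]
    | succ n ih => rw [List.replicate_succ, List.flatten_cons, happ, ih, pow_succ']
  have helW : ∀ es, W (elW es) = bs 0 ^ es.getD 0 0 * bs 1 ^ es.getD 1 0 * bs 2 ^ es.getD 2 0 * bs 3 ^ es.getD 3 0 := by
    intro es
    show W (((List.range 4).map _).flatten) = _
    simp only [show List.range 4 = [0, 1, 2, 3] from rfl, List.map_cons, List.map_nil, List.flatten_cons,
      List.flatten_nil, List.append_nil, happ, hflat]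
    simp only [bs, mul_assoc]
  have elmem : ∀ es, W (elW es) ∈ Ab := fun es => by
    rw [helW]
    exact mul_mem (mul_mem (mul_mem (pow_mem (bmem 0 (by norm_num)) _) (pow_mem (bmem 1 (by norm_num)) _))
      (pow_mem (bmem 2 (by norm_num)) _)) (pow_mem (bmem 3 (by norm_num)) _)
  let el : Fin 81 → G := fun i => W (elW (axEl.get ⟨i, by omega⟩).1)
  have eok : ∀ e ∈ axEl, okE (elW e.1) e.2 = true := hel
  have isEl : ∀ {u : List ℕ}, (∀ l ∈ u, l < 9) → (∃ e ∈ axEl, agree u e.2 = true) → ∃ i, el i = W u := by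
    rintro u hu ⟨e, he, ha⟩
    obtain ⟨⟨i, hi⟩, rfl⟩ := List.get_of_mem he
    obtain ⟨l1, -, a1⟩ := okE' (eok _ (List.get_mem _ _))
    exact ⟨⟨i, le ▸ hi⟩, eqW l1 hu a1 ha⟩
  have elinj : Function.Injective el := by
    intro i j e
    have := (okEq (eok _ (List.get_mem _ _)) (eok _ (List.get_mem _ _))).1 e
    have hn := (incr_nodup _ helinc).imp (fun {a b} (hab : a < b) => hab.ne)
    refine Fin.ext ?_
    have h2 := (List.Nodup.getElem_inj_iff (l := axEl.map Prod.snd) hn (i := i.1) (j := j.1)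
      (hi := by rw [List.length_map]; omega) (hj := by rw [List.length_map]; omega)).1
    exact h2 (by simpa [List.getElem_map] using this)
  have memAb : ∀ g, g ∈ Ab ↔ ∃ i, el i = g := by
    refine fun g => ⟨fun hg => ?_, ?_⟩
    · have step : ∀ i, ∀ j < 4, ∃ k, el k = el i * bs j := fun i j hj => by
        obtain ⟨k, hk⟩ := isEl (app_lt (okE' (eok _ (List.get_mem axEl ⟨i, by omega⟩))).1 (hbl _ (hbj j hj)))
          (helmul _ (List.get_mem axEl ⟨i, by omega⟩) j hj)
        exact ⟨k, hk.trans (happ _ _)⟩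
      induction hg using Subgroup.closure_induction_right with
      | one => obtain ⟨i, hi⟩ := isEl (u := []) (by simp) hel1; exact ⟨i, hi.trans (by simp [W, prodW])⟩
      | mul_right x hx y hy ih =>
        obtain ⟨j, hj, rfl⟩ := hy
        obtain ⟨i, rfl⟩ := ih
        exact step i j hj
      | mul_inv_cancel x hx y hy ih =>
        obtain ⟨j, hj, rfl⟩ := hy
        obtain ⟨i, rfl⟩ := ih
        have e : (bs j)⁻¹ = bs j * bs j := inv_eq_of_mul_eq_one_right (by
          have := trivE (hbcube j hj)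
          rw [happ, happ] at this
          rw [← mul_assoc]; exact this)
        obtain ⟨k, hk⟩ := step i j hj
        obtain ⟨k', hk'⟩ := step k j hj
        exact ⟨k', by rw [hk', hk, e, mul_assoc]⟩
    · rintro ⟨i, rfl⟩; exact elmem _
  have cardAb : Nat.card Ab = 81 := by
    let fe : Fin 81 → Ab := fun i => ⟨el i, (memAb _).2 ⟨i, rfl⟩⟩
    rw [← Nat.card_congr (Equiv.ofBijective fe ⟨fun i j e => elinj (congrArg Subtype.val e), fun ⟨g, hg⟩ => by
      obtain ⟨i, rfl⟩ := (memAb g).1 hg; exact ⟨i, rfl⟩⟩), Nat.card_fin]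
  have abcomm : ∀ a ∈ Ab, ∀ b ∈ Ab, a * b = b * a := by
    intro a ha b hb
    obtain ⟨i, rfl⟩ := (memAb a).1 ha
    obtain ⟨j, rfl⟩ := (memAb b).1 hb
    have hb' : ∀ k < 4, Commute (el i) (bs k) := fun k hk => by
      simp only [el, helW]
      exact ((((bcomm 0 (by norm_num) k hk).pow_left _).mul_left ((bcomm 1 (by norm_num) k hk).pow_left _)).mul_left
        ((bcomm 2 (by norm_num) k hk).pow_left _)).mul_left ((bcomm 3 (by norm_num) k hk).pow_left _)
    rw [show el j = _ from helW _]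
    exact ((((hb' 0 (by norm_num)).pow_right _).mul_right ((hb' 1 (by norm_num)).pow_right _)).mul_right
      ((hb' 2 (by norm_num)).pow_right _)).mul_right ((hb' 3 (by norm_num)).pow_right _)
  have abcube : ∀ a ∈ Ab, a * a * a = 1 := by
    intro a ha
    induction ha using Subgroup.closure_induction with
    | mem x hx =>
      obtain ⟨j, hj, rfl⟩ := hx
      have := trivE (hbcube j hj)
      rwa [happ, happ] at this
    | one => simp
    | mul x y hx hy h1 h2 =>
      have c : Commute x y := abcomm x hx y hy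
      have e := c.mul_pow 3
      simp only [pow_succ, pow_zero, one_mul] at e
      rw [e, h1, h2, one_mul]
    | inv x hx h1 => rw [show x⁻¹ * x⁻¹ * x⁻¹ = (x * x * x)⁻¹ by group, h1, inv_one]
  have agreeMem : ∀ {u : List ℕ}, (∀ l ∈ u, l < 9) → (∃ e ∈ axEl, agree u e.2 = true) → W u ∈ Ab := fun hu he => by
    obtain ⟨i, hi⟩ := isEl hu he; exact hi ▸ (memAb _).2 ⟨i, rfl⟩
  have keyMem : ∀ {u : List ℕ} {K : ℕ}, okE u K = true → (axEl.any fun e' => Nat.beq K e'.2) = true → W u ∈ Ab := by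
    intro u K hu hK
    simp only [List.any_eq_true, Nat.beq_eq] at hK
    obtain ⟨e, he, rfl⟩ := hK
    exact agreeMem (okE' hu).1 ⟨e, he, (okE' hu).2.2⟩
  have memKey : ∀ {u : List ℕ} {K : ℕ}, okE u K = true → W u ∈ Ab → (axEl.any fun e' => Nat.beq K e'.2) = true := by
    intro u K hu hm'
    obtain ⟨i, hi⟩ := (memAb _).1 hm'
    simp only [List.any_eq_true, Nat.beq_eq]
    exact ⟨_, List.get_mem axEl ⟨i, by omega⟩, (okEq hu (eok _ (List.get_mem _ _))).1 hi.symm⟩
  have umem : α sU ∈ Ab := hU ▸ agreeMem u2 helu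
  have wmem : β sU ∈ Ab := hWw ▸ agreeMem wl helw
  -- counting
  obtain ⟨hcls, hclsinc⟩ := cls_check
  obtain ⟨hcls2, hcls2inc⟩ := clsTwo_check
  simp only [List.all_eq_true, Bool.and_eq_true] at hcls hcls2
  have cutl : ∀ {r a : List ℕ}, (∀ l ∈ cjW r a, l < 9) → ∀ l ∈ r, l < 9 := fun {r a} hl l hlr =>
    hl l (List.mem_append_left _ (List.mem_append_left _ hlr))
  let r1 : Fin 560 → G := fun i => W (axCls.get ⟨i, by omega⟩).1
  have r1ok : ∀ i : Fin 560, okE (cjW (axCls.get ⟨i, by omega⟩).1 [2]) (axCls.get ⟨i, by omega⟩).2 = true ∧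
      W (cjW (axCls.get ⟨i, by omega⟩).1 [2]) = r1 i * α sU * (r1 i)⁻¹ := fun i => by
    have h1 := hcls _ (List.get_mem axCls ⟨i, by omega⟩)
    exact ⟨h1, by rw [hcj (cutl (okE' h1).1), hU]⟩
  set Cu := Subgroup.centralizer ({α sU} : Set G) with hCu
  let i1 : Fin 560 × Cu → G := fun x => r1 x.1 * x.2.1
  have i1inj : Function.Injective i1 := by
    rintro ⟨i, c⟩ ⟨j, c'⟩ e
    have e' : r1 i * α sU * (r1 i)⁻¹ = r1 j * α sU * (r1 j)⁻¹ := by
      have key : ∀ (r : G) (c : Cu), r * α sU * r⁻¹ = (r * c.1) * α sU * (r * c.1)⁻¹ := fun r c => by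
        have hc : Commute (c : G) (α sU) := Subgroup.mem_centralizer_singleton_iff.1 c.2
        rw [show r * c.1 * α sU * (r * c.1)⁻¹ = r * (c.1 * α sU * (c.1)⁻¹) * r⁻¹ by group, hc.eq, mul_inv_cancel_right]
      rw [key (r1 i) c, key (r1 j) c']
      exact congrArg (fun t => t * α sU * t⁻¹) e
    rw [← (r1ok i).2, ← (r1ok j).2] at e'
    have hk := (okEq (r1ok i).1 (r1ok j).1).1 e'
    have hij : i = j := Fin.ext ((List.Nodup.getElem_inj_iff (l := axCls.map Prod.snd)
      ((incr_nodup _ hclsinc).imp (fun {a b} (hab : a < b) => hab.ne)) (i := i.1) (j := j.1)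
      (hi := by rw [List.length_map]; omega) (hj := by rw [List.length_map]; omega)).1
      (by simpa [List.getElem_map] using hk))
    subst hij
    exact Prod.ext rfl (Subtype.ext (mul_left_cancel e))
  set Cuw := Subgroup.centralizer ({α sU, β sU} : Set G) with hCuw
  have memCuw : ∀ g, g ∈ Cuw ↔ Commute g (α sU) ∧ Commute g (β sU) := by
    intro g
    simp only [hCuw, Subgroup.mem_centralizer_iff, Set.mem_insert_iff, Set.mem_singleton_iff, forall_eq_or_imp,
      forall_eq]
    exact and_congr ⟨fun e => e.symm, fun e => e.eq.symm⟩ ⟨fun e => e.symm, fun e => e.eq.symm⟩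
  let r2 : Fin 36 → G := fun i => W (axClsTwo.get ⟨i, by omega⟩).1
  have r2ok : ∀ i : Fin 36, okE (cjW (axClsTwo.get ⟨i, by omega⟩).1 wW) (axClsTwo.get ⟨i, by omega⟩).2 = true ∧
      W (cjW (axClsTwo.get ⟨i, by omega⟩).1 wW) = r2 i * β sU * (r2 i)⁻¹ ∧ r2 i ∈ Cu := fun i => by
    obtain ⟨h1, h2⟩ := hcls2 _ (List.get_mem axClsTwo ⟨i, by omega⟩)
    refine ⟨h1, by rw [hcj (cutl (okE' h1).1), hWw], ?_⟩
    have := commE (cutl (okE' h1).1) u2 h2
    rw [hU] at this
    exact Subgroup.mem_centralizer_singleton_iff.2 this.eq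
  let i2 : Fin 36 × Cuw → Cu := fun x => ⟨r2 x.1 * x.2.1, mul_mem (r2ok x.1).2.2
    (Subgroup.mem_centralizer_singleton_iff.2 ((memCuw _).1 x.2.2).1.eq)⟩
  have i2inj : Function.Injective i2 := by
    rintro ⟨i, c⟩ ⟨j, c'⟩ e0
    have e : r2 i * c.1 = r2 j * c'.1 := congrArg Subtype.val e0
    have e' : r2 i * β sU * (r2 i)⁻¹ = r2 j * β sU * (r2 j)⁻¹ := by
      have key : ∀ (r : G) (c : Cuw), r * β sU * r⁻¹ = (r * c.1) * β sU * (r * c.1)⁻¹ := fun r c => by
        rw [show r * c.1 * β sU * (r * c.1)⁻¹ = r * (c.1 * β sU * (c.1)⁻¹) * r⁻¹ by group,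
          ((memCuw _).1 c.2).2.eq, mul_inv_cancel_right]
      rw [key (r2 i) c, key (r2 j) c', e]
    rw [← (r2ok i).2.1, ← (r2ok j).2.1] at e'
    have hk := (okEq (r2ok i).1 (r2ok j).1).1 e'
    have hij : i = j := Fin.ext ((List.Nodup.getElem_inj_iff (l := axClsTwo.map Prod.snd)
      ((incr_nodup _ hcls2inc).imp (fun {a b} (hab : a < b) => hab.ne)) (i := i.1) (j := j.1)
      (hi := by rw [List.length_map]; omega) (hj := by rw [List.length_map]; omega)).1
      (by simpa [List.getElem_map] using hk))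
    subst hij
    exact Prod.ext rfl (Subtype.ext (mul_left_cancel e))
  have czu : Commute z (α sU) := (h.comm_z (Subgroup.mem_sup_left ⟨sU, rfl⟩)).symm
  have czw : Commute z (β sU) := (h.comm_z (Subgroup.mem_sup_right ⟨sU, rfl⟩)).symm
  have zne : z ∉ Ab := fun hz => h.z_ne (by
    have := abcube z hz
    rwa [h.z_sq, one_mul] at this)
  let i3 : Bool × Ab → Cuw := fun x => ⟨(if x.1 then z else 1) * x.2.1, by
    refine mul_mem ?_ ((memCuw _).2 ⟨abcomm _ x.2.2 _ umem, abcomm _ x.2.2 _ wmem⟩)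
    split_ifs
    exacts [(memCuw _).2 ⟨czu, czw⟩, one_mem _]⟩
  have i3inj : Function.Injective i3 := by
    rintro ⟨b, x⟩ ⟨b', x'⟩ e0
    have e : (if b then z else 1) * x.1 = (if b' then z else 1) * x'.1 := congrArg Subtype.val e0
    cases b <;> cases b' <;> simp only [Bool.false_eq_true, if_true, if_false, one_mul] at e
    · exact Prod.ext rfl (Subtype.ext e)
    · exact absurd (eq_mul_inv_of_mul_eq e.symm ▸ mul_mem x.2 (inv_mem x'.2)) zne
    · exact absurd (eq_mul_inv_of_mul_eq e ▸ mul_mem x'.2 (inv_mem x.2)) zne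
    · exact Prod.ext rfl (Subtype.ext (mul_left_cancel e))
  have le1 := Nat.card_le_card_of_injective i1 i1inj
  have le2 := Nat.card_le_card_of_injective i2 i2inj
  have le3 := Nat.card_le_card_of_injective i3 i3inj
  rw [Nat.card_prod, Nat.card_fin] at le1 le2
  rw [Nat.card_prod, cardAb, Nat.card_eq_fintype_card, Fintype.card_bool] at le3
  rw [hG] at le1
  have s1 : Function.Surjective i1 := ((Nat.bijective_iff_injective_and_card i1).2
    ⟨i1inj, by rw [Nat.card_prod, Nat.card_fin, hG]; omega⟩).2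
  have s2 : Function.Surjective i2 := ((Nat.bijective_iff_injective_and_card i2).2
    ⟨i2inj, by rw [Nat.card_prod, Nat.card_fin]; omega⟩).2
  have s3 : Function.Surjective i3 := ((Nat.bijective_iff_injective_and_card i3).2
    ⟨i3inj, by rw [Nat.card_prod, cardAb, Nat.card_eq_fintype_card, Fintype.card_bool]; omega⟩).2
  -- the normalizer
  have hgen := gen_check
  simp only [List.all_eq_true, Bool.and_eq_true, List.mem_range, List.any_eq_true] at hgen
  let nk : List G := axGen.map W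
  have seqmem : ∀ sq : List ℕ, (∀ i ∈ sq, i < 6) →
      (∀ l ∈ seqW sq, l < 9) ∧ W (seqW sq) ∈ Subgroup.closure {g | g ∈ nk} := by
    intro sq
    induction sq with
    | nil => intro _; exact ⟨by simp [seqW], by simp [seqW, W, prodW]⟩
    | cons i sq ih =>
      intro hsq
      obtain ⟨a1, a2⟩ := ih fun m hm => hsq m (List.mem_cons_of_mem _ hm)
      have hg : axGen.getD i [] ∈ axGen := by
        rw [List.getD_eq_getElem _ _ (by have := hsq i List.mem_cons_self; omega)]; exact List.getElem_mem _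
      have e : seqW (i :: sq) = axGen.getD i [] ++ seqW sq := rfl
      rw [e]
      exact ⟨app_lt (hgl _ hg) a1, happ _ _ ▸ mul_mem (Subgroup.subset_closure (List.mem_map.2 ⟨_, hg, rfl⟩)) a2⟩
  obtain ⟨hpts, hptnd, hptel, hptinv, hpt0, hptcls⟩ := pts_check
  simp only [List.all_eq_true, Bool.and_eq_true, Nat.blt_eq, decide_eq_true_eq] at hpts hptnd hptel
  simp only [List.all_eq_true, Bool.or_eq_true, Bool.not_eq_true', List.any_eq_true, Nat.beq_eq] at hptcls
  simp only [List.all_eq_true, List.mem_range] at hptinv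
  let pt : Fin 20 → G := fun i => W (cjW (seqW (axPts.get ⟨i, by omega⟩).1) [2])
  have ptok : ∀ i : Fin 20, okE (cjW (seqW (axPts.get ⟨i, by omega⟩).1) [2]) (axPts.get ⟨i, by omega⟩).2 = true ∧
      ∃ g ∈ Subgroup.closure {g | g ∈ nk}, g * α sU * g⁻¹ = pt i := fun i => by
    obtain ⟨h1, h2⟩ := hpts _ (List.get_mem axPts ⟨i, by omega⟩)
    exact ⟨h1, _, (seqmem _ h2).2, by simp only [pt]; rw [hcj (seqmem _ h2).1, hU]⟩
  obtain ⟨hnine, hnineinc, hnineel, hninecls, hninept⟩ := nine_check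
  simp only [List.all_eq_true, Bool.and_eq_true, Nat.blt_eq] at hnine hnineel
  simp only [List.all_eq_true, Bool.or_eq_true, Bool.not_eq_true', List.any_eq_true, Nat.beq_eq] at hninecls
  simp only [List.all_eq_true, Bool.or_eq_true, List.any_eq_true, Nat.beq_eq, List.mem_range] at hninept
  let nine : Fin 9 → G := fun i => W (cjW (seqW (axNine.get ⟨i, by omega⟩).1) wW)
  have nineok : ∀ i : Fin 9, okE (cjW (seqW (axNine.get ⟨i, by omega⟩).1) wW) (axNine.get ⟨i, by omega⟩).2 = true ∧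
      ∃ g ∈ Subgroup.closure {g | g ∈ nk}, Commute g (α sU) ∧ g * β sU * g⁻¹ = nine i := fun i => by
    obtain ⟨⟨h1, h2⟩, h3⟩ := hnine _ (List.get_mem axNine ⟨i, by omega⟩)
    refine ⟨h1, _, (seqmem _ h2).2, hU ▸ commE (seqmem _ h2).1 u2 h3, ?_⟩
    simp only [nine]; rw [hcj (seqmem _ h2).1, hWw]
  refine ⟨Ab, nk, pt, nine, ?_⟩
  have hb4 : ∀ j : Fin 4, ∃ r, r * α sU * r⁻¹ = bs j := by
    intro j
    have hc := bas_check
    simp only [List.all_eq_true, List.mem_range, List.any_eq_true] at hc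
    obtain ⟨e, he, ha⟩ := hc j j.2
    obtain ⟨l1, -, a1⟩ := okE' (hcls e he)
    exact ⟨W e.1, by rw [← hU, ← hcj (cutl l1)]; exact eqW l1 (hbl _ (hbj j j.2)) a1 ha⟩
  choose rb hrb using hb4
  constructor
  · exact cardAb
  · exact abcomm
  · exact abcube
  · exact umem
  · exact wmem
  · obtain ⟨hfull, hb0, hb1, hflt⟩ := full_check
    simp only [List.all_eq_true, Nat.blt_eq] at hflt
    refine ⟨rb, fun j => hrb j ▸ bmem j j.2, fun a ha => ?_, (hrb 0).trans ?_, (hrb 1).trans ?_, 17, ?_⟩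
    rotate_left
    · show W (axBas.getD 0 []) = _
      rw [hb0, hU]
    · show W (axBas.getD 1 []) = _
      rw [hb1, hWw]
    · have e1 := helW [1, 1, 1, 1]
      simp only [List.getD_cons_zero, List.getD_cons_succ, pow_one] at e1
      simp only [hrb]
      refine Eq.trans ?_ e1
      refine eqW (okE' (ptok 17).1).1 hflt (okE' (ptok 17).1).2.2 ?_
      rw [List.getD_eq_getElem _ _ (by omega : 17 < axPts.length)] at hfull
      exact hfull
    obtain ⟨i, rfl⟩ := (memAb a).1 ha
    refine ⟨fun j => (axEl.get ⟨i, by omega⟩).1.getD j 0, ?_⟩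
    rw [show el i = _ from helW _]
    simp only [hrb]
    rfl
  · intro g hgu hgw
    obtain ⟨⟨b, x⟩, e⟩ := s3 ⟨g, (memCuw g).2 ⟨hgu, hgw⟩⟩
    have e' : (if b then z else 1) * x.1 = g := congrArg Subtype.val e
    cases b
    · left; rw [← e']; simp
    · right
      rw [← e']
      simp only [if_true]
      have hzn : z * x.1 * z ∈ Ab := by
        have hnz : ∀ j < 4, z * bs j * z⁻¹ ∈ Ab := fun j hj => by
          obtain ⟨-, h2⟩ := hgen [0, 0] (by decide)
          obtain ⟨e, he, ha⟩ := h2 j hj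
          have := agreeMem (cj_lt zl (hbl _ (hbj j hj))) ⟨e, he, ha⟩
          rwa [hcj zl, hZ] at this
        have key : ∀ a ∈ Ab, z * a * z⁻¹ ∈ Ab := by
          intro a ha
          induction ha using Subgroup.closure_induction with
          | mem y hy => obtain ⟨j, hj, rfl⟩ := hy; exact hnz j hj
          | one => simp
          | mul y y' _ _ h1 h2 => rw [show z * (y * y') * z⁻¹ = z * y * z⁻¹ * (z * y' * z⁻¹) by group]; exact mul_mem h1 h2
          | inv y _ h1 => rw [show z * y⁻¹ * z⁻¹ = (z * y * z⁻¹)⁻¹ by group]; exact inv_mem h1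
        have := key x.1 x.2
        rwa [inv_eq_of_mul_eq_one_left h.z_sq] at this
      exact hzn
  · refine ⟨bs 2, bmem 2 (by norm_num), fun hc => ?_⟩
    have := I.nontriv (commW [0, 0] (axBas.getD 2 [])) (app_lt (app_lt (app_lt zl (hbl _ (hbj 2 (by norm_num))))
      (inv9_lt zl)) (inv9_lt (hbl _ (hbj 2 (by norm_num))))) (by
      show W _ = 1
      rw [hcomm zl (hbl _ (hbj 2 (by norm_num))), hZ]
      show z * bs 2 * z⁻¹ * (bs 2)⁻¹ = 1
      rw [hc.eq, mul_inv_cancel_right, mul_inv_cancel])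
    rw [hzm] at this
    exact Bool.false_ne_true this
  · intro a ha
    obtain ⟨i, rfl⟩ := (memAb a).1 ha
    have hc := inv_check
    simp only [List.all_eq_true, List.mem_range] at hc
    have hm : axInv.getD i [] ∈ axInv := by rw [List.getD_eq_getElem _ _ (by omega)]; exact List.getElem_mem _
    have h1 := hc i i.2
    rw [List.getD_eq_getElem (l := axEl) _ (by omega)] at h1
    have := commE (okE' (eok _ (List.getElem_mem (l := axEl) (n := i.1) (by omega)))).1 (cj_lt (hil _ hm) zl) h1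
    rw [hcj (hil _ hm), hZ] at this
    exact ⟨_, this⟩
  · intro g hg
    obtain ⟨w, hw, rfl⟩ := List.mem_map.1 hg
    obtain ⟨h1, h2⟩ := hgen w hw
    refine ⟨?_, hflat 12 w ▸ trivE h1⟩
    have key : ∀ a ∈ Ab, W w * a * (W w)⁻¹ ∈ Ab := by
      intro a ha
      induction ha using Subgroup.closure_induction with
      | mem y hy =>
        obtain ⟨j, hj, rfl⟩ := hy
        obtain ⟨e, he, ha⟩ := h2 j hj
        have := agreeMem (cj_lt (hgl _ hw) (hbl _ (hbj j hj))) ⟨e, he, ha⟩
        rwa [hcj (hgl _ hw)] at this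
      | one => simp
      | mul y y' _ _ a1 a2 =>
        rw [show W w * (y * y') * (W w)⁻¹ = W w * y * (W w)⁻¹ * (W w * y' * (W w)⁻¹) by group]; exact mul_mem a1 a2
      | inv y _ a1 => rw [show W w * y⁻¹ * (W w)⁻¹ = (W w * y * (W w)⁻¹)⁻¹ by group]; exact inv_mem a1
    have hmap : Ab.map (MulAut.conj (W w)).toMonoidHom = Ab := by
      refine Subgroup.eq_of_le_of_card_ge ?_ ?_
      · rintro _ ⟨a, ha, rfl⟩; exact key a ha
      · rw [Subgroup.card_map_of_injective (MulAut.conj (W w)).injective]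
    rw [Subgroup.mem_normalizer_iff]
    intro x
    conv_rhs => rw [← hmap]
    show x ∈ Ab ↔ MulAut.conj (W w) x ∈ Ab.map (MulAut.conj (W w)).toMonoidHom
    exact (Subgroup.mem_map_iff_mem (MulAut.conj (W w)).injective).symm
  · exact List.mem_map.2 ⟨[0, 0], by decide, hZ⟩
  · exact fun i => keyMem (ptok i).1 (hptel _ (List.get_mem _ _))
  · intro i j e
    exact Fin.ext ((List.Nodup.getElem_inj_iff (l := axPts.map Prod.snd) hptnd (i := i.1) (j := j.1)
      (hi := by rw [List.length_map]; omega) (hj := by rw [List.length_map]; omega)).1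
      (by simpa [List.getElem_map] using (okEq (ptok i).1 (ptok j).1).1 e))
  · intro i
    have h1 := hptinv i i.2
    rw [List.getD_eq_getElem _ _ (by omega : (i : ℕ) < axPts.length),
      List.getD_eq_getElem _ _ (by omega : ((i : ℕ) + 10) % 20 < axPts.length)] at h1
    have := trivE h1
    rw [happ] at this
    exact inv_eq_of_mul_eq_one_right this
  · exact (eqW (okE' (ptok 0).1).1 u2 (okE' (ptok 0).1).2.2 (by
      rw [List.getD_eq_getElem _ _ (by omega : 0 < axPts.length)] at hpt0; exact hpt0)).trans hU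
  · exact fun i => (ptok i).2
  · intro g hg
    obtain ⟨⟨i, c⟩, rfl⟩ := s1 g
    have hc : Commute (c : G) (α sU) := Subgroup.mem_centralizer_singleton_iff.1 c.2
    have e : i1 (i, c) * α sU * (i1 (i, c))⁻¹ = r1 i * α sU * (r1 i)⁻¹ := by
      show r1 i * c.1 * α sU * (r1 i * c.1)⁻¹ = _
      rw [show r1 i * c.1 * α sU * (r1 i * c.1)⁻¹ = r1 i * (c.1 * α sU * (c.1)⁻¹) * (r1 i)⁻¹ by group, hc.eq,
        mul_inv_cancel_right]
    rw [e, ← (r1ok i).2] at hg ⊢
    rcases hptcls _ (List.get_mem axCls ⟨i, by omega⟩) with h1 | ⟨e', he', hk⟩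
    · exact absurd (h1.symm.trans (memKey (r1ok i).1 hg)) Bool.false_ne_true
    · obtain ⟨⟨j, hj⟩, rfl⟩ := List.get_of_mem he'
      exact ⟨⟨j, lp ▸ hj⟩, (okEq (r1ok i).1 (ptok _).1).2 hk⟩
  · exact fun i => (nineok i).2
  · exact fun i => keyMem (nineok i).1 (hnineel _ (List.get_mem _ _))
  · intro i j e
    exact Fin.ext ((List.Nodup.getElem_inj_iff (l := axNine.map Prod.snd)
      ((incr_nodup _ hnineinc).imp (fun {a b} (hab : a < b) => hab.ne)) (i := i.1) (j := j.1)
      (hi := by rw [List.length_map]; omega) (hj := by rw [List.length_map]; omega)).1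
      (by simpa [List.getElem_map] using (okEq (nineok i).1 (nineok j).1).1 e))
  · intro g hgu hg
    obtain ⟨⟨i, c⟩, e0⟩ := s2 ⟨g, Subgroup.mem_centralizer_singleton_iff.2 hgu.eq⟩
    have e0' : r2 i * c.1 = g := congrArg Subtype.val e0
    have e : g * β sU * g⁻¹ = r2 i * β sU * (r2 i)⁻¹ := by
      rw [← e0', show r2 i * c.1 * β sU * (r2 i * c.1)⁻¹ = r2 i * (c.1 * β sU * (c.1)⁻¹) * (r2 i)⁻¹ by group,
        ((memCuw _).1 c.2).2.eq, mul_inv_cancel_right]
    rw [e, ← (r2ok i).2.1] at hg ⊢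
    rcases hninecls _ (List.get_mem axClsTwo ⟨i, by omega⟩) with h1 | ⟨e', he', hk⟩
    · exact absurd (h1.symm.trans (memKey (r2ok i).1 hg)) Bool.false_ne_true
    · obtain ⟨⟨j, hj⟩, rfl⟩ := List.get_of_mem he'
      exact ⟨⟨j, ln ▸ hj⟩, (okEq (r2ok i).1 (nineok _).1).2 hk⟩
  · intro i h0 h10
    have hv : ∀ j : Fin 20, (axPts.get ⟨j, by omega⟩).2 = (axPts.getD j ([], 0)).2 := fun j => by
      rw [List.getD_eq_getElem _ _ (by omega : (j : ℕ) < axPts.length)]; rfl
    rcases hninept i i.2 with (h1 | h1) | ⟨e', he', hk⟩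
    · exact absurd (Fin.ext h1) h0
    · exact absurd (Fin.ext h1) h10
    · obtain ⟨⟨j, hj⟩, rfl⟩ := List.get_of_mem he'
      refine ⟨⟨j, ln ▸ hj⟩, hk.imp (fun h => ?_) (fun h => ?_)⟩
      · exact (okEq (ptok i).1 (nineok _).1).2 ((hv i).trans h)
      · exact (okEq (ptok _).1 (nineok _).1).2 ((hv (i + 10)).trans h)

end

end CfsgLib.UFourType
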