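import Cfsg.Agent.Lib.UFourType.CheckMainStep0
import Cfsg.Agent.Lib.UFourType.CheckMainStep1
import Cfsg.Agent.Lib.UFourType.CheckMainStep2
import Cfsg.Agent.Lib.CosetEnum.Use
import Cfsg.Agent.Lib.UFourType.DataMain

/-!
Kernel checks of coset enumeration data.
-/

set_option autoImplicit false

namespace CfsgLib.UFourType
open CfsgLib.CosetEnum

theorem certMain_complete : certMain.Complete :=
  Cert.complete_of_blocks _ (k := 13) (n := 3) (k₂ := 12) (by decide +kernel)
    (fun j hj => by
      match j, hj with
      | 0, _ => exact certMain_step0
      | 1, _ => exact certMain_step1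
      | 2, _ => exact certMain_step2
      | n + 3, h => omega)
    (by decide +kernel) (by decide +kernel) (by decide +kernel)

end CfsgLib.UFourType
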