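import Cfsg.Agent.Lib.UFourType.Local

/-!
A commutation of two conjugate elements of order three, from generation by centralizers.
-/

set_option autoImplicit false
set_option maxRecDepth 100000
set_option maxHeartbeats 2000000

namespace CfsgLib.UFourType

open CfsgLib.CosetEnum

section

variable {G : Type*} [Group G] [Finite G] {z : G} {Q : Subgroup G} {i p a s d : G} (D : SData z Q i p a s d)
include D

theorem SData.hpow_spec {n : ℕ} (hn : n < 1152) :
    ∀ j, hpow n j < 1152 ∧ val 5 i p a s (hpow n j) = val 5 i p a s n ^ j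
  | 0 => ⟨by norm_num [hpow], by rw [pow_zero]; exact val_zero 5⟩
  | j + 1 => by
    obtain ⟨h1, e1⟩ := SData.hpow_spec hn j
    obtain ⟨h2, e2⟩ := hm_spec D.dat.rel h1 hn
    exact ⟨h2, by rw [pow_succ, ← e1]; exact e2⟩

theorem SData.px_lt {n : ℕ} (hn : n ∈ pxList) : n < 1152 := by
  have h := px_facts.2.2.2.2.2
  simp only [List.all_eq_true, Bool.and_eq_true, Nat.blt_eq] at h
  exact (h n hn).1.1.1.1.1

/-- the group of order nine -/
def SData.PXg : Subgroup G where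
  carrier := {g | ∃ n ∈ pxList, val 5 i p a s n = g}
  one_mem' := ⟨0, memB_iff.1 px_facts.2.2.2.2.1, val_zero 5⟩
  mul_mem' := by
    rintro _ _ ⟨m, hm', rfl⟩ ⟨n, hn, rfl⟩
    have h := px_facts.2.2.2.2.2
    simp only [List.all_eq_true, Bool.and_eq_true, memB_iff] at h
    exact ⟨_, ((h m hm').2 n hn).1, (hm_spec D.dat.rel (D.px_lt hm') (D.px_lt hn)).2⟩
  inv_mem' := by
    rintro _ ⟨n, hn, rfl⟩
    have h := px_facts.2.2.2.2.2
    simp only [List.all_eq_true, Bool.and_eq_true, memB_iff] at h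
    exact ⟨_, (h n hn).1.1.1.1.2, (hi_spec D.dat.rel (D.px_lt hn)).2⟩

theorem SData.mem_PX {g : G} : g ∈ D.PXg ↔ ∃ n ∈ pxList, val 5 i p a s n = g := Iff.rfl

theorem SData.xb_mem : val 5 i p a s xC ∈ D.PXg ∧ val 5 i p a s bC ∈ D.PXg ∧ val 5 i p a s x2C ∈ D.PXg :=
  ⟨⟨_, memB_iff.1 px_facts.2.1, rfl⟩, ⟨_, memB_iff.1 px_facts.2.2.1, rfl⟩, ⟨_, memB_iff.1 px_facts.2.2.2.1, rfl⟩⟩

theorem SData.card_PX : Nat.card D.PXg = 9 := by
  classical
  have e : (D.PXg : Set G) = ↑(pxList.toFinset.image (val 5 i p a s)) := by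
    ext g
    simp [SData.mem_PX, List.mem_toFinset]
  show Nat.card (D.PXg : Set G) = 9
  rw [e, Nat.card_coe_set_eq, Set.ncard_coe_finset, Finset.card_image_of_injOn,
    List.toFinset_card_of_nodup px_facts.1]
  · rfl
  · intro x hx y hy hxy
    exact D.inj (D.px_lt (List.mem_toFinset.1 hx)) (D.px_lt (List.mem_toFinset.1 hy)) hxy

theorem SData.PX_gen {g : G} (hg : g ∈ D.PXg) :
    (∃ m n : ℕ, g = val 5 i p a s xC ^ m * val 5 i p a s bC ^ n) ∧
      (∃ m n : ℕ, g = val 5 i p a s xC ^ m * val 5 i p a s x2C ^ n) := by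
  obtain ⟨n, hn, rfl⟩ := hg
  have h := px_facts.2.2.2.2.2
  simp only [List.all_eq_true, Bool.and_eq_true, List.any_eq_true, Nat.beq_eq] at h
  obtain ⟨⟨⟨⟨-, m, -, m', -, e⟩, k, -, k', -, e'⟩, -⟩, -⟩ := h n hn
  obtain ⟨-, -, -, -, -, -, -, -, -, -, lx, lb, -, -, l2⟩ := fx_facts
  obtain ⟨h1, q1⟩ := D.hpow_spec lx m
  obtain ⟨h2, q2⟩ := D.hpow_spec lb m'
  obtain ⟨h3, q3⟩ := D.hpow_spec lx k
  obtain ⟨h4, q4⟩ := D.hpow_spec l2 k'
  exact ⟨⟨m, m', by rw [e, (hm_spec D.dat.rel h1 h2).2, q1, q2]⟩,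
    ⟨k, k', by rw [e', (hm_spec D.dat.rel h3 h4).2, q3, q4]⟩⟩

theorem SData.PX_comm {g k : G} (hg : g ∈ D.PXg) (hk : k ∈ D.PXg) : g * k = k * g := by
  obtain ⟨m, hm', rfl⟩ := hg
  obtain ⟨n, hn, rfl⟩ := hk
  have h := px_facts.2.2.2.2.2
  simp only [List.all_eq_true, Bool.and_eq_true, Nat.beq_eq] at h
  exact (D.commV (D.px_lt hm') (D.px_lt hn)).2 ((h m hm').2 n hn).2

/-- commuting with the two generators -/
theorem SData.cent_PX {g : G} (hx : g * val 5 i p a s xC = val 5 i p a s xC * g)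
    (hb : g * val 5 i p a s bC = val 5 i p a s bC * g) {k : G} (hk : k ∈ D.PXg) : g * k = k * g := by
  obtain ⟨⟨m, n, rfl⟩, -⟩ := D.PX_gen hk
  have hx' : Commute g (val 5 i p a s xC) := hx
  have hb' : Commute g (val 5 i p a s bC) := hb
  exact ((hx'.pow_right m).mul_right (hb'.pow_right n)).eq

theorem SData.norm_PX {g : G} (hx : g * val 5 i p a s xC * g⁻¹ ∈ D.PXg)
    (hb : g * val 5 i p a s bC * g⁻¹ ∈ D.PXg) {k : G} (hk : k ∈ D.PXg) : g * k * g⁻¹ ∈ D.PXg := by
  obtain ⟨⟨m, n, rfl⟩, -⟩ := D.PX_gen hk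
  rw [← MulAut.conj_apply, map_mul, map_pow, map_pow, MulAut.conj_apply, MulAut.conj_apply]
  exact mul_mem (pow_mem hx m) (pow_mem hb n)

theorem SData.z_cent : z ∈ Subgroup.centralizer (D.PXg : Set G) := by
  rw [Subgroup.mem_centralizer_iff]
  rintro k ⟨n, hn, rfl⟩
  exact Subgroup.mem_centralizer_singleton_iff.1 (D.bij.1 n (D.px_lt hn))

theorem SData.z_ne' : z ≠ 1 ∧ z * z = 1 := by
  refine ⟨fun e => ?_, ?_⟩
  · have := D.z_ord; rw [e, orderOf_one] at this; exact absurd this (by norm_num)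
  · have := pow_orderOf_eq_one z; rwa [D.z_ord, pow_two] at this

omit D in
theorem pow_gcd_eq_one' {n : ℕ} {g : G} {m : ℕ} (h1 : g ^ m = 1) (h2 : g ^ n = 1) : g ^ Nat.gcd m n = 1 :=
  orderOf_dvd_iff_pow_eq_one.1 (Nat.dvd_gcd (orderOf_dvd_of_pow_eq_one h1) (orderOf_dvd_of_pow_eq_one h2))

theorem SData.pow_card {g : G} (hg : g ∈ Subgroup.centralizer ({z} : Set G)) : g ^ 1152 = 1 := by
  have := pow_card_eq_one' (G := Subgroup.centralizer ({z} : Set G)) (x := ⟨g, hg⟩)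
  rw [D.card_H] at this
  exact congrArg Subtype.val this

/-- odd elements commuting with the first generator, inside the centralizer of `z` -/
theorem SData.odd_cent {g : G} (hg : g ∈ Subgroup.centralizer ({z} : Set G))
    (hx : g * val 5 i p a s xC = val 5 i p a s xC * g) (hodd : Odd (orderOf g)) : g ∈ D.PXg := by
  obtain ⟨n, hn, rfl⟩ := D.bij.2.1 g hg
  obtain ⟨-, -, -, -, -, -, -, -, -, -, lx, -, -, -, -⟩ := fx_facts
  have h9 : val 5 i p a s n ^ 9 = 1 := by
    refine orderOf_dvd_iff_pow_eq_one.1 ?_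
    have h := orderOf_dvd_of_pow_eq_one (D.pow_card hg)
    rw [show (1152 : ℕ) = 2 ^ 7 * 9 by norm_num] at h
    refine ((Nat.Coprime.pow_right 7 ?_).dvd_of_dvd_mul_left (k := orderOf _) h)
    exact Nat.Coprime.symm ((Nat.Prime.coprime_iff_not_dvd Nat.prime_two).2 fun hd =>
      (Nat.not_even_iff_odd.2 hodd) (even_iff_two_dvd.2 hd))
  obtain ⟨h1, e1⟩ := D.hpow_spec hn 9
  have h := cent_facts.2.1
  simp only [List.all_eq_true, List.mem_range, Bool.or_eq_true, memB_iff, Nat.beq_eq, Bool.not_eq_true',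
    Bool.eq_false_iff, ne_eq] at h
  rcases h n hn with (h | h) | h
  · exact absurd ((D.commV hn lx).1 hx) h
  · exact absurd (D.inj h1 (by norm_num) (by rw [e1, h9, val_zero])) h
  · exact ⟨n, h, rfl⟩

/-- 2-subgroups of the centralizer of the group of order nine -/
theorem SData.two_subgroup {T : Subgroup G} (hT : IsPGroup 2 T) (hzT : z ∈ T)
    (hle : T ≤ Subgroup.centralizer (D.PXg : Set G)) : ∀ g ∈ T, g = 1 ∨ g = z := by
  classical
  haveI : Fact (Nat.Prime 2) := ⟨Nat.prime_two⟩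
  have small : ∀ g ∈ T, g * z = z * g → g = 1 ∨ g = z := by
    intro g hg hgz
    obtain ⟨n, hn, rfl⟩ := D.bij.2.1 g (Subgroup.mem_centralizer_singleton_iff.2 hgz)
    obtain ⟨-, -, -, -, -, -, -, -, -, -, lx, lb, -, -, -⟩ := fx_facts
    obtain ⟨hxm, hbm, -⟩ := D.xb_mem
    have hc := Subgroup.mem_centralizer_iff.1 (hle hg)
    obtain ⟨hlist, hcp⟩ : _ ∧ _ := Bool.and_eq_true_iff.1 cent_facts.1
    simp only [List.all_eq_true, Bool.and_eq_true, Bool.or_eq_true, Nat.beq_eq, Bool.not_eq_true',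
      Bool.eq_false_iff, ne_eq, decide_eq_true_eq] at hlist hcp
    have hmem : n ∈ cpList := by
      rw [← hlist, List.mem_filter, List.mem_range, Bool.and_eq_true, Nat.beq_eq, Nat.beq_eq]
      exact ⟨hn, (D.commV hn lx).1 (hc _ hxm).symm, (D.commV hn lb).1 (hc _ hbm).symm⟩
    obtain ⟨k, hk⟩ := hT ⟨_, hg⟩
    have hk' : val 5 i p a s n ^ (2 ^ k) = 1 := congrArg Subtype.val hk
    have h2 : val 5 i p a s n ^ 2 = 1 := by
      have h18 : val 5 i p a s n ^ 18 = 1 := by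
        have hmem' : ∀ h ∈ cpList, Nat.beq (hpow h 18) 0 = true := by decide +kernel
        rw [← (D.hpow_spec hn 18).2, Nat.eq_of_beq_eq_true (hmem' n hmem), val_zero]
      have := pow_gcd_eq_one' hk' h18
      have hg2 : Nat.gcd (2 ^ k) 18 ∣ 2 := by
        refine (Nat.Coprime.dvd_of_dvd_mul_right (k := Nat.gcd (2 ^ k) 18) (n := 9) ?_ ?_)
        · exact Nat.Coprime.coprime_dvd_left (Nat.gcd_dvd_left _ _) ((show Nat.Coprime 2 9 by decide).pow_left _)
        · exact (Nat.gcd_dvd_right _ _)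
      obtain ⟨c, hc2⟩ := hg2
      rw [hc2, pow_mul, this, one_pow]
    obtain ⟨h1, e1⟩ := D.hpow_spec hn 2
    rcases (hcp n hmem).2 with (h | h) | h
    · exact absurd (D.inj h1 (by norm_num) (by rw [e1, h2, val_zero])) h
    · exact Or.inl (by rw [h, val_zero])
    · exact Or.inr (by rw [h, D.dat.z_eq])
  haveI : Nontrivial T := ⟨⟨⟨z, hzT⟩, 1, fun e => D.z_ne'.1 (congrArg Subtype.val e)⟩⟩
  obtain ⟨c, hc⟩ := (nontrivial_iff.1 hT.center_nontrivial : ∃ x y : Subgroup.center T, x ≠ y)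
  obtain ⟨c', hc'⟩ := hc
  obtain ⟨c, hc1⟩ : ∃ c : Subgroup.center T, c ≠ 1 := by
    by_cases h : c = 1
    · exact ⟨c', fun e => hc' (h.trans e.symm)⟩
    · exact ⟨c, h⟩
  have hcc : ∀ g ∈ T, g * ((c : T) : G) = ((c : T) : G) * g := fun g hg =>
    congrArg Subtype.val (Subgroup.mem_center_iff.1 c.2 ⟨g, hg⟩)
  rcases small _ (c : T).2 (hcc z hzT).symm with h | h
  · exact absurd (Subtype.ext (Subtype.ext h)) hc1
  · exact fun g hg => small g hg (h ▸ hcc g hg)

/-- elements normalizing the group of order nine fix the two distinguished subgroups of order three -/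
theorem SData.norm_action {n : G} (hx : n * val 5 i p a s xC * n⁻¹ ∈ D.PXg)
    (hb : n * val 5 i p a s bC * n⁻¹ ∈ D.PXg) :
    (n * val 5 i p a s xC * n⁻¹ = val 5 i p a s xC ∨ n * val 5 i p a s xC * n⁻¹ = (val 5 i p a s xC)⁻¹) ∧
    (n * val 5 i p a s x2C * n⁻¹ = val 5 i p a s x2C ∨ n * val 5 i p a s x2C * n⁻¹ = (val 5 i p a s x2C)⁻¹) := by
  classical
  haveI : Fact (Nat.Prime 2) := ⟨Nat.prime_two⟩
  set C := Subgroup.centralizer (D.PXg : Set G)
  have hN : ∀ k ∈ D.PXg, n * k * n⁻¹ ∈ D.PXg := fun k hk => D.norm_PX hx hb hk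
  have hN' : ∀ k ∈ D.PXg, n⁻¹ * k * n ∈ D.PXg := fun k hk => conj_image_mem hN hk
  have hnz : n * z * n⁻¹ ∈ C := by
    rw [Subgroup.mem_centralizer_iff]
    intro k hk
    have := Subgroup.mem_centralizer_iff.1 D.z_cent _ (hN' k hk)
    calc k * (n * z * n⁻¹) = n * (n⁻¹ * k * n * z) * n⁻¹ := by group
      _ = n * (z * (n⁻¹ * k * n)) * n⁻¹ := by rw [this]
      _ = _ := by group
  obtain ⟨hz1, hz2⟩ := D.z_ne'
  have mk : ∀ g : G, g ∈ C → g * g = 1 → ∃ T : Sylow 2 C, ∃ hg : g ∈ C, (⟨g, hg⟩ : C) ∈ T := by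
    intro g hg hg2
    have hp : IsPGroup 2 (Subgroup.zpowers (⟨g, hg⟩ : C)) := by
      rintro ⟨x, hx'⟩
      obtain ⟨m, rfl⟩ := Subgroup.mem_zpowers_iff.1 hx'
      refine ⟨1, Subtype.ext (Subtype.ext ?_)⟩
      show ((g ^ m) ^ 2 : G) = 1
      rw [← zpow_natCast, zpow_comm, zpow_natCast, pow_two, hg2, one_zpow]
    obtain ⟨T, hT⟩ := hp.exists_le_sylow
    exact ⟨T, hg, hT (Subgroup.mem_zpowers _)⟩
  obtain ⟨T, hzC, hzT⟩ := mk z D.z_cent hz2
  have hn2 : n * z * n⁻¹ * (n * z * n⁻¹) = 1 := by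
    rw [show n * z * n⁻¹ * (n * z * n⁻¹) = n * (z * z) * n⁻¹ by group, hz2]; group
  obtain ⟨T', hnC, hnT⟩ := mk _ hnz hn2
  obtain ⟨c, hc⟩ := MulAction.exists_smul_eq C T' T
  have hmem : c * (⟨n * z * n⁻¹, hnC⟩ : C) * c⁻¹ ∈ (T : Subgroup C) := by
    rw [← hc, Sylow.coe_subgroup_smul, Subgroup.mem_pointwise_smul_iff_inv_smul_mem]
    simp only [MulAut.smul_def, ← map_inv, MulAut.conj_apply, inv_inv]
    rw [show c⁻¹ * (c * (⟨n * z * n⁻¹, hnC⟩ : C) * c⁻¹) * c = ⟨n * z * n⁻¹, hnC⟩ by group]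
    exact hnT
  have hkey := D.two_subgroup (T := (T : Subgroup C).map C.subtype) (T.2.map _) ⟨_, hzT, rfl⟩
    (Subgroup.map_subtype_le _) _ ⟨_, hmem, rfl⟩
  set m := (c : G) * n with hm'
  have hkey' : m * z * m⁻¹ = 1 ∨ m * z * m⁻¹ = z := by
    have e : C.subtype (c * (⟨n * z * n⁻¹, hnC⟩ : C) * c⁻¹) = m * z * m⁻¹ := by
      show (c : G) * (n * z * n⁻¹) * (c : G)⁻¹ = _
      rw [hm']; group
    rw [e] at hkey; exact hkey
  have hmH : m ∈ Subgroup.centralizer ({z} : Set G) := by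
    rcases hkey' with h | h
    · exfalso; exact hz1 (by rw [show z = m⁻¹ * (m * z * m⁻¹) * m by group, h]; group)
    · exact Subgroup.mem_centralizer_singleton_iff.2 (mul_inv_eq_iff_eq_mul.1 h)
  have hcfix : ∀ k ∈ D.PXg, m * k * m⁻¹ = n * k * n⁻¹ := fun k hk => by
    have := Subgroup.mem_centralizer_iff.1 c.2 _ (hN k hk)
    rw [hm', show (c : G) * n * k * ((c : G) * n)⁻¹ = (c : G) * (n * k * n⁻¹) * (c : G)⁻¹ by group, ← this]
    group
  obtain ⟨h, hh, hhm⟩ := D.bij.2.1 m hmH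
  obtain ⟨-, -, -, -, -, -, -, -, -, -, lx, lb, -, -, l2⟩ := fx_facts
  obtain ⟨hxm, hbm, h2m⟩ := D.xb_mem
  have hf := cent_facts.2.2.1
  simp only [List.all_eq_true, List.mem_range, Bool.and_eq_true, Bool.or_eq_true, memB_iff, Nat.beq_eq,
    Bool.not_eq_true', Bool.eq_false_iff, ne_eq] at hf
  have pull : ∀ {y : ℕ}, y < 1152 → val 5 i p a s y ∈ D.PXg →
      val 5 i p a s (cj 5 h y) = n * val 5 i p a s y * n⁻¹ := fun hy hm2 => by
    rw [← D.cjV hh hy, hhm, hcfix _ hm2]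
  have inPX : ∀ {y : ℕ}, y < 1152 → val 5 i p a s y ∈ D.PXg → cj 5 h y ∈ pxList := fun hy hm2 => by
    obtain ⟨q, hq, e⟩ := hN _ hm2
    rwa [D.inj (cj_spec D.dat.rel hh hy).1 (D.px_lt hq) ((pull hy hm2).trans e.symm)]
  obtain ⟨h1, h2⟩ := (hf h hh).resolve_left (fun e => e ⟨inPX lx hxm, inPX lb hbm⟩)
  refine ⟨?_, ?_⟩
  · rw [← pull lx hxm, ← (hi_spec D.dat.rel lx).2]
    rcases h1 with e | e <;> rw [e] <;> simp
  · rw [← pull l2 h2m, ← (hi_spec D.dat.rel l2).2]
    rcases h2 with e | e <;> rw [e] <;> simp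

/-- an odd element in the centralizer of the group of order nine, outside it -/
theorem SData.exists_odd_outside :
    ∃ r : G, Odd (orderOf r) ∧ r ∉ D.PXg ∧ r ∈ Subgroup.centralizer (D.PXg : Set G) := by
  classical
  haveI : Fact (Nat.Prime 3) := ⟨Nat.prime_three⟩
  set X := val 5 i p a s xC with hX
  obtain ⟨hfx, hf3, -⟩ := D.fx
  rw [← hX] at hfx
  set f := d * val 5 i p a s wC * d⁻¹ with hf
  obtain ⟨-, hx3, -, -, hhW, -, -, -, -, hw, lx, lb, lw, lh, l2⟩ := fx_facts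
  obtain ⟨hxm, hbm, h2m⟩ := D.xb_mem
  rw [← hX] at hxm
  have hX3 : X * X * X = 1 := by
    rw [hX, D.mulV lx lx, D.mulV (hm_spec D.dat.rel lx lx).1 lx, Nat.eq_of_beq_eq_true hx3, val_zero]
  have hcomm : Commute f X := mul_inv_eq_iff_eq_mul.1 (mul_inv_eq_one.1 hfx)
  have hP3 : IsPGroup 3 D.PXg := IsPGroup.of_card (n := 2) (by rw [D.card_PX]; rfl)
  -- the Sylow subgroups are larger
  obtain ⟨T, hT⟩ := hP3.exists_le_sylow
  have hne : D.PXg ≠ (T : Subgroup G) := by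
    intro hEq
    -- a commutative 3-group containing both elements
    set X' := Subgroup.closure ({X, f} : Set G)
    have hc2 : ∀ u ∈ ({X, f} : Set G), ∀ v ∈ ({X, f} : Set G), u * v = v * u := by
      rintro u (rfl | rfl) v (rfl | rfl)
      exacts [rfl, hcomm.symm.eq, hcomm.eq, rfl]
    have hcX : ∀ u ∈ X', ∀ v ∈ X', Commute u v := by
      intro u hu v hv
      induction hu, hv using Subgroup.closure_induction₂ with
      | mem x y hx hy => exact hc2 x hx y hy
      | one_left x hx => exact Commute.one_left x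
      | one_right x hx => exact Commute.one_right x
      | mul_left x y w hx hy hw h1 h2 => exact h1.mul_left h2
      | mul_right x y w hx hy hw h1 h2 => exact h1.mul_right h2
      | inv_left x y hx hy h => exact h.inv_left
      | inv_right x y hx hy h => exact h.inv_right
    have hp : IsPGroup 3 X' := by
      rintro ⟨g, hg⟩
      refine ⟨1, Subtype.ext ?_⟩
      show g ^ (3 ^ 1) = 1
      rw [pow_one]
      induction hg using Subgroup.closure_induction with
      | mem x hx =>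
        rcases hx with rfl | rfl
        · rw [pow_succ, pow_two]; exact hX3
        · exact hf3
      | one => exact one_pow _
      | mul x y hx hy h1 h2 => rw [(hcX x hx y hy).mul_pow, h1, h2, one_mul]
      | inv x hx h => rw [inv_pow, h, inv_one]
    obtain ⟨T', hT'⟩ := hp.exists_le_sylow
    obtain ⟨m, hm'⟩ := MulAction.exists_smul_eq G T' T
    have into : ∀ u ∈ X', m * u * m⁻¹ ∈ D.PXg := by
      intro u hu
      rw [hEq, ← hm', Sylow.coe_subgroup_smul, Subgroup.mem_pointwise_smul_iff_inv_smul_mem]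
      simp only [MulAut.smul_def, ← map_inv, MulAut.conj_apply, inv_inv]
      rw [show m⁻¹ * (m * u * m⁻¹) * m = u by group]
      exact hT' hu
    have hcent : ∀ u ∈ D.PXg, u ∈ Subgroup.centralizer ((T : Subgroup G) : Set G) := fun u hu => by
      rw [Subgroup.mem_centralizer_iff, ← hEq]
      exact fun v hv => D.PX_comm hv hu
    have burn : ∀ g : G, g⁻¹ * X * g ∈ D.PXg → g⁻¹ * X * g = X ∨ g⁻¹ * X * g = X⁻¹ := by
      intro g hg
      obtain ⟨n, hn, e⟩ := Sylow.conj_eq_normalizer_conj_of_mem_centralizer T X g (hcent _ hxm) (hcent _ hg)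
      rw [e]
      have hn' : ∀ k ∈ D.PXg, n⁻¹ * k * (n⁻¹)⁻¹ ∈ D.PXg := fun k hk => by
        rw [hEq] at hk ⊢
        exact (Subgroup.mem_normalizer_iff.1 (inv_mem hn) k).1 hk
      have := (D.norm_action (hn' _ hxm) (hn' _ hbm)).1
      rwa [← hX, inv_inv] at this
    have hfX : f = d * val 5 i p a s hWC * X * (d * val 5 i p a s hWC)⁻¹ := by
      rw [hf, ← Nat.eq_of_beq_eq_true hhW, ← D.cjV lh lx, ← hX]; group
    have b1 := burn m⁻¹ (by rw [inv_inv]; exact into X (Subgroup.subset_closure (by simp)))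
    have b2 := burn ((d * val 5 i p a s hWC)⁻¹ * m⁻¹) (by
      rw [show ((d * val 5 i p a s hWC)⁻¹ * m⁻¹)⁻¹ * X * ((d * val 5 i p a s hWC)⁻¹ * m⁻¹) =
        m * (d * val 5 i p a s hWC * X * (d * val 5 i p a s hWC)⁻¹) * m⁻¹ by group, ← hfX]
      exact into f (Subgroup.subset_closure (by simp)))
    rw [inv_inv] at b1
    rw [show ((d * val 5 i p a s hWC)⁻¹ * m⁻¹)⁻¹ * X * ((d * val 5 i p a s hWC)⁻¹ * m⁻¹) =
      m * (d * val 5 i p a s hWC * X * (d * val 5 i p a s hWC)⁻¹) * m⁻¹ by group, ← hfX] at b2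
    have hfx' : f = X ∨ f = X⁻¹ := by
      have e : ∀ u : G, m * u * m⁻¹ = m * f * m⁻¹ → f = u := fun u h => (mul_left_cancel (mul_right_cancel h)).symm
      rcases b1 with e1 | e1 <;> rcases b2 with e2 | e2
      · exact Or.inl (e X (e1.trans e2.symm))
      · exact Or.inr (e X⁻¹ (by rw [e2, show m * X⁻¹ * m⁻¹ = (m * X * m⁻¹)⁻¹ by group, e1]))
      · exact Or.inr (e X⁻¹ (by rw [e2, show m * X⁻¹ * m⁻¹ = (m * X * m⁻¹)⁻¹ by group, e1, inv_inv]))
      · exact Or.inl (e X (e1.trans e2.symm))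
    have hfz : f * z = z * f := by
      have hxz : Commute X z := Subgroup.mem_centralizer_singleton_iff.1 (D.bij.1 _ lx)
      rcases hfx' with h | h <;> rw [h]
      exacts [hxz.eq, hxz.inv_left.eq]
    obtain ⟨lz, -, sz, -⟩ := D.z_code
    have h2s : phiF (phiF (zC 5)) ∈ sList 5 := (D.phi (D.phi sz).1).1
    have hw' : hm 5 wC (phiF (phiF (zC 5))) ≠ hm 5 (phiF (phiF (zC 5))) wC := fun e => by
      rw [e, Nat.beq_refl] at hw
      exact Bool.noConfusion hw
    refine hw' ((D.commV lw ((sList_spec (by norm_num)).1 h2s).1).1 ?_)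
    rw [← D.phi2 sz, D.dat.z_eq]
    rw [hf] at hfz
    calc val 5 i p a s wC * (d⁻¹ * z * d) = d⁻¹ * (d * val 5 i p a s wC * d⁻¹ * z) * d := by group
      _ = d⁻¹ * (z * (d * val 5 i p a s wC * d⁻¹)) * d := by rw [hfz]
      _ = _ := by group
  haveI : Group.IsNilpotent (T : Subgroup G) := T.2.isNilpotent
  set P' := D.PXg.subgroupOf (T : Subgroup G) with hP'
  have hlt : P' < ⊤ := lt_top_iff_ne_top.2 fun e => hne (le_antisymm hT (Subgroup.subgroupOf_eq_top.1 e))
  obtain ⟨r, hrN, hrP⟩ := SetLike.exists_of_lt (Group.normalizerCondition_of_isNilpotent P' hlt)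
  have hrPX : (r : G) ∉ D.PXg := fun h => hrP h
  have hrn : ∀ k ∈ D.PXg, (r : G) * k * (r : G)⁻¹ ∈ D.PXg := fun k hk =>
    (Subgroup.mem_normalizer_iff.1 hrN ⟨k, hT hk⟩).1 hk
  obtain ⟨k, hk⟩ := T.2 r
  have hrk : (r : G) ^ (3 ^ k) = 1 := congrArg Subtype.val hk
  have hodd : Odd (orderOf (r : G)) := Odd.of_dvd_nat (Odd.pow (by decide)) (orderOf_dvd_of_pow_eq_one hrk)
  obtain ⟨a1, a2⟩ := D.norm_action (hrn _ hxm) (hrn _ hbm)
  have fixed : ∀ y, ((r : G) * y * (r : G)⁻¹ = y ∨ (r : G) * y * (r : G)⁻¹ = y⁻¹) → Commute (r : G) y := by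
    intro y hy
    have h2 : Commute ((r : G) * r) y := by
      have : (r : G) * r * y * ((r : G) * r)⁻¹ = y := by
        rw [show (r : G) * r * y * ((r : G) * r)⁻¹ = r * ((r : G) * y * (r : G)⁻¹) * (r : G)⁻¹ by group]
        rcases hy with e | e <;> rw [e]
        · exact e
        · rw [show (r : G) * y⁻¹ * (r : G)⁻¹ = ((r : G) * y * (r : G)⁻¹)⁻¹ by group, e, inv_inv]
      exact mul_inv_eq_iff_eq_mul.1 this
    obtain ⟨q, hq⟩ := hodd
    have e : (r : G) = ((r : G) * r) ^ (q + 1) := by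
      rw [← pow_two, ← pow_mul, show 2 * (q + 1) = orderOf (r : G) + 1 by omega, pow_succ, pow_orderOf_eq_one, one_mul]
    rw [e]
    exact h2.pow_left _
  refine ⟨r, hodd, hrPX, ?_⟩
  rw [Subgroup.mem_centralizer_iff]
  intro u hu
  obtain ⟨-, m, n, rfl⟩ := D.PX_gen hu
  exact (((fixed _ a1).pow_right m).mul_right ((fixed _ a2).pow_right n)).eq.symm

theorem SData.cm :
    val 5 i p a s bC * ((d * val 5 i p a s wC * d⁻¹) * val 5 i p a s bC * (d * val 5 i p a s wC * d⁻¹)⁻¹) =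
      ((d * val 5 i p a s wC * d⁻¹) * val 5 i p a s bC * (d * val 5 i p a s wC * d⁻¹)⁻¹) * val 5 i p a s bC := by
  classical
  haveI : Fact (Nat.Prime 2) := ⟨Nat.prime_two⟩
  obtain ⟨r, hrodd, hrPX, hrC⟩ := D.exists_odd_outside
  obtain ⟨hfx, hf3, hact⟩ := D.fx
  set X := val 5 i p a s xC with hX
  set B := val 5 i p a s bC with hB
  set f := d * val 5 i p a s wC * d⁻¹ with hf
  by_contra hno
  set C := Subgroup.centralizer (D.PXg : Set G) with hC
  obtain ⟨hz1, hz2⟩ := D.z_ne'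
  obtain ⟨-, -, -, -, -, hzA, -, hc1, hc2, -, lx, lb, lw, lh, l2⟩ := fx_facts
  have hzA' := memB_iff.1 hzA
  have hf1 : f * z * f⁻¹ = val 5 i p a s eOneC := by
    conv_lhs => rw [← D.dat.z_eq]
    rw [hact _ hzA', hc1]
  have hA1 : eOneC ∈ aList 0 := by
    have h := fx_facts.1
    simp only [List.all_eq_true, Bool.and_eq_true, memB_iff] at h
    rw [← hc1]; exact (h _ hzA').1.1.1.1.2
  have hf2 : f * (f * z * f⁻¹) * f⁻¹ = val 5 i p a s eTwoC := by rw [hf1, hact _ hA1, hc2]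
  obtain ⟨hxm, hbm, -⟩ := D.xb_mem
  rw [← hX] at hxm
  rw [← hB] at hbm
  have hcX : Commute f X := mul_inv_eq_iff_eq_mul.1 (mul_inv_eq_one.1 hfx)
  -- the four-group
  obtain ⟨hE, hEnd⟩ := cent_facts.2.2.2
  simp only [List.all_eq_true, Bool.and_eq_true, memB_iff, Nat.beq_eq, Nat.blt_eq] at hE
  set EL := [0, zC 5, eOneC, eTwoC] with hEL
  let E : Subgroup G :=
    { carrier := {g | ∃ n ∈ EL, val 5 i p a s n = g}
      one_mem' := ⟨0, by simp [hEL], val_zero 5⟩
      mul_mem' := by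
        rintro _ _ ⟨m, hm', rfl⟩ ⟨n, hn, rfl⟩
        exact ⟨_, ((hE m hm').2 n hn).1, (hm_spec D.dat.rel (hE m hm').1.1.1.1 (hE n hn).1.1.1.1).2⟩
      inv_mem' := by
        rintro _ ⟨n, hn, rfl⟩
        refine ⟨n, hn, eq_inv_of_mul_eq_one_left ?_⟩
        rw [D.mulV (hE n hn).1.1.1.1 (hE n hn).1.1.1.1, (hE n hn).1.1.1.2, val_zero] }
  haveI : IsMulCommutative E := ⟨⟨fun u v => by
    obtain ⟨m, hm', em⟩ := u.2
    obtain ⟨n, hn, en⟩ := v.2
    refine Subtype.ext ?_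
    show (u : G) * v = v * u
    rw [← em, ← en]
    exact (D.commV (hE m hm').1.1.1.1 (hE n hn).1.1.1.1).2 ((hE m hm').2 n hn).2⟩⟩
  have hEcard : Nat.card E = 4 := by
    have e : (E : Set G) = ↑(EL.toFinset.image (val 5 i p a s)) := by
      ext g; simp [E, List.mem_toFinset]
    show Nat.card (E : Set G) = 4
    rw [e, Nat.card_coe_set_eq, Set.ncard_coe_finset, Finset.card_image_of_injOn, List.toFinset_card_of_nodup hEnd]
    · rfl
    · intro x hx y hy hxy
      exact D.inj (hE x (List.mem_toFinset.1 hx)).1.1.1.1 (hE y (List.mem_toFinset.1 hy)).1.1.1.1 hxy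
  have hEcyc : ¬ IsCyclic E := by
    intro hc
    obtain ⟨g, hg⟩ := hc.exists_ofOrder_eq_natCard
    obtain ⟨n, hn, en⟩ := g.2
    have hg2 : g ^ 2 = 1 := Subtype.ext (by
      show (g : G) ^ 2 = 1
      rw [← en, pow_two, D.mulV (hE n hn).1.1.1.1 (hE n hn).1.1.1.1, (hE n hn).1.1.1.2, val_zero])
    have := Nat.le_of_dvd (by norm_num) (orderOf_dvd_of_pow_eq_one hg2)
    rw [hg, hEcard] at this; omega
  have hEN : ∀ g ∈ E, ∀ k ∈ D.PXg, g * k * g⁻¹ ∈ D.PXg := by
    rintro _ ⟨n, hn, rfl⟩ k hk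
    refine D.norm_PX ?_ ?_ hk
    · exact ⟨_, (hE n hn).1.1.2, (cj_spec D.dat.rel (hE n hn).1.1.1.1 lx).2⟩
    · exact ⟨_, (hE n hn).1.2, (cj_spec D.dat.rel (hE n hn).1.1.1.1 lb).2⟩
  -- the normal 2-complement
  have hzC : z ∈ C := D.z_cent
  have hzp : IsPGroup 2 (Subgroup.zpowers (⟨z, hzC⟩ : C)) := by
    rintro ⟨x, hx⟩
    obtain ⟨m, rfl⟩ := Subgroup.mem_zpowers_iff.1 hx
    refine ⟨1, Subtype.ext (Subtype.ext ?_)⟩
    show ((z ^ m) ^ 2 : G) = 1
    rw [← zpow_natCast, zpow_comm, zpow_natCast, pow_two, hz2, one_zpow]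
  obtain ⟨T, hT⟩ := hzp.exists_le_sylow
  have hzT : (⟨z, hzC⟩ : C) ∈ T := hT (Subgroup.mem_zpowers _)
  have hTel : ∀ u ∈ (T : Subgroup C), u = 1 ∨ u = ⟨z, hzC⟩ := by
    intro u hu
    rcases D.two_subgroup (T := (T : Subgroup C).map C.subtype) (T.2.map _) ⟨_, hzT, rfl⟩
      (Subgroup.map_subtype_le _) _ ⟨_, hu, rfl⟩ with e | e
    · exact Or.inl (Subtype.ext e)
    · exact Or.inr (Subtype.ext e)
  have hP : Subgroup.normalizer ((T : Subgroup C) : Set C) ≤ Subgroup.centralizer ((T : Subgroup C) : Set C) := by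
    intro g hg
    rw [Subgroup.mem_centralizer_iff]
    intro u hu
    rcases hTel u hu with rfl | rfl
    · simp
    · rcases hTel _ ((Subgroup.mem_normalizer_iff.1 hg _).1 hzT) with e | e
      · exfalso
        rw [mul_inv_eq_one, mul_eq_left] at e
        exact hz1 (congrArg Subtype.val e)
      · exact (mul_inv_eq_iff_eq_mul.1 e).symm
  set O := (MonoidHom.transferSylow T hP).ker with hO
  have hOodd : Odd (Nat.card O) := by
    rw [← Nat.not_even_iff_odd, even_iff_two_dvd]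
    exact MonoidHom.not_dvd_card_ker_transferSylow T hP
  set O' := O.map C.subtype with hO'
  have hOiff : ∀ g, g ∈ O' ↔ g ∈ C ∧ Odd (orderOf g) := by
    intro g
    constructor
    · rintro ⟨u, hu, rfl⟩
      refine ⟨u.2, ?_⟩
      show Odd (orderOf (u : G))
      rw [Subgroup.orderOf_coe, ← Subgroup.orderOf_mk u hu]
      exact hOodd.of_dvd_nat (orderOf_dvd_natCard _)
    · rintro ⟨hg, hgodd⟩
      refine ⟨⟨g, hg⟩, ?_, rfl⟩
      show MonoidHom.transferSylow T hP ⟨g, hg⟩ = 1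
      have h1 : orderOf (MonoidHom.transferSylow T hP ⟨g, hg⟩) ∣ orderOf g := by
        refine (orderOf_map_dvd _ _).trans ?_
        rw [Subgroup.orderOf_mk]
      have h2 : ∀ u : (T : Subgroup C), u ^ 2 = 1 := fun u => by
        rcases hTel _ u.2 with e | e
        · exact Subtype.ext (by rw [Subgroup.coe_pow, e, one_pow]; rfl)
        · exact Subtype.ext (Subtype.ext (by rw [Subgroup.coe_pow, e, Subgroup.coe_pow, pow_two]; exact hz2))
      have h3 := orderOf_dvd_of_pow_eq_one (h2 (MonoidHom.transferSylow T hP ⟨g, hg⟩))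
      have h4 : Nat.Coprime (orderOf g) 2 := Nat.coprime_two_right.2 hgodd
      exact orderOf_eq_one_iff.1 (Nat.eq_one_of_dvd_coprimes h4 h1 h3)
  have hEO : E ≤ Subgroup.normalizer (O' : Set G) := by
    intro g hg
    have key : ∀ g ∈ E, ∀ u ∈ O', g * u * g⁻¹ ∈ O' := by
      intro g hg u hu
      obtain ⟨huC, huo⟩ := (hOiff u).1 hu
      refine (hOiff _).2 ⟨?_, ?_⟩
      · rw [Subgroup.mem_centralizer_iff]
        intro k hk
        have hk' := hEN _ (inv_mem hg) k hk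
        rw [inv_inv] at hk'
        have := Subgroup.mem_centralizer_iff.1 huC _ hk'
        calc k * (g * u * g⁻¹) = g * (g⁻¹ * k * g * u) * g⁻¹ := by group
          _ = g * (u * (g⁻¹ * k * g)) * g⁻¹ := by rw [this]
          _ = _ := by group
      · rwa [← MulAut.conj_apply, MulEquiv.orderOf_eq]
    rw [Subgroup.mem_normalizer_iff]
    intro u
    refine ⟨key g hg u, fun h => ?_⟩
    have := key _ (inv_mem hg) _ h
    rwa [show g⁻¹ * (g * u * g⁻¹) * g⁻¹⁻¹ = u by group] at this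
  have hcop : (Nat.card E).Coprime (Nat.card O') := by
    rw [hEcard, hO', Subgroup.card_map_of_injective C.subtype_injective, show (4 : ℕ) = 2 ^ 2 from rfl]
    exact (Nat.coprime_two_left.2 hOodd).pow_left 2
  have hgen : O' ≤ D.PXg := by
    refine CfsgLib.Coprime.le_of_centralizer_le hEcyc hEO hcop ?_
    rintro g ⟨n, hn, rfl⟩ hne y ⟨hy, hyc⟩
    obtain ⟨hyC, hyo⟩ := (hOiff y).1 hy
    have hyX : Commute y X := (Subgroup.mem_centralizer_iff.1 hyC X hxm).symm
    have hyB : Commute y B := (Subgroup.mem_centralizer_iff.1 hyC B hbm).symm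
    have hyc' : y * val 5 i p a s n = val 5 i p a s n * y := Subgroup.mem_centralizer_singleton_iff.1 hyc
    simp only [hEL, List.mem_cons, List.not_mem_nil, or_false] at hn
    have pull : ∀ g : G, Commute g X → Commute y (g * z * g⁻¹) → g⁻¹ * y * g ∈ D.PXg := by
      intro g hgX hgy
      refine D.odd_cent (Subgroup.mem_centralizer_singleton_iff.2 ?_) ?_ ?_
      · calc g⁻¹ * y * g * z = g⁻¹ * (y * (g * z * g⁻¹)) * g := by group
          _ = g⁻¹ * (g * z * g⁻¹ * y) * g := by rw [hgy.eq]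
          _ = _ := by group
      · exact ((hgX.inv_left.mul_left hyX).mul_left hgX).eq
      · rwa [show g⁻¹ * y * g = MulAut.conj g⁻¹ y by rw [MulAut.conj_apply, inv_inv], MulEquiv.orderOf_eq]
    have step : ∀ g : G, Commute g X → g⁻¹ * y * g ∈ D.PXg → y ∈ D.PXg ∨ Commute B (g⁻¹ * B * g) := by
      intro g hgX hmem
      obtain ⟨m, hm', em⟩ := hmem
      have h := px_facts.2.2.2.2.2
      simp only [List.all_eq_true, Bool.and_eq_true, Bool.or_eq_true, List.any_eq_true, Nat.beq_eq] at h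
      rcases (h m hm').1.2 with ((h0 | h0) | h0) | ⟨k, -, k', -, e⟩
      · left
        rw [h0, val_zero] at em
        rw [show y = g * (g⁻¹ * y * g) * g⁻¹ by group, ← em]
        simp
      · left
        rw [h0, ← hX] at em
        rw [show y = g * (g⁻¹ * y * g) * g⁻¹ by group, ← em, hgX.eq]
        simpa using hxm
      · left
        rw [h0, (hi_spec D.dat.rel lx).2, ← hX] at em
        rw [show y = g * (g⁻¹ * y * g) * g⁻¹ by group, ← em, hgX.inv_right.eq]
        simpa using inv_mem hxm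
      · right
        obtain ⟨h1, q1⟩ := D.hpow_spec lx k
        obtain ⟨h2, q2⟩ := D.hpow_spec (D.px_lt hm') k'
        have eB : B = X ^ k * (g⁻¹ * y * g) ^ k' := by
          rw [hB, e, (hm_spec D.dat.rel h1 h2).2, q1, q2, em, hX]
        have c1 : Commute X (g⁻¹ * B * g) := by
          have : Commute X B := D.PX_comm hxm hbm
          exact ((hgX.symm.inv_right.mul_right this).mul_right hgX.symm)
        have c2 : Commute (g⁻¹ * y * g) (g⁻¹ * B * g) := by
          show g⁻¹ * y * g * (g⁻¹ * B * g) = g⁻¹ * B * g * (g⁻¹ * y * g)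
          calc _ = g⁻¹ * (y * B) * g := by group
            _ = g⁻¹ * (B * y) * g := by rw [hyB.eq]
            _ = _ := by group
        conv_lhs => rw [eB]
        exact (c1.pow_left k).mul_left (c2.pow_left k')
    have hcB : ∀ u : G, Commute B (f⁻¹ * u * f) → Commute (f * B * f⁻¹) u := fun u h => by
      show f * B * f⁻¹ * u = u * (f * B * f⁻¹)
      calc _ = f * (B * (f⁻¹ * u * f)) * f⁻¹ := by group
        _ = f * (f⁻¹ * u * f * B) * f⁻¹ := by rw [h.eq]
        _ = _ := by group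
    rcases hn with rfl | rfl | rfl | rfl
    · exact absurd (val_zero 5) hne
    · exact D.odd_cent (Subgroup.mem_centralizer_singleton_iff.2 (by rw [D.dat.z_eq] at hyc'; exact hyc'))
        hyX.eq hyo
    · rcases step f hcX (pull f hcX (by rw [hf1]; exact hyc')) with h | h
      · exact h
      · exact absurd (hcB B h).symm.eq hno
    · have hff : Commute (f * f) X := hcX.mul_left hcX
      rcases step (f * f) hff (pull (f * f) hff (by
        rw [show f * f * z * (f * f)⁻¹ = f * (f * z * f⁻¹) * f⁻¹ by group, hf2]; exact hyc')) with h | h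
      · exact h
      · have e : (f * f)⁻¹ = f := inv_eq_of_mul_eq_one_left (by
          rw [← mul_assoc, ← pow_two, ← pow_succ, hf3])
        have e' : f * f = f⁻¹ := eq_inv_of_mul_eq_one_left (by rw [← pow_two, ← pow_succ, hf3])
        rw [e, e'] at h
        exact absurd h.eq hno
  exact hrPX (hgen ((hOiff r).2 ⟨hrC, hrodd⟩))

end

end CfsgLib.UFourType
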