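import Cfsg.Agent.Lib.UFourType.Rels
import Cfsg.Agent.Lib.UFourType.DataGens
import Cfsg.Agent.Lib.McLRec.U4Model
import Cfsg.Agent.Lib.LeechIso.ChkU4Words
import Cfsg.Agent.Lib.LeechIso.ChkU4ChainM

/-!
The nine generators inside the concrete unitary group.
-/

set_option autoImplicit false
set_option maxRecDepth 100000

namespace CfsgLib.UFourType

open Cfsg CfsgLib.CosetEnum CfsgLib.M24.PackChain CfsgLib.LeechIso

/-- the image of a point under a word in two generators -/
noncomputable def apX (w : List ℕ) (i : ℕ) : ℕ := w.foldr (fun j a => pk (nth U4.Q0 j 0) a) i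

/-- the image of a point under a word in the nine generators -/
noncomputable def ap9 (w : List ℕ) (i : ℕ) : ℕ := w.foldr (fun l a => pk (nth perm9 l 0) a) i

/-- a word acts trivially -/
noncomputable def triv9 (w : List ℕ) : Bool :=
  w.all (fun l => Nat.blt l 9) && (List.range 126).all fun i => Nat.beq (ap9 w i) i

theorem gens_tables : ((List.range 9).all fun l => (gensW.getD l []).all (fun j => Nat.blt j 2) &&
    (List.range 126).all fun i => Nat.beq (apX (gensW.getD l []) i) (pk (nth perm9 l 0) i)) = true ∧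
    ((List.range 2).all fun j => (xWords.getD j []).all (fun l => Nat.blt l 9) &&
      (List.range 126).all fun i => Nat.beq (ap9 (xWords.getD j []) i) (pk (nth U4.Q0 j 0) i)) = true ∧
    ((List.range 126).any fun i => !(Nat.beq (pk (nth U4.Q0 0 0) i) i)) = true ∧ gensW.length = 9 := by
  decide +kernel

theorem perm_rels : (certMain.rels.all triv9) = true ∧
    ([[0, 1], [1, 0], [2, 3], [3, 2], [4, 5], [5, 4], [6, 6], [7, 8], [8, 7]].all triv9) = true ∧
    ((cH 5).rels.all fun r => triv9 (r.map tr9)) = true := by decide +kernel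

/-- The nine generators of the concrete group. -/
theorem exists_gens {K : Type} [Field K] [Fintype K] (hK : Fintype.card K = 9) :
    Nat.card (PSU 4 K 3) = 3265920 ∧ IsSimpleGroup (PSU 4 K 3) ∧
      ∃ y : ℕ → PSU 4 K 3, (∀ n, 9 ≤ n → y n = 1) ∧ (∀ w, triv9 w = true → prodW y w = 1) ∧
        (∀ w, (∀ l ∈ w, l < 9) → prodW y w = 1 → triv9 w = true) ∧
        Subgroup.closure {g | ∃ n < 9, y n = g} = ⊤ := by
  classical
  obtain ⟨hcard, hsimple, ψ, X, hX⟩ := CfsgLib.McLRec.model_u4 hK
  refine ⟨hcard, hsimple, ?_⟩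
  haveI := hsimple
  haveI : Finite (PSU 4 K 3) := Nat.finite_of_card_ne_zero (by rw [hcard]; norm_num)
  have hinj : Function.Injective ψ := by
    rw [← MonoidHom.ker_eq_bot_iff]
    rcases Subgroup.Normal.eq_bot_or_eq_top (MonoidHom.normal_ker ψ) with h | h
    · exact h
    · exfalso
      have hx : ψ (X 0) = 1 := MonoidHom.mem_ker.1 (h ▸ Subgroup.mem_top _)
      have hmv := gens_tables.2.2.1
      simp only [List.any_eq_true, List.mem_range, Bool.not_eq_true', Bool.eq_false_iff, ne_eq, Nat.beq_eq] at hmv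
      obtain ⟨i, hi, hne⟩ := hmv
      have := hX.2 0 ⟨i, hi⟩
      rw [hx] at this
      exact hne (by simpa using this.symm)
  -- the two elements generate
  set L := Subgroup.closure (Set.range X) with hL
  have htop : L = ⊤ := by
    let X' : Fin 2 → L := fun j => ⟨X j, Subgroup.subset_closure ⟨j, rfl⟩⟩
    have hX' : Packed (ψ.comp L.subtype) X' U4.Q0 := ⟨hX.1, fun j x => hX.2 j x⟩
    obtain ⟨b, hb⟩ := exists_words hX' (show U4.idx.length = 2 from rfl) U4.words_chk
    refine Subgroup.eq_top_of_le_card _ ?_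
    rw [hcard]
    exact (chain_le hb U4.chainM_chk).trans (Subgroup.card_le_card_group _)
  let x : ℕ → PSU 4 K 3 := fun j => if h : j < 2 then X ⟨j, h⟩ else 1
  let y : ℕ → PSU 4 K 3 := fun n => prodW x (gensW.getD n [])
  have hx : ∀ u : List ℕ, (∀ j ∈ u, j < 2) → ∀ i : Fin 126, ((ψ (prodW x u) i : Fin 126) : ℕ) = apX u i := by
    intro u
    induction u with
    | nil => intro _ i; simp [apX]
    | cons j u ih =>
      intro hu i
      have hj := hu j List.mem_cons_self
      rw [prodW_cons, map_mul, Equiv.Perm.mul_apply]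
      simp only [apX, List.foldr_cons]
      rw [show u.foldr (fun j a => pk (nth U4.Q0 j 0) a) (i : ℕ) = apX u i from rfl,
        ← ih (fun a ha => hu a (List.mem_cons_of_mem _ ha)) i]
      simp only [x, dif_pos hj]
      exact hX.2 ⟨j, hj⟩ _
  have ht := gens_tables.1
  simp only [List.all_eq_true, List.mem_range, Bool.and_eq_true, Nat.blt_eq, Nat.beq_eq] at ht
  have hy : ∀ w : List ℕ, (∀ l ∈ w, l < 9) → ∀ i : Fin 126, ((ψ (prodW y w) i : Fin 126) : ℕ) = ap9 w i := by
    intro w
    induction w with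
    | nil => intro _ i; simp [ap9]
    | cons l w ih =>
      intro hw i
      obtain ⟨h2, htab⟩ := ht l (hw l List.mem_cons_self)
      rw [prodW_cons, map_mul, Equiv.Perm.mul_apply, hx _ h2, htab _ (Fin.isLt _),
        ih (fun a ha => hw a (List.mem_cons_of_mem _ ha)) i]
      rfl
  refine ⟨y, fun n hn => ?_, fun w hw => ?_, fun w hw h1 => ?_, ?_⟩
  · show prodW x (gensW.getD n []) = 1
    rw [List.getD_eq_default _ _ (by rw [gens_tables.2.2.2]; exact hn)]
    rfl
  · simp only [triv9, Bool.and_eq_true, List.all_eq_true, Nat.blt_eq, List.mem_range, Nat.beq_eq] at hw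
    refine hinj (Equiv.ext fun i => Fin.ext ?_)
    rw [hy w hw.1, map_one, hw.2 i i.2]; rfl
  · simp only [triv9, Bool.and_eq_true, List.all_eq_true, Nat.blt_eq, List.mem_range, Nat.beq_eq]
    refine ⟨hw, fun i hi => ?_⟩
    have := hy w hw ⟨i, hi⟩
    rw [h1, map_one] at this
    exact this.symm
  · rw [eq_top_iff, ← htop, hL, Subgroup.closure_le]
    rintro _ ⟨j, rfl⟩
    have h := gens_tables.2.1
    simp only [List.all_eq_true, List.mem_range, Bool.and_eq_true, Nat.blt_eq, Nat.beq_eq] at h
    obtain ⟨h9, htab⟩ := h j j.2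
    have e : prodW y (xWords.getD j []) = X j := hinj (Equiv.ext fun i => Fin.ext (by
      rw [hy _ h9, htab i i.2, hX.2 j i]))
    rw [SetLike.mem_coe, ← e]
    refine Subgroup.list_prod_mem _ fun g hg => ?_
    obtain ⟨l, hl, rfl⟩ := List.mem_map.1 hg
    exact Subgroup.subset_closure ⟨l, h9 l hl, rfl⟩

end CfsgLib.UFourType
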