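import Mathlib.Data.Nat.Notation

/-!
Conjugations of the involutions of the centralizer towards the central one.
-/

set_option autoImplicit false
set_option linter.style.longLine false

namespace CfsgLib.UFourType

/-- an involution, the kind of step, the element, and the result; each result occurs earlier -/
def stepList : List (Nat × Nat × Nat × Nat) := [(133, 1, 0, 8), (607, 0, 4, 133), (681, 0, 3, 133), (604, 0, 23, 133), (678, 0, 18, 133), (593, 0, 26, 133), (595, 0, 21, 133), (130, 0, 60, 133), (1077, 0, 79, 133), (1079, 0, 67, 133), (1109, 0, 78, 133), (1111, 0, 66, 133), (592, 0, 73, 133), (594, 0, 61, 133), (1076, 0, 204, 133), (1078, 0, 174, 133), (1108, 0, 201, 133), (1110, 0, 171, 133), (956, 1, 0, 1077), (28, 1, 0, 1079), (122, 1, 0, 1109), (958, 1, 0, 1111), (892, 1, 0, 1076), (123, 1, 0, 1078), (27, 1, 0, 1108), (890, 1, 0, 1110), (265, 0, 4, 956), (821, 0, 3, 956), (237, 0, 23, 956), (398, 0, 18, 956), (770, 0, 15, 956), (769, 0, 20, 956), (288, 0, 14, 956), (289, 0, 25, 956),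 (341, 0, 41, 956), (344, 0, 58, 956), (238, 0, 36, 956), (78, 0, 70, 956), (48, 0, 60, 956), (266, 0, 39, 956), (35, 0, 72, 956), (820, 0, 44, 956), (67, 0, 103, 956), (401, 0, 113, 956), (7, 0, 177, 956), (49, 0, 147, 956), (163, 0, 4, 28), (192, 0, 3, 28), (501, 0, 23, 28), (548, 0, 18, 28), (615, 0, 15, 28), (161, 0, 20, 28), (688, 0, 14, 28), (190, 0, 25, 28), (996, 0, 41, 28), (502, 0, 58, 28), (1025, 0, 36, 28), (549, 0, 70, 28), (1064, 0, 60, 28), (618, 0, 39, 28), (1100, 0, 72, 28), (691, 0, 44, 28), (995, 0, 103, 28), (1024, 0, 113, 28), (1066, 0, 177, 28), (1102, 0, 147, 28)]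

end CfsgLib.UFourType
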