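import Cfsg.Agent.Lib.UFourType.Model

/-!
Constants of the surviving case.
-/

set_option autoImplicit false
set_option linter.style.longLine false

namespace CfsgLib.UFourType

/-- the action of the element of order three -/
def phiL : List (ℕ × ℕ) := [(0, 0), (1, 1141), (2, 1150), (5, 30), (6, 13), (7, 958), (8, 130), (11, 1068), (12, 1096), (13, 81), (16, 47), (27, 1108), (28, 1079), (29, 80), (30, 46), (35, 892), (46, 5), (47, 299), (48, 890), (49, 956), (80, 296), (81, 6), (88, 1140), (91, 1151), (122, 1109), (123, 1078), (130, 133), (133, 8), (208, 1098), (211, 1070), (296, 29), (299, 16), (890, 1110), (892, 1076), (894, 12), (896, 211), (952, 11), (954, 208), (956, 1077), (958, 1111), (1064, 122), (1066, 28), (1068, 952), (1070, 896), (1076, 35), (1077, 49), (1078, 1100), (1079, 1066), (1096, 894), (1098, 954), (1100, 123), (1102, 27), (1108, 1102), (1109, 1064), (1110, 48), (1111, 7), (1140, 1149), (1141, 1143), (1142, 91), (1143, 1), (1148, 2), (1149, 88), (1150, 1148), (1151, 1142)]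

/-- the images of the generators -/
def canY : List ℕ := [1141, 35, 1143, 892]

/-- two elementary abelian subgroups -/
def aList : ℕ → List ℕ
  | 0 => [0, 7, 8, 35, 48, 49, 130, 133, 890, 892, 956, 958, 1076, 1077, 1110, 1111]
  | _ => [0, 8, 27, 28, 122, 123, 130, 133, 1064, 1066, 1078, 1079, 1100, 1102, 1108, 1109]

/-- an element of order three commuting with its twisted conjugate -/
def xC : ℕ := 561

/-- a second element of order three -/
def bC : ℕ := 15

/-- a conjugate of the first element -/
def wC : ℕ := 854

/-- another element of order three -/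
def x2C : ℕ := 567

/-- a conjugating element -/
def hWC : ℕ := 31

/-- a four-group -/
def eOneC : ℕ := 7

/-- a four-group -/
def eTwoC : ℕ := 35

/-- the group of order nine -/
def pxList : List ℕ := [0, 15, 17, 227, 229, 561, 567, 635, 637]

/-- its centralizer -/
def cpList : List ℕ := [0, 8, 10, 15, 17, 18, 225, 227, 229, 231, 561, 563, 565, 567, 633, 635, 637, 639]

end CfsgLib.UFourType
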