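import Cfsg.Agent.Lib.UFourType.Concrete

/-!
The unitary group embeds.
-/

set_option autoImplicit false
set_option maxRecDepth 100000
set_option maxHeartbeats 1000000

namespace CfsgLib.UFourType

open Cfsg CfsgLib.CosetEnum

theorem main_info : certMain.K = 9 ∧ certMain.invs = [1, 0, 3, 2, 5, 4, 6, 8, 7] ∧
    certMain.subs = [[0], [2], [4], [6]] ∧ certMain.N = 2835 := by
  have h := choice_info
  simp only [List.all_eq_true, List.mem_range, Bool.and_eq_true, decide_eq_true_eq, Nat.beq_eq] at h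
  obtain ⟨⟨⟨⟨⟨hK, hinv⟩, hsub⟩, -⟩, -⟩, hN⟩ := h 3 (by norm_num)
  exact ⟨hK, hinv, hsub, by rw [if_pos rfl] at hN; exact hN⟩

/-- what is used about the image -/
structure Img {G : Type*} [Group G] (i p a s d : G) (L : Subgroup G) : Prop where
  letters : ∀ n, gen9 i p a s d n ∈ L
  card : Nat.card L = 3265920
  simple : IsSimpleGroup L
  eval : ∀ u, triv9 u = true → prodW (gen9 i p a s d) u = 1
  nontriv : ∀ u : List ℕ, (∀ l ∈ u, l < 9) → prodW (gen9 i p a s d) u = 1 → triv9 u = true
  generated : L = Subgroup.closure {g | ∃ n < 9, gen9 i p a s d n = g}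

section

variable {G : Type*} [Group G] [Finite G] {z : G} {Q : Subgroup G} {i p a s d : G}

theorem MData.exists_embedding (M : MData z Q i p a s d) {K : Type} [Field K] [Fintype K]
    (hK9 : Fintype.card K = 9) :
    ∃ f : PSU 4 K 3 →* G, Function.Injective f ∧ Img i p a s d f.range := by
  classical
  obtain ⟨hcard, hsimple, y, hy9, hrel, hback, hgen⟩ := exists_gens hK9
  haveI := hsimple
  haveI : Finite (PSU 4 K 3) := Nat.finite_of_card_ne_zero (by rw [hcard]; norm_num)
  obtain ⟨hrels2, hpairs, hh5⟩ := perm_rels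
  simp only [List.all_eq_true] at hrels2 hpairs hh5
  obtain ⟨hK, hinv, hsub, hN⟩ := main_info
  have D := M.sd
  let P : ℕ → G × PSU 4 K 3 := fun n => (gen9 i p a s d n, y n)
  have hfst : ∀ u, (prodW P u).1 = prodW (gen9 i p a s d) u := fun u => map_prodW (MonoidHom.fst _ _) P u
  have hsnd : ∀ u, (prodW P u).2 = prodW y u := fun u => map_prodW (MonoidHom.snd _ _) P u
  have pair : ∀ u, triv9 u = true → prodW (gen9 i p a s d) u = 1 → prodW P u = 1 := fun u h2 h1 =>
    Prod.ext ((hfst u).trans h1) ((hsnd u).trans (hrel u h2))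
  -- pairs over the centralizer
  let ip : G × PSU 4 K 3 := P 0
  let pp : G × PSU 4 K 3 := P 2
  let ap : G × PSU 4 K 3 := P 4
  let sp : G × PSU 4 K 3 := P 6
  have two : ∀ u v, triv9 [u, v] = true → gen9 i p a s d u * gen9 i p a s d v = 1 → P u * P v = 1 := fun u v h2 h1 => by
    have := pair [u, v] h2 (by simpa [prodW] using h1)
    simpa [prodW] using this
  have inv01 : P 1 = (P 0)⁻¹ := eq_inv_of_mul_eq_one_right (two 0 1 (hpairs _ (by simp)) (by simp [gen9]))
  have inv23 : P 3 = (P 2)⁻¹ := eq_inv_of_mul_eq_one_right (two 2 3 (hpairs _ (by simp)) (by simp [gen9]))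
  have inv45 : P 5 = (P 4)⁻¹ := eq_inv_of_mul_eq_one_right (two 4 5 (hpairs _ (by simp)) (by simp [gen9]))
  have inv66 : P 6 = (P 6)⁻¹ := eq_inv_of_mul_eq_one_right (two 6 6 (hpairs _ (by simp)) (by simp [gen9, D.s_sq]))
  have e8 : ∀ l < 8, gen8 ip pp ap sp l = P (tr9 l) := by
    intro l hl
    interval_cases l <;> simp [gen8, tr9, ip, pp, ap, sp, inv01, inv23, inv45, ← inv66]
  have hlen := (info (by norm_num : (5 : ℕ) < 8)).2.2.2.2
  have R : HRel 5 ip pp ap sp := ⟨by norm_num, fun r hr => by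
    rw [show prodW (gen8 ip pp ap sp) r = prodW P (r.map tr9) by
      unfold prodW
      rw [List.map_map]
      exact congrArg List.prod (List.map_congr_left fun l hl => e8 l (hlen r hr l hl))]
    refine pair _ (hh5 r hr) ?_
    have hb := D.base_hold (r.map tr9) (by simp only [baseRels, List.mem_append, List.mem_map]; exact Or.inl (Or.inl (Or.inl ⟨r, hr, rfl⟩)))
    exact hb⟩
  set H0 := Subgroup.closure ({ip, pp, ap, sp} : Set (G × PSU 4 K 3)) with hH0
  obtain ⟨hN5, hK5, -, -, -⟩ := info (by norm_num : (5 : ℕ) < 8)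
  have hb0 := finite_card_le (cH_complete 5) (model R) 1 (by simp)
  rw [hN5] at hb0
  obtain ⟨hfin0, hle0⟩ := hb0
  haveI := hfin0
  have hH0le : H0 ≤ Subgroup.closure {g | ∃ l < (cH 5).K, gen8 ip pp ap sp l = g} := by
    rw [hH0, Subgroup.closure_le]
    intro g hg
    simp only [Set.mem_insert_iff, Set.mem_singleton_iff] at hg
    rcases hg with rfl | rfl | rfl | rfl
    exacts [Subgroup.subset_closure ⟨0, by omega, rfl⟩, Subgroup.subset_closure ⟨2, by omega, rfl⟩,
      Subgroup.subset_closure ⟨4, by omega, rfl⟩, Subgroup.subset_closure ⟨6, by omega, rfl⟩]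
  haveI : Finite H0 := Finite.of_injective _ (Subgroup.inclusion_injective hH0le)
  have hH0card : Nat.card H0 ≤ 1152 := by
    refine (Subgroup.card_le_of_le hH0le).trans (hle0.trans (by norm_num))
  have m : Model certMain H0 P := by
    refine ⟨?_, fun g => ?_, fun u hu => pair u (hrels2 u hu) (M.rels u hu), fun w hw => ?_⟩
    · rw [hK]; exact Prod.ext rfl (hy9 9 le_rfl)
    · rw [Cert.inv, hinv]
      match g with
      | 0 | 1 | 2 | 3 | 4 | 5 | 7 | 8 => exact two _ _ (hpairs _ (by simp)) (by simp [gen9])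
      | 6 => exact two _ _ (hpairs _ (by simp)) (by simp [gen9, D.s_sq])
      | n + 9 =>
        rw [List.getD_eq_default _ _ (by simp), show P (n + 9) = 1 from Prod.ext rfl (hy9 _ (by omega)), one_mul]
    · rw [hsub] at hw
      simp only [List.mem_cons, List.not_mem_nil, or_false] at hw
      rcases hw with rfl | rfl | rfl | rfl <;>
        simp only [prodW, List.map_cons, List.map_nil, List.prod_cons, List.prod_nil, mul_one] <;>
        exact Subgroup.subset_closure (by simp [ip, pp, ap, sp])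
  obtain ⟨hfin, hle⟩ := finite_card_le certMain_complete m 1152 hH0card
  rw [hN, hK, show 2835 * 1152 = 3265920 by norm_num] at hle
  set Ds := Subgroup.closure {g | ∃ k < 9, P k = g} with hDs
  haveI : Finite Ds := by rw [hK] at hfin; exact hfin
  let π2 : Ds →* PSU 4 K 3 := (MonoidHom.snd _ _).comp Ds.subtype
  have hs2 : Function.Surjective π2 := by
    rw [← MonoidHom.range_eq_top, eq_top_iff, ← hgen, Subgroup.closure_le]
    rintro _ ⟨n, hn, rfl⟩
    exact ⟨⟨P n, Subgroup.subset_closure ⟨n, hn, rfl⟩⟩, rfl⟩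
  have hb : Function.Bijective π2 := (Nat.bijective_iff_surjective_and_card π2).2
    ⟨hs2, le_antisymm (hle.trans hcard.ge) (Nat.card_le_card_of_surjective π2 hs2)⟩
  let e2 := MulEquiv.ofBijective π2 hb
  let f : PSU 4 K 3 →* G := ((MonoidHom.fst _ _).comp Ds.subtype).comp e2.symm.toMonoidHom
  have hf : ∀ n, f (y n) = gen9 i p a s d n := by
    intro n
    rcases Nat.lt_or_ge n 9 with hn | hn
    · have : e2.symm (y n) = ⟨P n, Subgroup.subset_closure ⟨n, hn, rfl⟩⟩ := e2.symm_apply_eq.2 rfl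
      show ((e2.symm (y n) : Ds) : G × PSU 4 K 3).1 = _
      rw [this]
    · obtain ⟨j, rfl⟩ : ∃ j, n = j + 9 := ⟨n - 9, by omega⟩
      rw [hy9 _ hn, map_one]; rfl
  have hinj : Function.Injective f := by
    rw [← MonoidHom.ker_eq_bot_iff]
    rcases Subgroup.Normal.eq_bot_or_eq_top (MonoidHom.normal_ker f) with h | h
    · exact h
    · exfalso
      have h0 : f (y 7) = 1 := MonoidHom.mem_ker.1 (h ▸ Subgroup.mem_top _)
      have hd : d = 1 := by rw [hf 7] at h0; exact h0
      obtain ⟨lz, lt, -⟩ := D.z_code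
      obtain ⟨hdz, -, -⟩ := D.dz
      rw [hd] at hdz
      have hne : ¬ Nat.beq (zC 5) (tC 5) = true := by decide +kernel
      refine hne ?_
      rw [D.inj lz lt (by rw [D.dat.z_eq, ← hdz]; group)]
      exact Nat.beq_refl _
  refine ⟨f, hinj, ⟨fun n => ⟨y n, hf n⟩, ?_, ?_, fun u hu => ?_, fun u hu h1 => hback u hu (hinj ?_), ?_⟩⟩
  · rw [← hcard]; exact (Nat.card_congr (MonoidHom.ofInjective hinj).toEquiv).symm
  · exact (MulEquiv.isSimpleGroup_congr (MonoidHom.ofInjective hinj).symm).2 hsimple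
  · rw [← funext hf, ← map_prodW f y u, hrel u hu, map_one]
  · rw [map_prodW f y u, funext hf, map_one]; exact h1
  · rw [MonoidHom.range_eq_map, ← hgen, MonoidHom.map_closure]
    congr 1
    ext g
    simp only [Set.mem_image, Set.mem_ofPred_eq]
    constructor
    · rintro ⟨_, ⟨n, hn, rfl⟩, rfl⟩; exact ⟨n, hn, (hf n).symm⟩
    · rintro ⟨n, hn, rfl⟩; exact ⟨_, ⟨n, hn, rfl⟩, hf n⟩

end

end CfsgLib.UFourType
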