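import Cfsg.Agent.Lib.UFourType.Data
import Cfsg.Agent.Lib.UFourType.CheckH0
import Cfsg.Agent.Lib.UFourType.CheckH1
import Cfsg.Agent.Lib.UFourType.CheckH2
import Cfsg.Agent.Lib.UFourType.CheckH3
import Cfsg.Agent.Lib.UFourType.CheckH4
import Cfsg.Agent.Lib.UFourType.CheckH5
import Cfsg.Agent.Lib.UFourType.CheckH6
import Cfsg.Agent.Lib.UFourType.CheckH7
import Mathlib.Tactic

/-!
A computable model of the eight candidate centralizers of an involution.
-/

set_option autoImplicit false
set_option maxRecDepth 100000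

namespace CfsgLib.UFourType

open CfsgLib.CosetEnum

/-- the eight letters -/
def gen8 {G : Type*} [Group G] (i p a s : G) : ℕ → G
  | 0 => i | 1 => i⁻¹ | 2 => p | 3 => p⁻¹ | 4 => a | 5 => a⁻¹ | 6 => s | 7 => s⁻¹ | _ => 1

theorem map_gen8 {G G' : Type*} [Group G] [Group G'] (f : G →* G') (i p a s : G) (n : ℕ) :
    f (gen8 i p a s n) = gen8 (f i) (f p) (f a) (f s) n := by
  match n with
  | 0 => rfl | 1 => exact map_inv f i | 2 => rfl | 3 => exact map_inv f p | 4 => rfl
  | 5 => exact map_inv f a | 6 => rfl | 7 => exact map_inv f s | n + 8 => exact map_one f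

/-- the certificate of a case -/
def cH : ℕ → Cert
  | 0 => certH0 | 1 => certH1 | 2 => certH2 | 3 => certH3 | 4 => certH4 | 5 => certH5 | 6 => certH6
  | _ => certH7

theorem cH_complete (k : ℕ) : (cH k).Complete := by
  unfold cH
  split
  exacts [certH0_complete, certH1_complete, certH2_complete, certH3_complete, certH4_complete,
    certH5_complete, certH6_complete, certH7_complete]

/-- a word from its code in base eight -/
noncomputable def unpack : ℕ → List ℕ := fun x =>
  Nat.rec (fun _ => ([] : List ℕ))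
    (fun _ ih y => pick (Nat.ble y 1) [] (Nat.mod y 8 :: ih (Nat.div y 8))) 11 x

/-- the word of a node -/
noncomputable def word (k n : ℕ) : List ℕ := strict ((wordT k).at' 32 n) unpack

/-- multiplication of codes -/
noncomputable def hm (k a b : ℕ) : ℕ := (cH k).run a (word k b)

/-- inversion of a code -/
noncomputable def hi (k a : ℕ) : ℕ := (cH k).run 0 ((cH k).revInv (word k a))

/-- conjugation of codes -/
noncomputable def cj (k g x : ℕ) : ℕ := hm k (hm k g x) (hi k g)

/-- commutators of codes -/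
noncomputable def cm (k x y : ℕ) : ℕ := hm k (hm k x y) (hm k (hi k x) (hi k y))

theorem cH_info : ((List.range 8).all fun k =>
    Nat.beq (cH k).N 1152 && Nat.beq (cH k).K 8 && decide ((cH k).invs = [1, 0, 3, 2, 5, 4, 7, 6]) &&
    decide ((cH k).subs = []) && ((cH k).rels.all fun r => r.all fun l => Nat.blt l 8)) = true := by
  decide +kernel

theorem word_ok : ((List.range 8).all fun k => (List.range 1152).all fun n =>
    Nat.beq ((cH k).run 0 (word k n)) n && (word k n).all fun l => Nat.blt l 7) = true := by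
  decide +kernel

section

variable {G : Type*} [Group G] {i p a s : G} {k : ℕ}

/-- The relations of a case. -/
structure HRel (k : ℕ) (i p a s : G) : Prop where
  hk : k < 8
  rel : ∀ r ∈ (cH k).rels, prodW (gen8 i p a s) r = 1

theorem info (hk : k < 8) : (cH k).N = 1152 ∧ (cH k).K = 8 ∧ (cH k).invs = [1, 0, 3, 2, 5, 4, 7, 6] ∧
    (cH k).subs = [] ∧ ∀ r ∈ (cH k).rels, ∀ l ∈ r, l < 8 := by
  have h := cH_info
  simp only [List.all_eq_true, List.mem_range, Bool.and_eq_true, Nat.beq_eq, decide_eq_true_eq, Nat.blt_eq] at h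
  obtain ⟨⟨⟨⟨h1, h2⟩, h3⟩, h4⟩, h5⟩ := h k hk
  exact ⟨h1, h2, h3, h4, h5⟩

theorem word_spec (hk : k < 8) {n : ℕ} (hn : n < 1152) :
    (cH k).run 0 (word k n) = n ∧ ∀ l ∈ word k n, l < 7 := by
  have h := word_ok
  simp only [List.all_eq_true, List.mem_range, Bool.and_eq_true, Nat.beq_eq, Nat.blt_eq] at h
  exact h k hk n hn

theorem model (R : HRel k i p a s) : Model (cH k) (⊥ : Subgroup G) (gen8 i p a s) := by
  obtain ⟨-, hK, hinv, hsub, -⟩ := info R.hk
  refine ⟨by rw [hK]; rfl, fun g => ?_, R.rel, fun w hw => by simp [hsub] at hw⟩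
  rw [Cert.inv, hinv]
  match g with
  | 0 | 1 | 2 | 3 | 4 | 5 | 6 | 7 => simp [gen8]
  | n + 8 => simp [gen8, List.getD_eq_default]

/-- the element of a code -/
noncomputable def val (k : ℕ) (i p a s : G) (n : ℕ) : G := coreRep (cH k) (gen8 i p a s) n

theorem val_zero (k : ℕ) : val k i p a s 0 = 1 := by
  rw [val, coreRep, (cH_complete k).nd_zero, psi_zero]

theorem val_run (R : HRel k i p a s) {n : ℕ} (hn : n < 1152) {u : List ℕ} (hu : ∀ l ∈ u, l < 8) :
    (cH k).run n u < 1152 ∧ val k i p a s ((cH k).run n u) = val k i p a s n * prodW (gen8 i p a s) u := by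
  obtain ⟨hN, hK, -⟩ := info R.hk
  obtain ⟨h1, h2⟩ := coreRep_run (cH_complete k) (model R) u n (by omega) (by rw [hK]; exact hu)
  exact ⟨by omega, (mul_inv_eq_one.1 (Subgroup.mem_bot.1 h2)).symm⟩

theorem prodW_val (R : HRel k i p a s) {u : List ℕ} (hu : ∀ l ∈ u, l < 8) :
    prodW (gen8 i p a s) u = val k i p a s ((cH k).run 0 u) := by
  rw [(val_run R (by norm_num) hu).2, val_zero, one_mul]

theorem val_word (R : HRel k i p a s) {n : ℕ} (hn : n < 1152) :
    val k i p a s n = prodW (gen8 i p a s) (word k n) := by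
  obtain ⟨h1, h2⟩ := word_spec R.hk hn
  rw [prodW_val R (fun l hl => (h2 l hl).trans (by norm_num)), h1]

theorem hm_spec (R : HRel k i p a s) {x y : ℕ} (hx : x < 1152) (hy : y < 1152) :
    hm k x y < 1152 ∧ val k i p a s (hm k x y) = val k i p a s x * val k i p a s y := by
  rw [val_word R hy]
  exact val_run R hx fun l hl => ((word_spec R.hk hy).2 l hl).trans (by norm_num)

theorem hi_spec (R : HRel k i p a s) {x : ℕ} (hx : x < 1152) :
    hi k x < 1152 ∧ val k i p a s (hi k x) = (val k i p a s x)⁻¹ := by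
  obtain ⟨-, -, hinv, -⟩ := info R.hk
  have hu : ∀ l ∈ (cH k).revInv (word k x), l < 8 := by
    intro l hl
    simp only [Cert.revInv, Cert.inv, hinv, List.mem_reverse, List.mem_map] at hl
    obtain ⟨m, hm, rfl⟩ := hl
    have := (word_spec R.hk hx).2 m hm
    interval_cases m <;> simp
  refine ⟨(val_run R (by norm_num) hu).1, ?_⟩
  rw [hi, ← prodW_val R hu, (model R).revInv_eq, ← val_word R hx]

theorem cj_spec (R : HRel k i p a s) {g x : ℕ} (hg : g < 1152) (hx : x < 1152) :
    cj k g x < 1152 ∧ val k i p a s (cj k g x) =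
      val k i p a s g * val k i p a s x * (val k i p a s g)⁻¹ := by
  obtain ⟨h1, e1⟩ := hm_spec R hg hx
  obtain ⟨h2, e2⟩ := hi_spec R hg
  obtain ⟨h3, e3⟩ := hm_spec R h1 h2
  exact ⟨h3, by rw [cj, e3, e1, e2]⟩

theorem cm_spec (R : HRel k i p a s) {x y : ℕ} (hx : x < 1152) (hy : y < 1152) :
    cm k x y < 1152 ∧ val k i p a s (cm k x y) =
      val k i p a s x * val k i p a s y * (val k i p a s x)⁻¹ * (val k i p a s y)⁻¹ := by
  obtain ⟨h1, e1⟩ := hm_spec R hx hy
  obtain ⟨h2, e2⟩ := hi_spec R hx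
  obtain ⟨h3, e3⟩ := hi_spec R hy
  obtain ⟨h4, e4⟩ := hm_spec R h2 h3
  obtain ⟨h5, e5⟩ := hm_spec R h1 h4
  exact ⟨h5, by rw [cm, e5, e1, e4, e2, e3]; group⟩

/-- A bijection onto a subgroup of order 1152 generated by the letters. -/
theorem val_bij (R : HRel k i p a s) {H : Subgroup G} (hH : Nat.card H = 1152)
    (hgen : H = Subgroup.closure {i, p, a, s}) :
    (∀ n < 1152, val k i p a s n ∈ H) ∧ (∀ g ∈ H, ∃ n < 1152, val k i p a s n = g) ∧
      ∀ m < 1152, ∀ n < 1152, val k i p a s m = val k i p a s n → m = n := by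
  classical
  haveI : Finite H := Nat.finite_of_card_ne_zero (by rw [hH]; norm_num)
  have hg : ∀ l, gen8 i p a s l ∈ H := by
    intro l
    rw [hgen]
    match l with
    | 0 => exact Subgroup.subset_closure (by simp [gen8])
    | 1 => exact inv_mem (Subgroup.subset_closure (by simp))
    | 2 => exact Subgroup.subset_closure (by simp [gen8])
    | 3 => exact inv_mem (Subgroup.subset_closure (by simp))
    | 4 => exact Subgroup.subset_closure (by simp [gen8])
    | 5 => exact inv_mem (Subgroup.subset_closure (by simp))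
    | 6 => exact Subgroup.subset_closure (by simp [gen8])
    | 7 => exact inv_mem (Subgroup.subset_closure (by simp))
    | n + 8 => exact one_mem _
  have hmem : ∀ n < 1152, val k i p a s n ∈ H := fun n hn => by
    rw [val_word R hn]
    exact Subgroup.list_prod_mem _ fun x hx => by obtain ⟨l, -, rfl⟩ := List.mem_map.1 hx; exact hg l
  have hsurj : ∀ g ∈ H, ∃ n < 1152, val k i p a s n = g := by
    have step : ∀ l < 8, ∀ n < 1152, ∃ m < 1152, val k i p a s m = val k i p a s n * gen8 i p a s l := by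
      intro l hl n hn
      obtain ⟨h1, h2⟩ := val_run R hn (u := [l]) (by simpa using hl)
      exact ⟨_, h1, by simpa [prodW] using h2⟩
    intro g hg'
    rw [hgen] at hg'
    induction hg' using Subgroup.closure_induction_right with
    | one => exact ⟨0, by norm_num, val_zero k⟩
    | mul_right x _ y hy ih =>
      obtain ⟨n, hn, rfl⟩ := ih
      rcases hy with rfl | rfl | rfl | rfl
      exacts [step 0 (by norm_num) n hn, step 2 (by norm_num) n hn, step 4 (by norm_num) n hn,
        step 6 (by norm_num) n hn]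
    | mul_inv_cancel x _ y hy ih =>
      obtain ⟨n, hn, rfl⟩ := ih
      rcases hy with rfl | rfl | rfl | rfl
      exacts [step 1 (by norm_num) n hn, step 3 (by norm_num) n hn, step 5 (by norm_num) n hn,
        step 7 (by norm_num) n hn]
  refine ⟨hmem, hsurj, fun m hm n hn e => ?_⟩
  let f : Fin 1152 → H := fun j => ⟨val k i p a s j, hmem j j.2⟩
  have hf : Function.Surjective f := fun g => by
    obtain ⟨j, hj, e⟩ := hsurj g g.2
    exact ⟨⟨j, hj⟩, Subtype.ext e⟩
  have hb := (Nat.bijective_iff_surjective_and_card f).2 ⟨hf, by simp [hH]⟩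
  exact congrArg Fin.val (hb.1 (a₁ := ⟨m, hm⟩) (a₂ := ⟨n, hn⟩) (Subtype.ext e))

end

end CfsgLib.UFourType
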