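import Cfsg.Agent.Lib.UFourType.Types
import Cfsg.Agent.Lib.UFourType.Model

/-!
Generators of the centralizer satisfying the relations of one of eight cases.
-/

set_option autoImplicit false
set_option maxHeartbeats 2000000
set_option maxRecDepth 100000

namespace CfsgLib.UFourType

open CfsgLib.CosetEnum

/-- relators of a case -/
def hRels (ea eb ec : Bool) : List (List ℕ) :=
  [[0, 1], [2, 3], [4, 5], [6, 7], [0, 0, 0, 0], [2, 2, 2], [4, 4] ++ (if ea then [1, 1] else []),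
    [6, 6] ++ (if eb then [1, 1] else []), [4, 6, 5, 7] ++ (if ec then [1, 1] else []),
    [4, 0, 5, 0], [4, 2, 5, 2], [0, 6, 0, 7, 1, 6, 1, 7], [0, 6, 2, 7, 1, 6, 3, 7],
    [2, 6, 2, 7, 3, 6, 3, 7], [6, 0, 0, 7, 1, 1], [0, 2, 0, 3, 1, 2, 0, 3],
    [2, 2, 0, 3, 3, 1, 2, 1, 3], [2, 0, 3, 2, 0, 3, 1, 1]]

/-- the index of a case -/
def caseIx (ea eb ec : Bool) : ℕ := 4 * ea.toNat + 2 * eb.toNat + ec.toNat

theorem caseIx_rels : ∀ ea eb ec : Bool, (cH (caseIx ea eb ec)).rels = hRels ea eb ec ∧ caseIx ea eb ec < 8 := by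
  decide +kernel

/-- words for the elements of Q -/
def qWord (a b c d : ℕ) : List ℕ :=
  List.replicate a 0 ++ (List.replicate b [2, 0, 3]).flatten ++ [6] ++ List.replicate c 0 ++
    (List.replicate d [2, 0, 3]).flatten ++ [7]

theorem qWord_ok : ∀ k : Fin 8, ∀ a c : Fin 4, ∀ b d : Fin 2,
    (qList k).any (Nat.beq ((cH k).run 0 (qWord a b c d))) = true ∧ (qWord a b c d).all (fun l => Nat.blt l 8) = true := by
  decide +kernel

theorem q_basic : ∀ k : Fin 8, (qList k).length = 32 ∧ (qList k).all (fun n => Nat.blt n 1152) = true ∧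
    Nat.beq ((cH k).run 0 [0, 0]) (zC k) = true ∧ zC k < 1152 := by decide +kernel

/-- The data obtained from the hypotheses. -/
structure HData {G : Type*} [Group G] (k : ℕ) (z : G) (Q : Subgroup G) (i p a s : G) : Prop where
  rel : HRel k i p a s
  gen : Subgroup.centralizer ({z} : Set G) = Subgroup.closure {i, p, a, s}
  z_eq : val k i p a s (zC k) = z
  Q_iff : ∀ g, g ∈ Q ↔ ∃ n ∈ qList k, val k i p a s n = g

section

variable {G : Type*} [Group G] [Finite G] {z : G} {α β : SL23 →* G} {Q : Subgroup G}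

theorem Hyp.exists_data (h : Hyp z α β Q) : ∃ k i p a s, p = α sU ∧ s * p * s⁻¹ = β sU ∧ HData k z Q i p a s := by
  classical
  obtain ⟨hall, hcov⟩ := h.typ_exists
  set H := Subgroup.centralizer ({z} : Set G) with hH
  obtain ⟨a, ha, hau, hav⟩ := hall 1
  obtain ⟨s0, hs0, hsu, hsv⟩ := hall 2
  set u := α sU with hu
  set v := β sU with hv
  have hu3 : u * u * u = 1 := by rw [hu, ← map_mul, ← map_mul, ← pow_two, ← pow_succ, sl_z.2.2.2.1, map_one]
  have hv3 : v * v * v = 1 := by rw [hv, ← map_mul, ← map_mul, ← pow_two, ← pow_succ, sl_z.2.2.2.1, map_one]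
  have huv : u * v = v * u := h.comm _ _
  -- the commuting part
  have split : ∀ c ∈ H, c * u * c⁻¹ = u → c * v * c⁻¹ = v → ∃ (X : G) (e : Bool),
      X ∈ h.P ∧ c = X * (if e then z else 1) := by
    intro c hc e1 e2
    obtain ⟨m, n, e, rfl⟩ := h.cent_P hc (mul_inv_eq_iff_eq_mul.1 e1) (mul_inv_eq_iff_eq_mul.1 e2)
    refine ⟨_, e = 1, h.mem_P.2 ⟨m, n, rfl⟩, ?_⟩
    fin_cases e <;> simp
  have hP3 : ∀ X ∈ h.P, X * X * X = 1 ∧ X * u = u * X ∧ X * v = v * X := by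
    intro X hX
    obtain ⟨m, n, rfl⟩ := h.mem_P.1 hX
    have e : ∀ p q : SL23 × SL23, p * q = q * p → h.φ p * h.φ q = h.φ q * h.φ p := fun p q hpq => by
      rw [← map_mul, ← map_mul, hpq]
    refine ⟨?_, ?_, ?_⟩
    · show h.φ (_, _) * h.φ (_, _) * h.φ (_, _) = 1
      rw [← map_mul, ← map_mul, Prod.mk_mul_mk, Prod.mk_mul_mk]
      have : ∀ j : ℕ, (sU ^ j * sU ^ j * sU ^ j : SL23) = 1 := fun j => by
        rw [← pow_add, ← pow_add, show j + j + j = 3 * j by ring, pow_mul, sl_z.2.2.2.1, one_pow]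
      rw [this, this]; exact map_one _
    · have := e (sU ^ (m : ℕ), sU ^ (n : ℕ)) (sU, 1) (Prod.ext ((Commute.refl sU).pow_left _).eq (by simp))
      simpa [h.φ_apply] using this
    · have := e (sU ^ (m : ℕ), sU ^ (n : ℕ)) (1, sU) (Prod.ext (by simp) ((Commute.refl sU).pow_left _).eq)
      simpa [h.φ_apply] using this
  have hPH : ∀ X ∈ h.P, X ∈ H := fun X hX => h.K_le (h.P_le hX)
  have hzc : ∀ g ∈ H, g * z = z * g := fun g hg => Subgroup.mem_centralizer_singleton_iff.1 hg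
  have hzb : ∀ (e : Bool) g, g ∈ H → g * (if e then z else 1) = (if e then z else 1) * g := by
    intro e g hg; cases e <;> simp [hzc g hg]
  have hzz : ∀ e : Bool, (if e then z else 1) * (if e then z else 1) = (1 : G) := by
    intro e; cases e <;> simp [h.z_sq]
  have hinvP : ∀ X ∈ h.P, a * X * a⁻¹ = X⁻¹ := by
    intro X hX
    obtain ⟨m, n, rfl⟩ := h.mem_P.1 hX
    rw [map_pow, map_pow, ← MulAut.conj_apply, map_mul, map_pow, map_pow, MulAut.conj_apply, MulAut.conj_apply,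
      hau, hav, inv_pow, inv_pow, ← mul_inv_rev, ((show Commute u v from huv).pow_pow _ _).eq]
  have hiv : ∀ (g x : G), g * x⁻¹ * g⁻¹ = (g * x * g⁻¹)⁻¹ := fun g x => by group
  -- a squares into the centre
  obtain ⟨X1, ea, hX1, hea0⟩ := split (a * a) (mul_mem ha.1 ha.1)
    (by rw [show a * a * u * (a * a)⁻¹ = a * (a * u * a⁻¹) * a⁻¹ by group, hau, hiv, hau, inv_inv])
    (by rw [show a * a * v * (a * a)⁻¹ = a * (a * v * a⁻¹) * a⁻¹ by group, hav, hiv, hav, inv_inv])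
  have hea : a * a = if ea then z else 1 := by
    have e1 : a * (a * a) * a⁻¹ = a * a := by group
    rw [hea0, show a * (X1 * (if ea then z else 1)) * a⁻¹ = a * X1 * (a⁻¹ * a) * (if ea then z else 1) * a⁻¹ by group,
      mul_assoc _ (if ea then z else 1), ← hzb ea a⁻¹ (inv_mem ha.1)] at e1
    rw [show a * X1 * (a⁻¹ * a) * (a⁻¹ * if ea then z else 1) = a * X1 * a⁻¹ * if ea then z else 1 by group,
      hinvP X1 hX1] at e1
    have e2 : X1 * X1 = 1 := by rw [← inv_eq_iff_mul_eq_one]; exact mul_right_cancel e1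
    have : X1 = 1 := by have := (hP3 X1 hX1).1; rwa [e2, one_mul] at this
    rw [hea0, this, one_mul]
  -- correct the swapping element
  obtain ⟨X2, eb, hX2, hX2e⟩ := split (s0 * s0) (mul_mem hs0.1 hs0.1)
    (by rw [show s0 * s0 * u * (s0 * s0)⁻¹ = s0 * (s0 * u * s0⁻¹) * s0⁻¹ by group, hsu, hsv])
    (by rw [show s0 * s0 * v * (s0 * s0)⁻¹ = s0 * (s0 * v * s0⁻¹) * s0⁻¹ by group, hsv, hsu])
  have hs0X : s0 * X2 = X2 * s0 := by
    have e1 : s0 * (s0 * s0) = s0 * s0 * s0 := (mul_assoc _ _ _).symm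
    rw [hX2e, ← mul_assoc, mul_assoc X2, ← hzb eb s0 hs0.1, ← mul_assoc] at e1
    exact mul_right_cancel e1
  set s1 := s0 * X2 with hs1
  have hs1H : s1 ∈ H := mul_mem hs0.1 (hPH _ hX2)
  have hs1u : s1 * u * s1⁻¹ = v := by
    rw [hs1, show s0 * X2 * u * (s0 * X2)⁻¹ = s0 * (X2 * u * X2⁻¹) * s0⁻¹ by group, (hP3 _ hX2).2.1,
      mul_inv_cancel_right, hsu]
  have hs1v : s1 * v * s1⁻¹ = u := by
    rw [hs1, show s0 * X2 * v * (s0 * X2)⁻¹ = s0 * (X2 * v * X2⁻¹) * s0⁻¹ by group, (hP3 _ hX2).2.2,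
      mul_inv_cancel_right, hsv]
  have hs1q : s1 * s1 = if eb then z else 1 := by
    rw [hs1, show s0 * X2 * (s0 * X2) = s0 * (X2 * s0) * X2 by group, ← hs0X, ← mul_assoc, hX2e,
      mul_assoc X2, ← hzb eb X2 (hPH _ hX2), ← mul_assoc, mul_assoc, ← hzb eb X2 (hPH _ hX2), ← mul_assoc,
      (hP3 _ hX2).1, one_mul]
  -- the commutator
  set cc := a * s1 * a⁻¹ * s1⁻¹ with hcc
  have hai : ∀ x, a * x * a⁻¹ = x⁻¹ → a⁻¹ * x * a = x⁻¹ := fun x e => by
    calc a⁻¹ * x * a = a⁻¹ * (a * x⁻¹ * a⁻¹) * a := by rw [hiv, e, inv_inv]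
      _ = _ := by group
  have hsi : s1⁻¹ * u * s1 = v ∧ s1⁻¹ * v * s1 = u := by
    constructor
    · rw [← hs1v]; group
    · rw [← hs1u]; group
  obtain ⟨X3, ec, hX3, hX3e⟩ := split cc (mul_mem (mul_mem (mul_mem ha.1 hs1H) (inv_mem ha.1)) (inv_mem hs1H))
    (by
      rw [hcc, show a * s1 * a⁻¹ * s1⁻¹ * u * (a * s1 * a⁻¹ * s1⁻¹)⁻¹ =
        a * (s1 * (a⁻¹ * (s1⁻¹ * u * s1) * a) * s1⁻¹) * a⁻¹ by group, hsi.1, hai v hav, hiv, hs1v, hiv, hau, inv_inv])
    (by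
      rw [hcc, show a * s1 * a⁻¹ * s1⁻¹ * v * (a * s1 * a⁻¹ * s1⁻¹)⁻¹ =
        a * (s1 * (a⁻¹ * (s1⁻¹ * v * s1) * a) * s1⁻¹) * a⁻¹ by group, hsi.2, hai u hau, hiv, hs1u, hiv, hav, inv_inv])
  have hzinv : ∀ e : Bool, (if e then z else 1 : G)⁻¹ = if e then z else 1 := fun e =>
    inv_eq_of_mul_eq_one_left (hzz e)
  have hsc : s1 * X3 * s1⁻¹ = X3⁻¹ := by
    have e2 : s1 * cc * s1⁻¹ = cc⁻¹ := by
      have hsq : s1⁻¹ * s1⁻¹ = if eb then z else 1 := by rw [← mul_inv_rev, hs1q, hzinv]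
      rw [hcc, show s1 * (a * s1 * a⁻¹ * s1⁻¹) * s1⁻¹ = s1 * a * s1 * a⁻¹ * (s1⁻¹ * s1⁻¹) by group, hsq,
        show (a * s1 * a⁻¹ * s1⁻¹)⁻¹ = s1 * a * s1⁻¹ * a⁻¹ by group]
      have : s1⁻¹ = s1 * if eb then z else 1 := inv_eq_of_mul_eq_one_right (by rw [← mul_assoc, hs1q, hzz])
      conv_rhs => rw [this]
      rw [mul_assoc (s1 * a * s1), hzb eb a⁻¹ (inv_mem ha.1)]
      simp only [mul_assoc]
    rw [hX3e, show (X3 * if ec then z else 1)⁻¹ = (if ec then z else 1 : G)⁻¹ * X3⁻¹ from mul_inv_rev _ _, hzinv, ← hzb ec X3⁻¹ (inv_mem (hPH _ hX3))] at e2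
    rw [show s1 * (X3 * (if ec then z else 1)) * s1⁻¹ = s1 * X3 * ((if ec then z else 1) * s1⁻¹) by group,
      ← hzb ec s1⁻¹ (inv_mem hs1H), ← mul_assoc] at e2
    exact mul_right_cancel e2
  set s := X3⁻¹ * s1 with hs
  have hsH : s ∈ H := mul_mem (inv_mem (hPH _ hX3)) hs1H
  have hsu' : s * u * s⁻¹ = v := by
    rw [hs, show X3⁻¹ * s1 * u * (X3⁻¹ * s1)⁻¹ = X3⁻¹ * (s1 * u * s1⁻¹) * X3 by group, hs1u, mul_assoc,
      ← (hP3 _ hX3).2.2, inv_mul_cancel_left]
  have hsv' : s * v * s⁻¹ = u := by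
    rw [hs, show X3⁻¹ * s1 * v * (X3⁻¹ * s1)⁻¹ = X3⁻¹ * (s1 * v * s1⁻¹) * X3 by group, hs1v, mul_assoc,
      ← (hP3 _ hX3).2.1, inv_mul_cancel_left]
  have heb : s * s = if eb then z else 1 := by
    rw [hs, show X3⁻¹ * s1 * (X3⁻¹ * s1) = X3⁻¹ * (s1 * X3⁻¹ * s1⁻¹) * (s1 * s1) by group, hiv, hsc, inv_inv,
      inv_mul_cancel, one_mul, hs1q]
  have hec : a * s * a⁻¹ * s⁻¹ = if ec then z else 1 := by
    rw [hs, show a * (X3⁻¹ * s1) * a⁻¹ * (X3⁻¹ * s1)⁻¹ = a * X3⁻¹ * a⁻¹ * (a * s1 * a⁻¹ * s1⁻¹) * X3 by group,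
      hiv, hinvP X3 hX3, inv_inv, ← hcc, hX3e, mul_assoc X3, mul_assoc X3, ← hzb ec X3 (hPH _ hX3),
      ← mul_assoc, ← mul_assoc, (hP3 _ hX3).1, one_mul]
  -- the element of order four
  have har := h.range_map ha.1 h.α_normal (hau.symm ▸ inv_mem ⟨sU, rfl⟩)
  obtain ⟨j, hj⟩ := har sI
  have hz' : a * z * a⁻¹ = z := by rw [hzc a ha.1]; group
  have hjj : j * j = sZ := h.α_inj (by
    rw [map_mul, hj, h.αZ]
    calc a * α sI * a⁻¹ * (a * α sI * a⁻¹) = a * α (sI * sI) * a⁻¹ := by rw [map_mul]; group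
      _ = z := by rw [sl_z.1, h.αZ, hz'])
  have hrel : sU * sU * sI * sU⁻¹ * sU⁻¹ = sU * sI * sU⁻¹ * sI := by decide +kernel
  obtain ⟨k0, hk0⟩ := sl_invert j hjj (h.α_inj (by
    have hh := congrArg (MulAut.conj a) (congrArg α hrel)
    simpa only [map_mul, map_inv, MulAut.conj_apply, hau, ← hj, inv_inv, ← hu] using hh))
  obtain ⟨r1, r2, r3, r4, r5⟩ := sl_rel k0
  set i0 := sU ^ (k0 : ℕ) * sI * (sU ^ (k0 : ℕ))⁻¹ with hi0
  set i := α i0 with hi
  have hai0 : a * i * a⁻¹ = i⁻¹ := by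
    rw [hi, ← map_inv, ← hk0]
    have e : a * α i0 * a⁻¹ = (a * u * a⁻¹) ^ (k0 : ℕ) * (a * α sI * a⁻¹) * ((a * u * a⁻¹) ^ (k0 : ℕ))⁻¹ := by
      rw [hi0, map_mul α, map_mul α, map_inv α, map_pow α, ← hu, conj_pow]
      group
    rw [e, hau, ← hj, inv_pow, inv_inv, hu, ← map_pow, ← map_inv, ← map_mul, ← map_mul]
  have hsr := h.range_map hsH h.β_normal (hsu'.symm ▸ ⟨sU, rfl⟩)
  have hzi : i⁻¹ * i⁻¹ = z := by
    rw [← mul_inv_rev, hi, ← map_mul, r2, h.αZ, inv_eq_of_mul_eq_one_left h.z_sq]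
  obtain ⟨hrels, hlt⟩ := caseIx_rels ea eb ec
  set k := caseIx ea eb ec with hk
  have hrel' : ∀ r ∈ (cH k).rels, prodW (gen8 i u a s) r = 1 := by
    have cm' : ∀ x y : SL23, α x * (s * α y * s⁻¹) * (α x)⁻¹ * (s * α y * s⁻¹)⁻¹ = 1 := by
      intro x y
      obtain ⟨w, hw⟩ := hsr y
      rw [← hw, h.comm]; group
    have zb : ∀ e : Bool, (if e then z else 1) * prodW (gen8 i u a s) (if e then [1, 1] else []) = 1 := by
      intro e; cases e
      · simp
      · simp [prodW, gen8, hzi, h.z_sq]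
    intro r hr
    rw [hrels] at hr
    simp only [hRels, List.mem_cons, List.not_mem_nil, or_false] at hr
    rcases hr with rfl | rfl | rfl | rfl | rfl | rfl | rfl | rfl | rfl | rfl | rfl | rfl | rfl | rfl | rfl | rfl | rfl | rfl
    · simp [prodW, gen8]
    · simp [prodW, gen8]
    · simp [prodW, gen8]
    · simp [prodW, gen8]
    · show i * (i * (i * (i * 1))) = 1
      rw [mul_one, ← map_one α, ← r1, hi, ← map_mul, ← map_mul, ← map_mul, pow_succ', pow_succ', pow_two]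
    · show u * (u * (u * 1)) = 1
      rw [mul_one, ← mul_assoc, hu3]
    · rw [prodW_append, show prodW (gen8 i u a s) [4, 4] = a * a by simp [prodW, gen8], hea, zb]
    · rw [prodW_append, show prodW (gen8 i u a s) [6, 6] = s * s by simp [prodW, gen8], heb, zb]
    · rw [prodW_append, show prodW (gen8 i u a s) [4, 6, 5, 7] = a * s * a⁻¹ * s⁻¹ by simp [prodW, gen8, mul_assoc],
        hec, zb]
    · show a * (i * (a⁻¹ * (i * 1))) = 1
      rw [mul_one, ← mul_assoc, ← mul_assoc, hai0, inv_mul_cancel]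
    · show a * (u * (a⁻¹ * (u * 1))) = 1
      rw [mul_one, ← mul_assoc, ← mul_assoc, hau, inv_mul_cancel]
    · show i * (s * (i * (s⁻¹ * (i⁻¹ * (s * (i⁻¹ * (s⁻¹ * 1))))))) = 1
      simpa [mul_assoc, ← hi, ← hu] using cm' i0 i0
    · show i * (s * (u * (s⁻¹ * (i⁻¹ * (s * (u⁻¹ * (s⁻¹ * 1))))))) = 1
      simpa [mul_assoc, ← hi, ← hu] using cm' i0 sU
    · show u * (s * (u * (s⁻¹ * (u⁻¹ * (s * (u⁻¹ * (s⁻¹ * 1))))))) = 1
      simpa [mul_assoc, ← hi, ← hu] using cm' sU sU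
    · show s * (i * (i * (s⁻¹ * (i⁻¹ * (i⁻¹ * 1))))) = 1
      rw [mul_one, hzi, show s * (i * (i * (s⁻¹ * z))) = s * (i * i) * s⁻¹ * z by group, hi, ← map_mul, r2, h.αZ,
        hzc s hsH, show z * s * s⁻¹ * z = z * z by group, h.z_sq]
    · show i * (u * (i * (u⁻¹ * (i⁻¹ * (u * (i * (u⁻¹ * 1))))))) = 1
      have := congrArg α r3
      simp only [map_mul, map_inv, map_one, ← hi, ← hu] at this
      simpa [mul_assoc] using this
    · show u * (u * (i * (u⁻¹ * (u⁻¹ * (i⁻¹ * (u * (i⁻¹ * (u⁻¹ * 1)))))))) = 1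
      have := congrArg α r4
      simp only [map_mul, map_inv, map_one, ← hi, ← hu] at this
      simpa [mul_assoc] using this
    · show u * (i * (u⁻¹ * (u * (i * (u⁻¹ * (i⁻¹ * (i⁻¹ * 1))))))) = 1
      have := congrArg α r5
      simp only [map_mul, map_inv, map_one, ← hi, ← hu] at this
      simpa [mul_assoc] using this
  refine ⟨k, i, u, a, s, rfl, hsu', ⟨⟨hlt, hrel'⟩, ?_, ?_, ?_⟩⟩
  · -- generation
    set L := Subgroup.closure ({i, u, a, s} : Set G)
    have hLi : i ∈ L := Subgroup.subset_closure (by simp)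
    have hLu : u ∈ L := Subgroup.subset_closure (by simp)
    have hLa : a ∈ L := Subgroup.subset_closure (by simp)
    have hLs : s ∈ L := Subgroup.subset_closure (by simp)
    have hLI : α sI ∈ L := by
      have e : α sI = (u ^ (k0 : ℕ))⁻¹ * i * u ^ (k0 : ℕ) := by
        rw [hu, hi, hi0, map_mul, map_mul, map_inv, map_pow]; group
      rw [e]
      exact mul_mem (mul_mem (inv_mem (pow_mem hLu _)) hLi) (pow_mem hLu _)
    have hLα : ∀ x, α x ∈ L := by
      intro x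
      obtain ⟨p1, p2, p3, p4, rfl⟩ := sl_gen x
      simp only [map_mul, map_pow, map_inv, ← hu]
      exact mul_mem (mul_mem (mul_mem (pow_mem hLu _) (pow_mem (mul_mem (mul_mem hLI hLu) (inv_mem hLI)) _))
        (pow_mem hLu _)) (pow_mem (mul_mem (mul_mem hLI hLu) (inv_mem hLI)) _)
    have hLβ : ∀ y, β y ∈ L := by
      intro y
      obtain ⟨w, hw⟩ := h.swap.range_map (inv_mem hsH) (by rw [sup_comm]; exact h.α_normal)
        (δ := α) (by rw [inv_inv, ← hv, show s⁻¹ * v * s = u by rw [← hsu']; group]; exact ⟨sU, rfl⟩) y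
      have e : β y = s * α w * s⁻¹ := by rw [hw]; group
      rw [e]
      exact mul_mem (mul_mem hLs (hLα w)) (inv_mem hLs)
    have hLK : kK α β ≤ L := sup_le (by rintro _ ⟨x, rfl⟩; exact hLα x) (by rintro _ ⟨x, rfl⟩; exact hLβ x)
    refine le_antisymm (fun x hx => ?_) ?_
    · obtain ⟨n, T, hn, hT, hnx⟩ := hcov x hx
      have key : ∀ m ∈ L, m ∈ H → m * u * m⁻¹ = n * u * n⁻¹ → m * v * m⁻¹ = n * v * n⁻¹ → x ∈ L := by
        intro m hmL hmH e1 e2
        have hc : ∀ w : G, m * w * m⁻¹ = n * w * n⁻¹ → (m⁻¹ * n) * w * (m⁻¹ * n)⁻¹ = w := fun w e => by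
          rw [show (m⁻¹ * n) * w * (m⁻¹ * n)⁻¹ = m⁻¹ * (n * w * n⁻¹) * m by group, ← e]; group
        obtain ⟨X, e, hX, hXe⟩ := split _ (mul_mem (inv_mem hmH) hn.1) (hc _ e1) (hc _ e2)
        have hmn : m⁻¹ * n ∈ L := by
          rw [hXe]
          refine mul_mem (hLK (h.P_le hX)) ?_
          cases e
          · exact one_mem _
          · exact hLK (h.Q_le h.z_mem_Q)
        rw [show x = m * (m⁻¹ * n) * (n⁻¹ * x) by group]
        exact mul_mem (mul_mem hmL hmn) (hLK hnx)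
      fin_cases T
      · exact key 1 (one_mem _) (one_mem _) (by simpa using hT.1.symm) (by simpa using hT.2.symm)
      · exact key a hLa ha.1 (hau.trans hT.1.symm) (hav.trans hT.2.symm)
      · exact key s hLs hsH (hsu'.trans hT.1.symm) (hsv'.trans hT.2.symm)
      · refine key (a * s) (mul_mem hLa hLs) (mul_mem ha.1 hsH) ?_ ?_
        · rw [show a * s * u * (a * s)⁻¹ = a * (s * u * s⁻¹) * a⁻¹ by group, hsu', hav]; exact hT.1.symm
        · rw [show a * s * v * (a * s)⁻¹ = a * (s * v * s⁻¹) * a⁻¹ by group, hsv', hau]; exact hT.2.symm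
    · rw [Subgroup.closure_le]
      intro x hx
      simp only [Set.mem_insert_iff, Set.mem_singleton_iff] at hx
      rcases hx with rfl | rfl | rfl | rfl
      exacts [h.α_le ⟨i0, rfl⟩, h.α_le ⟨sU, rfl⟩, ha.1, hsH]
  · have hb := q_basic ⟨k, hlt⟩
    rw [← Nat.eq_of_beq_eq_true hb.2.2.1, ← prodW_val ⟨hlt, hrel'⟩ (by simp)]
    show i * (i * 1) = z
    rw [mul_one, hi, ← map_mul, r2, h.αZ]
  · -- the normal 2-subgroup
    set R : HRel k i u a s := ⟨hlt, hrel'⟩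
    have hb := q_basic ⟨k, hlt⟩
    simp only [List.all_eq_true, Nat.blt_eq] at hb
    let S : Finset G := (qList k).toFinset.image (val k i u a s)
    have hQS : ∀ g ∈ Q, g ∈ S := by
      intro g hg
      obtain ⟨x, y, hx, hy, rfl⟩ := h.mem_Q.1 hg
      obtain ⟨w, hw⟩ := h.swap.range_map (inv_mem hsH) (by rw [sup_comm]; exact h.α_normal)
        (δ := α) (by rw [inv_inv, ← hv, show s⁻¹ * v * s = u by rw [← hsu']; group]; exact ⟨sU, rfl⟩) y
      have hw4 : w ^ 4 = 1 := h.α_inj (by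
        rw [map_pow, hw, ← MulAut.conj_apply, ← map_pow, ← map_pow, hy, map_one, map_one, map_one])
      have form : ∀ x : SL23, x ^ 4 = 1 → ∃ (A : Fin 4) (B : Fin 2),
          α x = i ^ (A : ℕ) * (u * i * u⁻¹) ^ (B : ℕ) := by
        intro x hx
        obtain ⟨A, B, hAB⟩ := (sl_quat_form ((sU ^ (k0 : ℕ))⁻¹ * x * sU ^ (k0 : ℕ))).1 (by
          rw [show (sU ^ (k0 : ℕ))⁻¹ * x * sU ^ (k0 : ℕ) = MulAut.conj (sU ^ (k0 : ℕ))⁻¹ x by
            rw [MulAut.conj_apply, inv_inv], ← map_pow, hx, map_one])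
        refine ⟨A, B, ?_⟩
        rw [hi, hu, ← map_inv, ← map_mul, ← map_mul, ← map_pow, ← map_pow, ← map_mul]
        congr 1
        have e : sU ^ (k0 : ℕ) * sI * (sU ^ (k0 : ℕ))⁻¹ = MulAut.conj (sU ^ (k0 : ℕ)) sI := rfl
        have hcu : MulAut.conj (sU ^ (k0 : ℕ)) sU = sU := by
          rw [MulAut.conj_apply, ((Commute.refl sU).pow_left _).eq]; group
        rw [show x = MulAut.conj (sU ^ (k0 : ℕ)) ((sU ^ (k0 : ℕ))⁻¹ * x * sU ^ (k0 : ℕ)) by
          rw [MulAut.conj_apply]; group, hAB, hi0, e]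
        revert hcu
        generalize MulAut.conj (sU ^ (k0 : ℕ)) = f
        intro hcu
        simp only [map_mul, map_pow, map_inv, hcu]
      obtain ⟨A, B, hA⟩ := form x hx
      obtain ⟨C, D, hC⟩ := form w hw4
      obtain ⟨hmem, hl⟩ := qWord_ok ⟨k, hlt⟩ A C B D
      simp only [List.any_eq_true, Nat.beq_eq, List.all_eq_true, Nat.blt_eq] at hmem hl
      obtain ⟨n, hn, hne⟩ := hmem
      refine Finset.mem_image.2 ⟨n, List.mem_toFinset.2 hn, ?_⟩
      rw [← hne, ← prodW_val R hl, show β y = s * α w * s⁻¹ by rw [hw]; group, hA, hC]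
      have rep : ∀ m : ℕ, prodW (gen8 i u a s) (List.replicate m 0) = i ^ m := fun m => by
        simp [prodW, gen8]
      have rep' : ∀ m : ℕ, prodW (gen8 i u a s) (List.replicate m [2, 0, 3]).flatten = (u * i * u⁻¹) ^ m := by
        intro m
        induction m with
        | zero => simp [prodW]
        | succ m ih =>
          rw [List.replicate_succ, List.flatten_cons, prodW_append, ih, pow_succ']
          simp [prodW, gen8, mul_assoc]
      rw [qWord]
      simp only [prodW_append, rep, rep']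
      simp [prodW, gen8, mul_assoc]
    have hsub : (Q : Set G).toFinite.toFinset ⊆ S := fun g hg => hQS g ((Set.Finite.mem_toFinset _).1 hg)
    have hScard : S.card ≤ 32 := le_trans Finset.card_image_le (le_trans (List.toFinset_card_le _) hb.1.le)
    have hQc : (Q : Set G).toFinite.toFinset.card = 32 := by
      rw [← Nat.card_eq_card_finite_toFinset]; exact h.card_Q
    have hEq := Finset.eq_of_subset_of_card_le hsub (by rw [hQc]; exact hScard)
    intro g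
    rw [show g ∈ Q ↔ g ∈ (Q : Set G).toFinite.toFinset from (Set.Finite.mem_toFinset _).symm, hEq]
    simp only [S, Finset.mem_image, List.mem_toFinset]

end

end CfsgLib.UFourType
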