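import Cfsg.Agent.Lib.UFourType.SwapChecks
import Cfsg.Agent.Lib.UFourType.CheckC0
import Cfsg.Agent.Lib.UFourType.CheckC1
import Cfsg.Agent.Lib.UFourType.CheckC2
import Cfsg.Agent.Lib.UFourType.CheckMain

/-!
Checks for the relations outside the centralizer.
-/

set_option autoImplicit false
set_option maxRecDepth 100000

namespace CfsgLib.UFourType

open CfsgLib.CosetEnum

/-- the action of the element of order three on codes -/
noncomputable def phiF (n : ℕ) : ℕ :=
  List.rec 0 (fun r _ ih => pick (Nat.beq r.1 n) r.2 ih) phiL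

/-- inverse letters -/
def inv9 (w : List ℕ) : List ℕ := (w.map fun l => ([1, 0, 3, 2, 5, 4, 6, 8, 7] : List ℕ).getD l l).reverse

/-- replacing the inverse of the involution by itself -/
def tr9 (l : ℕ) : ℕ := if l = 7 then 6 else l

/-- the elements of the three relations -/
def uC : ℕ → ℕ
  | 0 => 111 | 1 => 264 | _ => 282

/-- the group of each relation -/
def aiC : ℕ → ℕ
  | 1 => 0 | _ => 1

/-- the nontrivial value of each relation -/
def fxC : ℕ → ℕ
  | 1 => 7 | _ => 1100

/-- a relation -/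
noncomputable def relW (j c : ℕ) : List ℕ :=
  (List.replicate 4 (word 5 (uC j) ++ [7])).flatten ++ inv9 (word 5 (if c = 0 then 0 else fxC j))

/-- the elements defining the action -/
noncomputable def drList : List ℕ := [zC 5, xA 5, xB 5, phiF (xA 5), phiF (xB 5)]

/-- a relation of the action -/
noncomputable def drW (e : ℕ) : List ℕ := [7] ++ word 5 e ++ [8] ++ inv9 (word 5 (phiF e))

/-- a commutation -/
noncomputable def fxW : List ℕ :=
  let f := [7] ++ word 5 wC ++ [8]
  f ++ word 5 xC ++ inv9 f ++ inv9 (word 5 xC)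

/-- another commutation -/
noncomputable def cmW : List ℕ :=
  let f := [7] ++ word 5 wC ++ [8]
  let bf := f ++ word 5 bC ++ inv9 f
  word 5 bC ++ bf ++ inv9 (word 5 bC) ++ inv9 bf

/-- relations common to all choices -/
noncomputable def baseRels : List (List ℕ) :=
  ((cH 5).rels.map fun r => r.map tr9) ++ [[7, 8], [7, 7, 7]] ++ drList.map drW ++ [fxW, cmW]

/-- the certificates of the choices -/
def choiceC : ℕ → Cert
  | 0 => certC0 | 1 => certC1 | 2 => certC2 | _ => certMain

/-- the choices -/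
def choiceV : ℕ → List ℕ
  | 0 => [0, 0, 0] | 1 => [0, 1, 0] | 2 => [0, 1, 1] | _ => [0, 0, 1]

/-- the relations of a choice -/
noncomputable def choiceRels (c : ℕ) : List (List ℕ) :=
  baseRels ++ (List.range 3).map fun j => relW j ((choiceV c).getD j 0)

theorem choice_info : ((List.range 4).all fun c => Nat.beq (choiceC c).K 9 &&
    decide ((choiceC c).invs = [1, 0, 3, 2, 5, 4, 6, 8, 7]) && decide ((choiceC c).subs = [[0], [2], [4], [6]]) &&
    ((choiceC c).rels.all fun r => (choiceRels c).any fun r' => r' == r) &&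
    ((choiceC c).rels.all fun r => r.all fun l => Nat.blt l 9) &&
    Nat.beq (choiceC c).N (if c = 3 then 2835 else 1)) = true := by decide +kernel

theorem five_rels : [6, 6] ∈ (cH 5).rels := by decide +kernel

theorem phi_facts : ((sList 5).all fun n => memB (phiF n) (sList 5) && memB (n, phiF n).1 (phiL.map Prod.fst)) = true ∧
    (phiL.all fun r => Nat.beq (phiF r.1) r.2) = true := by decide +kernel

theorem rel_facts : ((List.range 3).all fun j =>
    let A := aList (aiC j)
    let act := fun e => cj 5 (uC j) (phiF e)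
    Nat.blt (uC j) 1152 && memB (fxC j) A && memB (zC 5) A && memB (tC 5) A &&
    (A.all fun e => memB e (sList 5) && memB (phiF e) A && memB (act e) A && Nat.beq (act (act (act (act e)))) e &&
      (!(Nat.beq (act e) e) || Nat.beq e 0 || Nat.beq e (fxC j))) &&
    Nat.beq (hm 5 (fxC j) (fxC j)) 0 &&
    (let v1 := cj 5 (uC j) (zC 5)
     memB v1 A && Nat.beq (hm 5 (hm 5 (hm 5 v1 (act v1)) (act (act v1))) (act (act (act v1)))) (fxC j)) &&
    ((sList 5).all fun n => memB n A || A.any fun e => !(Nat.beq (hm 5 n e) (hm 5 e n)))) = true := by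
  decide +kernel

/-- conjugation by the twisted element -/
noncomputable def cf (e : ℕ) : ℕ := phiF (cj 5 wC (phiF (phiF e)))

theorem fx_facts : ((aList 0).all fun e => memB (phiF e) (aList 0) && memB (cj 5 wC (phiF (phiF e))) (aList 0) &&
    memB (cf e) (aList 0) && Nat.beq (cf (cf (cf e))) e && memB (cj 5 (hi 5 xC) e) (aList 0) &&
    Nat.beq (cf (cj 5 xC e)) (cj 5 xC (cf e)) &&
    (!(Nat.beq (hm 5 (hm 5 (hm 5 e xC) (hm 5 e xC)) (hm 5 e xC)) 0) ||
      !(Nat.beq (hm 5 (hm 5 e (cf e)) (cf (cf e))) 0) || Nat.beq e 0)) = true ∧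
    Nat.beq (hm 5 (hm 5 xC xC) xC) 0 = true ∧ Nat.beq (hm 5 (hm 5 bC bC) bC) 0 = true ∧
    Nat.beq (hm 5 (hm 5 wC wC) wC) 0 = true ∧
    Nat.beq (cj 5 hWC xC) wC = true ∧ memB (zC 5) (aList 0) = true ∧ memB (tC 5) (aList 0) = true ∧
    cf (zC 5) = eOneC ∧ cf eOneC = eTwoC ∧
    !(Nat.beq (hm 5 wC (phiF (phiF (zC 5)))) (hm 5 (phiF (phiF (zC 5))) wC)) = true ∧
    xC < 1152 ∧ bC < 1152 ∧ wC < 1152 ∧ hWC < 1152 ∧ x2C < 1152 := by decide +kernel

theorem fx_more : ((aList 0).all fun e => memB (cj 5 xC e) (aList 0) &&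
    Nat.beq (cj 5 xC (cj 5 (hi 5 xC) e)) e && (aList 0).all fun q => Nat.beq (hm 5 e q) (hm 5 q e)) = true := by
  decide +kernel

/-- powers -/
noncomputable def hpow (n : ℕ) : ℕ → ℕ := fun j => Nat.rec 0 (fun _ ih => hm 5 ih n) j

theorem px_facts : pxList.Nodup ∧ memB xC pxList = true ∧ memB bC pxList = true ∧ memB x2C pxList = true ∧
    memB 0 pxList = true ∧
    (pxList.all fun m => Nat.blt m 1152 && memB (hi 5 m) pxList &&
      (List.range 3).any (fun i => (List.range 3).any fun j => Nat.beq m (hm 5 (hpow xC i) (hpow bC j))) &&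
      (List.range 3).any (fun i => (List.range 3).any fun j => Nat.beq m (hm 5 (hpow xC i) (hpow x2C j))) &&
      (Nat.beq m 0 || Nat.beq m xC || Nat.beq m (hi 5 xC) ||
        (List.range 3).any (fun i => (List.range 3).any fun j => Nat.beq bC (hm 5 (hpow xC i) (hpow m j)))) &&
      pxList.all fun n => memB (hm 5 m n) pxList && Nat.beq (hm 5 m n) (hm 5 n m)) = true := by decide +kernel

theorem cent_facts : (decide ((List.range 1152).filter (fun h =>
      Nat.beq (hm 5 h xC) (hm 5 xC h) && Nat.beq (hm 5 h bC) (hm 5 bC h)) = cpList) &&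
    cpList.all fun h => (!(Nat.beq (hpow h 9) 0) || memB h pxList) &&
      (!(Nat.beq (hpow h 2) 0) || Nat.beq h 0 || Nat.beq h (zC 5))) = true ∧
    ((List.range 1152).all fun h => !(Nat.beq (hm 5 h xC) (hm 5 xC h)) ||
      !(Nat.beq (hpow h 9) 0) || memB h pxList) = true ∧
    ((List.range 1152).all fun h => !(memB (cj 5 h xC) pxList && memB (cj 5 h bC) pxList) ||
      ((Nat.beq (cj 5 h xC) xC || Nat.beq (cj 5 h xC) (hi 5 xC)) &&
        (Nat.beq (cj 5 h x2C) x2C || Nat.beq (cj 5 h x2C) (hi 5 x2C)))) = true ∧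
    ([0, zC 5, eOneC, eTwoC].all fun e => Nat.blt e 1152 && Nat.beq (hm 5 e e) 0 &&
      memB (cj 5 e xC) pxList && memB (cj 5 e bC) pxList &&
      [0, zC 5, eOneC, eTwoC].all fun e' => memB (hm 5 e e') [0, zC 5, eOneC, eTwoC] &&
        Nat.beq (hm 5 e e') (hm 5 e' e)) = true ∧
    ([0, zC 5, eOneC, eTwoC] : List ℕ).Nodup := by decide +kernel

end CfsgLib.UFourType
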