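import Cfsg.Agent.Lib.UFourType.Swap
import Cfsg.Agent.Lib.UFourType.LocalChecks
import Cfsg.Agent.Lib.Coprime.Generation
import Mathlib.GroupTheory.Transfer

/-!
Relations outside the centralizer.
-/

set_option autoImplicit false
set_option maxRecDepth 100000
set_option maxHeartbeats 2000000

namespace CfsgLib.UFourType

open CfsgLib.CosetEnum

/-- the nine letters -/
def gen9 {G : Type*} [Group G] (i p a s d : G) : ℕ → G
  | 0 => i | 1 => i⁻¹ | 2 => p | 3 => p⁻¹ | 4 => a | 5 => a⁻¹ | 6 => s | 7 => d | 8 => d⁻¹ | _ => 1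

theorem map_gen9 {G G' : Type*} [Group G] [Group G'] (f : G →* G') (i p a s d : G) (n : ℕ) :
    f (gen9 i p a s d n) = gen9 (f i) (f p) (f a) (f s) (f d) n := by
  match n with
  | 0 => rfl | 1 => exact map_inv f i | 2 => rfl | 3 => exact map_inv f p | 4 => rfl
  | 5 => exact map_inv f a | 6 => rfl | 7 => rfl | 8 => exact map_inv f d | n + 9 => exact map_one f

section

variable {G : Type*} [Group G] {z : G} {Q : Subgroup G} {i p a s d : G}

theorem gen9_low {u : List ℕ} (hu : ∀ l ∈ u, l < 7) :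
    prodW (gen9 i p a s d) u = prodW (gen8 i p a s) u := by
  refine prodW_congr fun l hl => ?_
  have := hu l hl
  interval_cases l <;> rfl

theorem inv9_spec (hs : s * s = 1) {u : List ℕ} (hu : ∀ l ∈ u, l < 9) :
    prodW (gen9 i p a s d) (inv9 u) = (prodW (gen9 i p a s d) u)⁻¹ := by
  induction u with
  | nil => simp [inv9, prodW]
  | cons l u ih =>
    rw [show inv9 (l :: u) = inv9 u ++ [([1, 0, 3, 2, 5, 4, 6, 8, 7] : List ℕ).getD l l] by simp [inv9],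
      prodW_append, ih fun m hm => hu m (List.mem_cons_of_mem _ hm)]
    have hl := hu l List.mem_cons_self
    have : prodW (gen9 i p a s d) [([1, 0, 3, 2, 5, 4, 6, 8, 7] : List ℕ).getD l l] = (gen9 i p a s d l)⁻¹ := by
      interval_cases l <;> simp [prodW, gen9, inv_eq_of_mul_eq_one_left hs]
    rw [this]
    simp [prodW, mul_inv_rev]

variable [Finite G] (D : SData z Q i p a s d)
include D

theorem SData.s_sq : s * s = 1 := by
  have := D.dat.rel.rel _ five_rels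
  simpa [prodW, gen8] using this

theorem SData.word9 {n : ℕ} (hn : n < 1152) :
    prodW (gen9 i p a s d) (word 5 n) = val 5 i p a s n ∧
      prodW (gen9 i p a s d) (inv9 (word 5 n)) = (val 5 i p a s n)⁻¹ := by
  have hl := (word_spec (by norm_num : (5 : ℕ) < 8) hn).2
  have e : prodW (gen9 i p a s d) (word 5 n) = val 5 i p a s n := by
    rw [gen9_low hl, ← val_word D.dat.rel hn]
  exact ⟨e, by rw [inv9_spec D.s_sq (fun l h => (hl l h).trans (by norm_num)), e]⟩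

theorem SData.bij :
    (∀ n < 1152, val 5 i p a s n ∈ Subgroup.centralizer ({z} : Set G)) ∧
      (∀ g ∈ Subgroup.centralizer ({z} : Set G), ∃ n < 1152, val 5 i p a s n = g) ∧
      ∀ m < 1152, ∀ n < 1152, val 5 i p a s m = val 5 i p a s n → m = n :=
  val_bij D.dat.rel D.card_H D.dat.gen

theorem SData.inj {m n : ℕ} (hm' : m < 1152) (hn : n < 1152) (h : val 5 i p a s m = val 5 i p a s n) : m = n :=
  D.bij.2.2 m hm' n hn h

theorem SData.mulV {x y : ℕ} (hx : x < 1152) (hy : y < 1152) :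
    val 5 i p a s x * val 5 i p a s y = val 5 i p a s (hm 5 x y) := (hm_spec D.dat.rel hx hy).2.symm

theorem SData.cjV {x y : ℕ} (hx : x < 1152) (hy : y < 1152) :
    val 5 i p a s x * val 5 i p a s y * (val 5 i p a s x)⁻¹ = val 5 i p a s (cj 5 x y) :=
  (cj_spec D.dat.rel hx hy).2.symm

theorem SData.commV {x y : ℕ} (hx : x < 1152) (hy : y < 1152) :
    val 5 i p a s x * val 5 i p a s y = val 5 i p a s y * val 5 i p a s x ↔ hm 5 x y = hm 5 y x := by
  rw [D.mulV hx hy, D.mulV hy hx]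
  exact ⟨fun h => D.inj (hm_spec D.dat.rel hx hy).1 (hm_spec D.dat.rel hy hx).1 h, fun h => by rw [h]⟩

theorem SData.phi {n : ℕ} (hn : n ∈ sList 5) :
    phiF n ∈ sList 5 ∧ d * val 5 i p a s n * d⁻¹ = val 5 i p a s (phiF n) := by
  obtain ⟨h1, h2⟩ := phi_facts
  simp only [List.all_eq_true, Bool.and_eq_true, memB_iff, Nat.beq_eq] at h1 h2
  refine ⟨(h1 n hn).1, ?_⟩
  obtain ⟨r, hr, hrn⟩ := List.mem_map.1 (h1 n hn).2
  have e := D.dphi r hr
  rw [← h2 r hr] at e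
  rwa [hrn] at e

theorem SData.z_code : zC 5 < 1152 ∧ tC 5 < 1152 ∧ zC 5 ∈ sList 5 ∧ tC 5 ∈ sList 5 ∧
    phiF (zC 5) = tC 5 ∧ phiF (tC 5) = hm 5 (zC 5) (tC 5) ∧ phiF (hm 5 (zC 5) (tC 5)) = zC 5 ∧
    hm 5 (zC 5) (tC 5) ∈ sList 5 := by decide +kernel

theorem SData.dz : d * z * d⁻¹ = val 5 i p a s (tC 5) ∧
    d * val 5 i p a s (tC 5) * d⁻¹ = z * val 5 i p a s (tC 5) ∧
    d * (z * val 5 i p a s (tC 5)) * d⁻¹ = z := by
  obtain ⟨lz, lt, sz, st, f1, f2, f3, szt⟩ := D.z_code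
  have e : val 5 i p a s (hm 5 (zC 5) (tC 5)) = z * val 5 i p a s (tC 5) := by
    rw [(hm_spec D.dat.rel lz lt).2, D.dat.z_eq]
  refine ⟨?_, ?_, ?_⟩
  · conv_lhs => rw [← D.dat.z_eq]
    rw [(D.phi sz).2, f1]
  · rw [(D.phi st).2, f2, e]
  · rw [← e, (D.phi szt).2, f3, D.dat.z_eq]

theorem SData.phi2 {n : ℕ} (hn : n ∈ sList 5) :
    d⁻¹ * val 5 i p a s n * d = val 5 i p a s (phiF (phiF n)) := by
  obtain ⟨h1, e1⟩ := D.phi hn
  obtain ⟨h2, e2⟩ := D.phi h1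
  rw [← e2, ← e1, show d * (d * val 5 i p a s n * d⁻¹) * d⁻¹ =
    (d * d * d) * (d⁻¹ * val 5 i p a s n * d) * (d * d * d)⁻¹ by group, D.d3]
  group

/-- an element of the centralizer of a subgroup on the list is in it -/
theorem SData.cent_list {A : List ℕ} (hz : zC 5 ∈ A) (ht : tC 5 ∈ A)
    (hA : ∀ n ∈ sList 5, n ∈ A ∨ ∃ e ∈ A, hm 5 n e ≠ hm 5 e n) (hlt : ∀ e ∈ A, e < 1152) {g : G}
    (hg : ∀ e ∈ A, g * val 5 i p a s e = val 5 i p a s e * g) : ∃ n ∈ A, val 5 i p a s n = g := by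
  obtain ⟨n, hn, rfl⟩ := D.bij.2.1 g (Subgroup.mem_centralizer_singleton_iff.2 (by
    have := hg _ hz
    rwa [D.dat.z_eq] at this))
  have hs : n ∈ sList 5 := (sList_spec (by norm_num)).2 ⟨hn, (D.commV hn (hlt _ ht)).1 (hg _ ht)⟩
  rcases hA n hs with h | ⟨e, he, hne⟩
  · exact ⟨n, h, rfl⟩
  · exact absurd ((D.commV hn (hlt _ he)).1 (hg _ he)) hne

/-- the fourth power of each product is one of two values -/
theorem SData.rel_value {j : ℕ} (hj : j < 3) :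
    (val 5 i p a s (uC j) * d) ^ 4 = 1 ∨ (val 5 i p a s (uC j) * d) ^ 4 = val 5 i p a s (fxC j) := by
  have h := rel_facts
  simp only [List.all_eq_true, List.mem_range, Bool.and_eq_true, Bool.or_eq_true, memB_iff, Nat.beq_eq,
    Bool.not_eq_true', Bool.eq_false_iff, ne_eq, Nat.blt_eq, List.any_eq_true] at h
  obtain ⟨⟨⟨⟨⟨⟨⟨hu, hfx⟩, hzA⟩, htA⟩, hA⟩, hff⟩, hv1⟩, hcent⟩ := h j hj
  set g := val 5 i p a s (uC j) * d with hg
  set A := aList (aiC j)
  have hsub : ∀ e ∈ A, e < 1152 := fun e he => ((sList_spec (by norm_num)).1 (hA e he).1.1.1.1).1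
  have act : ∀ e ∈ A, g * val 5 i p a s e * g⁻¹ = val 5 i p a s (cj 5 (uC j) (phiF e)) := by
    intro e he
    obtain ⟨h1, e1⟩ := D.phi (hA e he).1.1.1.1
    rw [← D.cjV hu ((sList_spec (by norm_num)).1 h1).1, ← e1, hg]
    group
  have hc : ∀ e ∈ A, g ^ 4 * val 5 i p a s e = val 5 i p a s e * g ^ 4 := by
    intro e he
    have a1 := (hA e he).1.1.2
    have a2 := (hA _ a1).1.1.2
    have a3 := (hA _ a2).1.1.2
    have : g ^ 4 * val 5 i p a s e * (g ^ 4)⁻¹ = val 5 i p a s e := by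
      rw [show g ^ 4 * val 5 i p a s e * (g ^ 4)⁻¹ = g * (g * (g * (g * val 5 i p a s e * g⁻¹) * g⁻¹) * g⁻¹) * g⁻¹ by
          rw [pow_succ, pow_succ, pow_succ, pow_one]; group,
        act e he, act _ a1, act _ a2, act _ a3, (hA e he).1.2]
    exact mul_inv_eq_iff_eq_mul.1 this
  obtain ⟨n, hn, hnv⟩ := D.cent_list hzA htA (fun m hm' => (hcent m hm')) hsub hc
  have hfix : cj 5 (uC j) (phiF n) = n := by
    refine D.inj (cj_spec D.dat.rel hu ((sList_spec (by norm_num)).1 (D.phi (hA n hn).1.1.1.1).1).1).1 (hsub n hn) ?_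
    rw [← act n hn, hnv]; group
  rcases (hA n hn).2 with (h0 | h0) | h0
  · exact absurd hfix h0
  · left; rw [← hnv, h0, val_zero]
  · right; rw [← hnv, h0]

/-- changing the element of order three by the involution changes all three values -/
theorem SData.flip :
    SData z Q i p a s (z * d) ∧ ∀ j < 3, (val 5 i p a s (uC j) * (z * d)) ^ 4 =
      val 5 i p a s (fxC j) * (val 5 i p a s (uC j) * d) ^ 4 := by
  obtain ⟨lz, lt, sz, st, f1, f2, f3, szt⟩ := D.z_code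
  obtain ⟨hdz, hdt, hdzt⟩ := D.dz
  have hzc : ∀ n < 1152, z * val 5 i p a s n = val 5 i p a s n * z := fun n hn =>
    (Subgroup.mem_centralizer_singleton_iff.1 (D.bij.1 n hn)).symm
  refine ⟨⟨D.dat, D.z_ord, D.card_H, ?_, fun r hr => ?_⟩, ?_⟩
  · have h2 : z * z = 1 := by
      have := pow_orderOf_eq_one z
      rwa [D.z_ord, pow_two] at this
    have ht2 : val 5 i p a s (tC 5) * val 5 i p a s (tC 5) = 1 := by
      rw [D.mulV lt lt, show hm 5 (tC 5) (tC 5) = 0 by decide +kernel, val_zero]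
    rw [show z * d * (z * d) * (z * d) = z * (d * z * d⁻¹) * (d * (d * z * d⁻¹) * d⁻¹) * (d * d * d) by group,
      hdz, hdt, D.d3, mul_one, mul_assoc, ← mul_assoc _ z, ← hzc _ lt, mul_assoc z (val 5 i p a s (tC 5)),
      ← mul_assoc, h2, one_mul, ht2]
  · have hr1 : r.1 ∈ sList 5 := by rw [← phi_table.2]; exact List.mem_map.2 ⟨r, hr, rfl⟩
    have hp := phi_facts.2
    simp only [List.all_eq_true, Nat.beq_eq] at hp
    obtain ⟨h1, e1⟩ := D.phi hr1
    rw [show z * d * val 5 i p a s r.1 * (z * d)⁻¹ = z * (d * val 5 i p a s r.1 * d⁻¹) * z⁻¹ by group, e1, hp r hr,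
      hzc _ (by rw [← hp r hr]; exact ((sList_spec (by norm_num)).1 h1).1)]
    group
  · intro j hj
    have h := rel_facts
    simp only [List.all_eq_true, List.mem_range, Bool.and_eq_true, Bool.or_eq_true, memB_iff, Nat.beq_eq,
      Bool.not_eq_true', Bool.eq_false_iff, ne_eq, Nat.blt_eq, List.any_eq_true] at h
    obtain ⟨⟨⟨⟨⟨⟨⟨hu, hfx⟩, hzA⟩, htA⟩, hA⟩, hff⟩, ⟨hv1, hnorm⟩⟩, -⟩ := h j hj
    set g := val 5 i p a s (uC j) * d with hg
    set v1 := cj 5 (uC j) (zC 5) with hv1'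
    have hlt : ∀ e ∈ aList (aiC j), e < 1152 := fun e he => ((sList_spec (by norm_num)).1 (hA e he).1.1.1.1).1
    have act : ∀ e ∈ aList (aiC j), g * val 5 i p a s e * g⁻¹ = val 5 i p a s (cj 5 (uC j) (phiF e)) := by
      intro e he
      obtain ⟨h1, e1⟩ := D.phi (hA e he).1.1.1.1
      rw [← D.cjV hu ((sList_spec (by norm_num)).1 h1).1, ← e1, hg]
      group
    have a1 := (hA _ hv1).1.1.2
    have a2 := (hA _ a1).1.1.2
    have a3 := (hA _ a2).1.1.2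
    have l1 := hlt _ hv1
    have e0 : val 5 i p a s (uC j) * (z * d) = val 5 i p a s v1 * g := by
      rw [hv1', ← D.cjV hu lz, D.dat.z_eq, hg]; group
    rw [e0, show (val 5 i p a s v1 * g) ^ 4 = val 5 i p a s v1 * (g * val 5 i p a s v1 * g⁻¹) *
      (g * (g * val 5 i p a s v1 * g⁻¹) * g⁻¹) * (g * (g * (g * val 5 i p a s v1 * g⁻¹) * g⁻¹) * g⁻¹) * g ^ 4 by
        rw [pow_succ, pow_succ, pow_succ, pow_one]; group,
      act _ hv1, act _ a1, act _ a2]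
    congr 1
    obtain ⟨l2, l3, l4⟩ := (⟨hlt _ a1, hlt _ a2, hlt _ a3⟩ : _ ∧ _ ∧ _)
    obtain ⟨m1, q1⟩ := hm_spec D.dat.rel l1 l2
    obtain ⟨m2, q2⟩ := hm_spec D.dat.rel m1 l3
    obtain ⟨-, q3⟩ := hm_spec D.dat.rel m2 l4
    rw [← hnorm, q3, q2, q1]

theorem SData.fx : (d * val 5 i p a s wC * d⁻¹) * val 5 i p a s xC * (d * val 5 i p a s wC * d⁻¹)⁻¹ *
    (val 5 i p a s xC)⁻¹ = 1 ∧ (d * val 5 i p a s wC * d⁻¹) ^ 3 = 1 ∧
    ∀ e ∈ aList 0, (d * val 5 i p a s wC * d⁻¹) * val 5 i p a s e * (d * val 5 i p a s wC * d⁻¹)⁻¹ =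
      val 5 i p a s (cf e) := by
  obtain ⟨hA, hx3, hb3, hw3, -, hzA, htA, -, -, -, lx, lb, lw, -, -⟩ := fx_facts
  simp only [List.all_eq_true, Bool.and_eq_true, Bool.or_eq_true, memB_iff, Nat.beq_eq, Bool.not_eq_true',
    Bool.eq_false_iff, ne_eq] at hA hx3 hw3 hzA htA
  have hr := rel_facts
  simp only [List.all_eq_true, List.mem_range, Bool.and_eq_true, Bool.or_eq_true, memB_iff, Nat.beq_eq,
    Bool.not_eq_true', Bool.eq_false_iff, ne_eq, Nat.blt_eq, List.any_eq_true] at hr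
  obtain ⟨⟨⟨-, hA0⟩, -⟩, hcent⟩ : _ := (⟨⟨⟨(hr 1 (by norm_num)).1.1.1.1, (hr 1 (by norm_num)).1.1.2⟩, trivial⟩,
    (hr 1 (by norm_num)).2⟩ : ((_ ∧ _) ∧ True) ∧ _)
  change ∀ x ∈ sList 5, x ∈ aList 0 ∨ _ at hcent
  have sA : ∀ e ∈ aList 0, e ∈ sList 5 := fun e he => ((hr 1 (by norm_num)).1.1.1.2 e he).1.1.1.1
  have lA : ∀ e ∈ aList 0, e < 1152 := fun e he => ((sList_spec (by norm_num)).1 (sA e he)).1
  set X := val 5 i p a s xC with hX
  set W := val 5 i p a s wC with hW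
  set f := d * W * d⁻¹ with hf
  have fact : ∀ e ∈ aList 0, f * val 5 i p a s e * f⁻¹ = val 5 i p a s (cf e) := by
    intro e he
    have h2 : cj 5 wC (phiF (phiF e)) ∈ aList 0 := (hA e he).1.1.1.1.1.2
    have h1 : phiF (phiF e) ∈ sList 5 := (D.phi (D.phi (sA e he)).1).1
    rw [hf, show d * W * d⁻¹ * val 5 i p a s e * (d * W * d⁻¹)⁻¹ = d * (W * (d⁻¹ * val 5 i p a s e * d) * W⁻¹) * d⁻¹ by group,
      D.phi2 (sA e he), hW, D.cjV lw ((sList_spec (by norm_num)).1 h1).1, (D.phi (sA _ h2)).2]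
    rfl
  have f3 : f ^ 3 = 1 := by
    have : W * W * W = 1 := by rw [hW, D.mulV lw lw, D.mulV (hm_spec D.dat.rel lw lw).1 lw, hw3, val_zero]
    rw [hf, pow_succ, pow_two, show d * W * d⁻¹ * (d * W * d⁻¹) * (d * W * d⁻¹) = d * (W * W * W) * d⁻¹ by group, this]
    group
  set E := f * X * f⁻¹ * X⁻¹ with hE
  have hmore := fx_more
  simp only [List.all_eq_true, Bool.and_eq_true, memB_iff, Nat.beq_eq] at hmore
  have hEc : ∀ e ∈ aList 0, E * val 5 i p a s e = val 5 i p a s e * E := by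
    intro e he
    have hxe := (hA e he).1.1.2
    set e' := cj 5 (hi 5 xC) e with he'
    set e'' := cf (cf e') with he''
    have c2 : cf e' ∈ aList 0 := (hA _ hxe).1.1.1.1.2
    have c3 : e'' ∈ aList 0 := (hA _ c2).1.1.1.1.2
    have x1 : X⁻¹ * val 5 i p a s e * X = val 5 i p a s e' := by
      rw [he', ← D.cjV (hi_spec D.dat.rel lx).1 (lA e he), (hi_spec D.dat.rel lx).2, inv_inv]
    have e3 : cf e'' = e' := (hA _ hxe).1.1.1.2
    have x2 : f⁻¹ * val 5 i p a s e' * f = val 5 i p a s e'' := by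
      have := fact _ c3
      rw [e3] at this
      rw [← this]; group
    have key : E * val 5 i p a s e * E⁻¹ = val 5 i p a s e := by
      rw [hE, show f * X * f⁻¹ * X⁻¹ * val 5 i p a s e * (f * X * f⁻¹ * X⁻¹)⁻¹ =
        f * (X * (f⁻¹ * (X⁻¹ * val 5 i p a s e * X) * f) * X⁻¹) * f⁻¹ by group, x1, x2, hX,
        D.cjV lx (lA _ c3), fact _ ((hmore _ c3).1.1), (hA _ c3).1.2, e3, he', (hmore e he).1.2]
    exact mul_inv_eq_iff_eq_mul.1 key
  obtain ⟨n, hn, hnv⟩ := D.cent_list hzA htA hcent lA hEc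
  have hX3 : X * X * X = 1 := by rw [hX, D.mulV lx lx, D.mulV (hm_spec D.dat.rel lx lx).1 lx, hx3, val_zero]
  obtain ⟨hnx, enx⟩ := hm_spec D.dat.rel (lA n hn) lx
  obtain ⟨h2x, e2x⟩ := hm_spec D.dat.rel hnx hnx
  obtain ⟨h3x, e3x⟩ := hm_spec D.dat.rel h2x hnx
  have hcube : hm 5 (hm 5 (hm 5 n xC) (hm 5 n xC)) (hm 5 n xC) = 0 := by
    refine D.inj h3x (by norm_num) ?_
    rw [e3x, e2x, enx, hnv, ← hX, val_zero, hE,
      show f * X * f⁻¹ * X⁻¹ * X * (f * X * f⁻¹ * X⁻¹ * X) * (f * X * f⁻¹ * X⁻¹ * X) = f * (X * X * X) * f⁻¹ by group, hX3]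
    group
  have d1 : cf n ∈ aList 0 := (hA n hn).1.1.1.1.2
  have d2 : cf (cf n) ∈ aList 0 := (hA _ d1).1.1.1.1.2
  have hnorm : hm 5 (hm 5 n (cf n)) (cf (cf n)) = 0 := by
    obtain ⟨h1, e1⟩ := hm_spec D.dat.rel (lA n hn) (lA _ d1)
    obtain ⟨h2, e2⟩ := hm_spec D.dat.rel h1 (lA _ d2)
    refine D.inj h2 (by norm_num) ?_
    have hh : ∀ u ∈ aList 0, ∀ w ∈ aList 0, hm 5 u w = hm 5 w u := fun u hu w hw => (hmore u hu).2 w hw
    have c01 : Commute (val 5 i p a s n) (val 5 i p a s (cf n)) := (D.commV (lA _ hn) (lA _ d1)).2 (hh _ hn _ d1)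
    have c02 : Commute (val 5 i p a s n) (val 5 i p a s (cf (cf n))) := (D.commV (lA _ hn) (lA _ d2)).2 (hh _ hn _ d2)
    have c12 : Commute (val 5 i p a s (cf n)) (val 5 i p a s (cf (cf n))) := (D.commV (lA _ d1) (lA _ d2)).2 (hh _ d1 _ d2)
    rw [e2, e1, val_zero, c01.eq, mul_assoc, c02.eq, ← mul_assoc, c12.eq, ← fact _ d1, ← fact _ hn, hnv, hE]
    rw [show f * (f * (f * X * f⁻¹ * X⁻¹) * f⁻¹) * f⁻¹ * (f * (f * X * f⁻¹ * X⁻¹) * f⁻¹) * (f * X * f⁻¹ * X⁻¹) =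
      f ^ 3 * X * (f ^ 3)⁻¹ * X⁻¹ by rw [pow_succ, pow_two]; group, f3]
    group
  refine ⟨?_, f3, fact⟩
  rcases (hA n hn).2 with (h | h) | h
  · exact absurd hcube h
  · exact absurd hnorm h
  · show E = 1
    rw [← hnv, h, val_zero]

end

end CfsgLib.UFourType
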