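import Cfsg.Agent.Lib.UFourType.Cm

/-!
All relations of the presentation, and the exclusion of the other choices.
-/

set_option autoImplicit false
set_option maxRecDepth 100000
set_option maxHeartbeats 1000000

namespace CfsgLib.UFourType

open CfsgLib.CosetEnum

/-- the data with all relations -/
structure MData {G : Type*} [Group G] (z : G) (Q : Subgroup G) (i p a s d : G) : Prop where
  sd : SData z Q i p a s d
  rels : ∀ r ∈ certMain.rels, prodW (gen9 i p a s d) r = 1

section

variable {G : Type*} [Group G] [Finite G] {z : G} {Q : Subgroup G} {i p a s d : G}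

theorem SData.base_hold (D : SData z Q i p a s d) : ∀ r ∈ baseRels, prodW (gen9 i p a s d) r = 1 := by
  obtain ⟨-, -, -, -, -, -, -, -, -, -, lx, lb, lw, -, -⟩ := fx_facts
  have hd : ∀ r, prodW (gen9 i p a s d) ([7] ++ word 5 r ++ [8]) = d * prodW (gen9 i p a s d) (word 5 r) * d⁻¹ := by
    intro r
    rw [prodW_append, prodW_append]
    simp [prodW, gen9]
  have hlt9 : ∀ {n}, n < 1152 → ∀ l ∈ word 5 n, l < 9 := fun hn l hl =>
    ((word_spec (by norm_num : (5 : ℕ) < 8) hn).2 l hl).trans (by norm_num)
  intro r hr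
  simp only [baseRels, List.mem_append, List.mem_map, List.mem_cons, List.not_mem_nil, or_false] at hr
  rcases hr with (((⟨u, hu, rfl⟩ | rfl | rfl) | ⟨e, he, rfl⟩) | rfl | rfl)
  · have hlen := (info (by norm_num : (5 : ℕ) < 8)).2.2.2.2 u hu
    rw [show prodW (gen9 i p a s d) (u.map tr9) = prodW (gen8 i p a s) u by
      unfold prodW
      rw [List.map_map]
      refine congrArg List.prod (List.map_congr_left fun l hl => ?_)
      have := hlen l hl
      interval_cases l
      all_goals first
        | rfl
        | exact (inv_eq_of_mul_eq_one_left D.s_sq).symm]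
    exact D.dat.rel.rel u hu
  · simp [prodW, gen9]
  · show d * (d * (d * 1)) = 1
    rw [mul_one, ← mul_assoc, D.d3]
  · have hes : e ∈ sList 5 := by
      have h : ∀ e ∈ drList, memB e (sList 5) = true := by decide +kernel
      exact memB_iff.1 (h e he)
    obtain ⟨h1, e1⟩ := D.phi hes
    rw [drW, prodW_append, hd, (D.word9 ((sList_spec (by norm_num)).1 hes).1).1,
      (D.word9 ((sList_spec (by norm_num)).1 h1).1).2, e1, mul_inv_cancel]
  · obtain ⟨hfx, -, -⟩ := D.fx
    have hF : ∀ l ∈ [7] ++ word 5 wC ++ [8], l < 9 := by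
      intro l hl
      simp only [List.mem_append, List.mem_cons, List.not_mem_nil, or_false] at hl
      rcases hl with (rfl | h) | rfl
      exacts [by norm_num, hlt9 lw l h, by norm_num]
    rw [fxW, prodW_append, prodW_append, prodW_append, inv9_spec D.s_sq hF, hd, (D.word9 lw).1, (D.word9 lx).1,
      (D.word9 lx).2]
    exact hfx
  · have hF : ∀ l ∈ [7] ++ word 5 wC ++ [8], l < 9 := by
      intro l hl
      simp only [List.mem_append, List.mem_cons, List.not_mem_nil, or_false] at hl
      rcases hl with (rfl | h) | rfl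
      exacts [by norm_num, hlt9 lw l h, by norm_num]
    have hcm := D.cm
    set f := [7] ++ word 5 wC ++ [8] with hfdef
    have hB : ∀ l ∈ f ++ word 5 bC ++ inv9 f, l < 9 := by
      have hi : ∀ l ∈ inv9 f, l < 9 := by
        intro l hl
        simp only [inv9, List.mem_reverse, List.mem_map] at hl
        obtain ⟨m, hm', rfl⟩ := hl
        have := hF m hm'
        interval_cases m <;> simp
      intro l hl
      simp only [List.mem_append] at hl
      rcases hl with (h | h) | h
      exacts [hF l h, hlt9 lb l h, hi l h]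
    rw [cmW]
    show prodW (gen9 i p a s d) (word 5 bC ++ (f ++ word 5 bC ++ inv9 f) ++ inv9 (word 5 bC) ++
      inv9 (f ++ word 5 bC ++ inv9 f)) = 1
    rw [prodW_append, prodW_append, prodW_append, inv9_spec D.s_sq hB, prodW_append, prodW_append,
      inv9_spec D.s_sq hF, hfdef, hd, (D.word9 lw).1, (D.word9 lb).1, (D.word9 lb).2, hcm]
    group

theorem SData.relW_hold (D : SData z Q i p a s d) {j c : ℕ} (hj : j < 3)
    (hc : (val 5 i p a s (uC j) * d) ^ 4 = if c = 0 then 1 else val 5 i p a s (fxC j)) :
    prodW (gen9 i p a s d) (relW j c) = 1 := by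
  have h : ∀ j < 3, uC j < 1152 ∧ fxC j < 1152 := by decide +kernel
  obtain ⟨hu, hf⟩ := h j hj
  rw [relW, prodW_append]
  have e : ∀ n, prodW (gen9 i p a s d) (List.replicate n (word 5 (uC j) ++ [7])).flatten =
      (val 5 i p a s (uC j) * d) ^ n := by
    intro n
    induction n with
    | zero => simp [prodW]
    | succ n ih =>
      rw [List.replicate_succ, List.flatten_cons, prodW_append, ih, pow_succ', prodW_append, (D.word9 hu).1]
      simp [prodW, gen9]
  rw [e, hc]
  split
  · rw [(D.word9 (by norm_num)).2, val_zero]; simp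
  · rw [(D.word9 hf).2, mul_inv_cancel]

theorem SData.choice_hold (D : SData z Q i p a s d) {c : ℕ} (hc : c < 4)
    (hv : ∀ j < 3, (val 5 i p a s (uC j) * d) ^ 4 = if (choiceV c).getD j 0 = 0 then 1 else val 5 i p a s (fxC j)) :
    ∀ r ∈ (choiceC c).rels, prodW (gen9 i p a s d) r = 1 := by
  have h := choice_info
  simp only [List.all_eq_true, List.mem_range, Bool.and_eq_true, List.any_eq_true, beq_iff_eq] at h
  intro r hr
  obtain ⟨r', hr', rfl⟩ := (h c hc).1.1.2 r hr
  simp only [choiceRels, List.mem_append, List.mem_map, List.mem_range] at hr'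
  rcases hr' with h' | ⟨j, hj, rfl⟩
  · exact D.base_hold _ h'
  · exact D.relW_hold hj (hv j hj)

theorem SData.not_small (D : SData z Q i p a s d) {c : ℕ} (hc : c < 3)
    (hv : ∀ j < 3, (val 5 i p a s (uC j) * d) ^ 4 = if (choiceV c).getD j 0 = 0 then 1 else val 5 i p a s (fxC j)) :
    False := by
  have h := choice_info
  simp only [List.all_eq_true, List.mem_range, Bool.and_eq_true, decide_eq_true_eq, Nat.beq_eq] at h
  obtain ⟨⟨⟨⟨⟨hK, hinv⟩, hsub⟩, -⟩, -⟩, hN⟩ := h c (by omega)
  rw [if_neg (by omega)] at hN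
  set H := Subgroup.centralizer ({z} : Set G)
  have hmem : ∀ y ∈ ({i, p, a, s} : Set G), y ∈ H := fun y hy => by
    rw [show H = _ from D.dat.gen]; exact Subgroup.subset_closure hy
  have m : Model (choiceC c) H (gen9 i p a s d) := by
    refine ⟨by rw [hK]; rfl, fun g => ?_, D.choice_hold (by omega) hv, fun w hw => ?_⟩
    · rw [Cert.inv, hinv]
      match g with
      | 0 | 1 | 2 | 3 | 4 | 5 | 7 | 8 => simp [gen9]
      | 6 => simp [gen9, D.s_sq]
      | n + 9 => simp [gen9, List.getD_eq_default]
    · rw [hsub] at hw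
      simp only [List.mem_cons, List.not_mem_nil, or_false] at hw
      rcases hw with rfl | rfl | rfl | rfl <;> simp only [prodW, List.map_cons, List.map_nil, List.prod_cons,
        List.prod_nil, mul_one, gen9] <;> exact hmem _ (by simp)
  have hcpl : (choiceC c).Complete := by
    match c, hc with
    | 0, _ => exact certC0_complete
    | 1, _ => exact certC1_complete
    | 2, _ => exact certC2_complete
  obtain ⟨n, hn, hcos⟩ := exists_coset hcpl m (x := d) (Subgroup.subset_closure ⟨7, by omega, rfl⟩)
  obtain rfl : n = 0 := by omega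
  rw [coreRep, hcpl.nd_zero, psi_zero, inv_one, mul_one] at hcos
  obtain ⟨hdz, -, -⟩ := D.dz
  rw [show d * z * d⁻¹ = z by rw [Subgroup.mem_centralizer_singleton_iff.1 hcos]; group] at hdz
  have htz : ¬ Nat.beq (tC 5) (zC 5) = true := by decide +kernel
  obtain ⟨lz, lt, -⟩ := D.z_code
  exact htz (by rw [D.inj lt lz (hdz.symm.trans D.dat.z_eq.symm)]; exact Nat.beq_refl _)

theorem SData.exists_mdata (D : SData z Q i p a s d) : ∃ d', MData z Q i p a s d' := by
  have hfx2 : ∀ j < 3, val 5 i p a s (fxC j) * val 5 i p a s (fxC j) = 1 := by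
    have h : ∀ j < 3, fxC j < 1152 ∧ Nat.beq (hm 5 (fxC j) (fxC j)) 0 = true := by decide +kernel
    intro j hj
    rw [D.mulV (h j hj).1 (h j hj).1, Nat.eq_of_beq_eq_true (h j hj).2, val_zero]
  -- first make the first value trivial
  obtain ⟨d', D', h0⟩ : ∃ d', ∃ _ : SData z Q i p a s d', (val 5 i p a s (uC 0) * d') ^ 4 = 1 := by
    rcases D.rel_value (j := 0) (by norm_num) with h | h
    · exact ⟨d, D, h⟩
    · obtain ⟨D', hflip⟩ := D.flip
      exact ⟨z * d, D', by rw [hflip 0 (by norm_num), h, hfx2 0 (by norm_num)]⟩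
  obtain ⟨c, hc, hv⟩ : ∃ c < 4, ∀ j < 3, (val 5 i p a s (uC j) * d') ^ 4 =
      if (choiceV c).getD j 0 = 0 then 1 else val 5 i p a s (fxC j) := by
    rcases D'.rel_value (j := 1) (by norm_num) with h1 | h1 <;> rcases D'.rel_value (j := 2) (by norm_num) with h2 | h2
    · exact ⟨0, by norm_num, fun j hj => by interval_cases j <;> simp [choiceV, h0, h1, h2]⟩
    · exact ⟨3, by norm_num, fun j hj => by interval_cases j <;> simp [choiceV, h0, h1, h2]⟩
    · exact ⟨1, by norm_num, fun j hj => by interval_cases j <;> simp [choiceV, h0, h1, h2]⟩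
    · exact ⟨2, by norm_num, fun j hj => by interval_cases j <;> simp [choiceV, h0, h1, h2]⟩
  by_cases h3 : c = 3
  · subst h3
    exact ⟨d', D', D'.choice_hold (by norm_num) hv⟩
  · exact (D'.not_small (c := c) (by omega) hv).elim

end

end CfsgLib.UFourType
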