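import Mathlib

/-!
Small facts about the special linear group of degree two over three elements, by enumeration.
-/

set_option autoImplicit false
set_option maxRecDepth 100000

namespace CfsgLib.UFourType

/-- `SL(2,3)` -/
abbrev SL23 := Matrix.SpecialLinearGroup (Fin 2) (ZMod 3)

/-- an element of order four -/
def sI : SL23 := ⟨!![0, 1; 2, 0], by decide⟩

/-- an element of order three -/
def sU : SL23 := ⟨!![1, 1; 0, 1], by decide⟩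

/-- the central involution -/
def sZ : SL23 := ⟨!![2, 0; 0, 2], by decide⟩

theorem sl_card : Nat.card SL23 = 24 := by rw [Nat.card_eq_fintype_card]; decide +kernel

theorem sl_gen : ∀ g : SL23, ∃ a b c d : Fin 3,
    g = sU ^ (a : ℕ) * (sI * sU * sI⁻¹) ^ (b : ℕ) * sU ^ (c : ℕ) * (sI * sU * sI⁻¹) ^ (d : ℕ) := by
  decide +kernel

theorem sl_z : sI * sI = sZ ∧ sZ * sZ = 1 ∧ sZ ≠ 1 ∧ sU ^ 3 = 1 ∧ sU ≠ 1 ∧ sI ^ 4 = 1 ∧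
    ∀ g : SL23, g * sZ = sZ * g ∧ (g * g = 1 → g = 1 ∨ g = sZ) := by decide +kernel

theorem sl_quat_form : ∀ g : SL23, g ^ 4 = 1 ↔ ∃ (a : Fin 4) (b : Fin 2), g = sI ^ (a : ℕ) * (sU * sI * sU⁻¹) ^ (b : ℕ) := by
  decide +kernel

theorem sl_quat_card : Nat.card {g : SL23 // g ^ 4 = 1} = 8 := by
  rw [Nat.card_eq_fintype_card]; decide +kernel

theorem sl_quat_mul : ∀ x y : SL23, x ^ 4 = 1 → y ^ 4 = 1 →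
    (x * y) ^ 4 = 1 ∧ (x * y * x⁻¹ * y⁻¹ = 1 ∨ x * y * x⁻¹ * y⁻¹ = sZ) := by decide +kernel

theorem sl_cent_U : ∀ g : SL23, (g * sU * g⁻¹ = sU ∨ g * sU * g⁻¹ = sU⁻¹ → g * sU = sU * g) ∧
    (g * sU = sU * g → ∃ (k : Fin 3) (e : Fin 2), g = sU ^ (k : ℕ) * sZ ^ (e : ℕ)) ∧
    (g ^ 4 = 1 → g * sU = sU * g → g = 1 ∨ g = sZ) := by decide +kernel

theorem sl_fix : ∀ j : SL23, j * j = sZ → sU * sU * j * sU⁻¹ * sU⁻¹ = sU * j * sU⁻¹ * j →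
    ∃ k : Fin 3, j = sU ^ (k : ℕ) * sI * (sU ^ (k : ℕ))⁻¹ := by decide +kernel

theorem sl_invert : ∀ j : SL23, j * j = sZ → sU⁻¹ * sU⁻¹ * j * sU * sU = sU⁻¹ * j * sU * j →
    ∃ k : Fin 3, (sU ^ (k : ℕ))⁻¹ * j * sU ^ (k : ℕ) = (sU ^ (k : ℕ) * sI * (sU ^ (k : ℕ))⁻¹)⁻¹ := by
  decide +kernel

/-- the relations of the chosen generators -/
theorem sl_rel : ∀ k : Fin 3, let i := sU ^ (k : ℕ) * sI * (sU ^ (k : ℕ))⁻¹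
    i ^ 4 = 1 ∧ i * i = sZ ∧ i * (sU * i * sU⁻¹) * i⁻¹ * (sU * i * sU⁻¹) = 1 ∧
      sU * sU * i * sU⁻¹ * sU⁻¹ * i⁻¹ * sU * i⁻¹ * sU⁻¹ = 1 ∧
      (sU * i * sU⁻¹) * (sU * i * sU⁻¹) * (i⁻¹ * i⁻¹) = 1 := by decide +kernel

theorem sl_stab : ∀ x q : SL23, q * q = sZ → (x * q * x⁻¹ = q ∨ x * q * x⁻¹ = q⁻¹) → x ^ 4 = 1 := by
  decide +kernel

theorem sl_partner : ∀ q : SL23, q * q = sZ → ∃ r : SL23, r * r = sZ ∧ q * r * q⁻¹ * r⁻¹ = sZ := by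
  decide +kernel

theorem sl_twist : ∀ j : SL23, j * j = sZ → sU⁻¹ * sU⁻¹ * j * sU * sU = sU⁻¹ * j * sU * j →
    ∀ (x : SL23) (a c : Fin 4) (b e : Fin 2),
      let q := sI ^ (a : ℕ) * (sU * sI * sU⁻¹) ^ (b : ℕ)
      let r := sI ^ (c : ℕ) * (sU * sI * sU⁻¹) ^ (e : ℕ)
      let q' := x * (j ^ (a : ℕ) * (sU⁻¹ * j * sU) ^ (b : ℕ)) * x⁻¹
      let r' := x * (j ^ (c : ℕ) * (sU⁻¹ * j * sU) ^ (e : ℕ)) * x⁻¹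
      q * q = sZ → (q' = q ∨ q' = q⁻¹) → q * r * q⁻¹ * r⁻¹ = sZ → (r' * r⁻¹ = q ∨ r' * r⁻¹ = q⁻¹) := by
  decide +kernel

theorem sl_two_part : ∀ g : SL23, g ^ 8 = 1 → g ^ 4 = 1 := by decide +kernel

theorem sl_two_sq : ∀ g : SL23, (g ^ 2 = 1 ∨ g ^ 2 = sZ) ↔ g ^ 4 = 1 := by decide +kernel

theorem sl_quat_fix : ∀ (x : SL23) (a : Fin 3), x ^ 4 = 1 → (a : ℕ) ≠ 0 →
    (sU ^ (a : ℕ) * x * (sU ^ (a : ℕ))⁻¹ * x⁻¹ = 1 ∨ sU ^ (a : ℕ) * x * (sU ^ (a : ℕ))⁻¹ * x⁻¹ = sZ) →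
    x = 1 ∨ x = sZ := by decide +kernel

theorem sl_U_pows : ∀ a b : Fin 3, ((sU ^ (a : ℕ) = sU ^ (b : ℕ) ∨ sU ^ (a : ℕ) = sU ^ (b : ℕ) * sZ) → a = b) ∧
    sU ^ (a : ℕ) ≠ sZ := by decide +kernel

end CfsgLib.UFourType
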