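import Cfsg.Agent.Lib.UFourType.SLFacts
import Mathlib.Tactic

/-!
The hypotheses, in terms of two homomorphisms from `SL(2,3)`, and the central product.
-/

set_option autoImplicit false

namespace CfsgLib.UFourType

/-- The hypotheses on the involution `z`. -/
structure Hyp {G : Type*} [Group G] (z : G) (α β : SL23 →* G) (Q : Subgroup G) : Prop where
  z_ord : orderOf z = 2
  card_H : Nat.card (Subgroup.centralizer ({z} : Set G)) = 1152
  α_inj : Function.Injective α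
  β_inj : Function.Injective β
  α_le : α.range ≤ Subgroup.centralizer ({z} : Set G)
  β_le : β.range ≤ Subgroup.centralizer ({z} : Set G)
  meet : α.range ⊓ β.range = Subgroup.zpowers z
  α_normal : ∀ k ∈ α.range ⊔ β.range, ∀ x ∈ α.range, k * x * k⁻¹ ∈ α.range
  β_normal : ∀ k ∈ α.range ⊔ β.range, ∀ x ∈ β.range, k * x * k⁻¹ ∈ β.range
  K_normal : ∀ h ∈ Subgroup.centralizer ({z} : Set G), ∀ k ∈ α.range ⊔ β.range,
    h * k * h⁻¹ ∈ α.range ⊔ β.range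
  Q_le : Q ≤ α.range ⊔ β.range
  Q_normal : ∀ h ∈ Subgroup.centralizer ({z} : Set G), ∀ q ∈ Q, h * q * h⁻¹ ∈ Q
  Q_pgroup : IsPGroup 2 Q
  Q_max : ∀ N : Subgroup G, N ≤ α.range ⊔ β.range → IsPGroup 2 N →
    (∀ k ∈ α.range ⊔ β.range, ∀ x ∈ N, k * x * k⁻¹ ∈ N) → N ≤ Q
  Q_cent : ∀ h ∈ Subgroup.centralizer ({z} : Set G), (∀ q ∈ Q, q * h = h * q) → h ∈ Q
  moved : ∃ g : G, g * z * g⁻¹ ∈ Q ∧ g * z * g⁻¹ ≠ z
  meet_conj : ∀ g : G, g * z * g⁻¹ ∈ Q → g * z * g⁻¹ ≠ z →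
    Nat.card ↥(Q ⊓ Q.map (MulAut.conj g).toMonoidHom) = 4

section

variable {G : Type*} [Group G] [Finite G] {z : G} {α β : SL23 →* G} {Q : Subgroup G}

/-- exchanging the two factors -/
theorem Hyp.swap (h : Hyp z α β Q) : Hyp z β α Q where
  z_ord := h.z_ord
  card_H := h.card_H
  α_inj := h.β_inj
  β_inj := h.α_inj
  α_le := h.β_le
  β_le := h.α_le
  meet := by rw [inf_comm]; exact h.meet
  α_normal := by rw [sup_comm]; exact h.β_normal
  β_normal := by rw [sup_comm]; exact h.α_normal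
  K_normal := by rw [sup_comm]; exact h.K_normal
  Q_le := by rw [sup_comm]; exact h.Q_le
  Q_normal := h.Q_normal
  Q_pgroup := h.Q_pgroup
  Q_max := by rw [sup_comm]; exact h.Q_max
  Q_cent := h.Q_cent
  moved := h.moved
  meet_conj := h.meet_conj

theorem Hyp.z_sq (h : Hyp z α β Q) : z * z = 1 := by
  have := pow_orderOf_eq_one z
  rwa [h.z_ord, pow_two] at this

theorem Hyp.z_ne (h : Hyp z α β Q) : z ≠ 1 := fun e => by
  have := h.z_ord
  rw [e, orderOf_one] at this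
  exact absurd this (by norm_num)

theorem Hyp.αZ (h : Hyp z α β Q) : α sZ = z := by
  obtain ⟨x, hx⟩ : z ∈ α.range := by
    have : z ∈ α.range ⊓ β.range := by rw [h.meet]; exact Subgroup.mem_zpowers z
    exact this.1
  have hx2 : x * x = 1 := h.α_inj (by rw [map_mul, hx, h.z_sq, map_one])
  rcases (sl_z.2.2.2.2.2.2 x).2 hx2 with rfl | rfl
  · rw [map_one] at hx; exact absurd hx.symm h.z_ne
  · exact hx

theorem Hyp.βZ (h : Hyp z α β Q) : β sZ = z := h.swap.αZ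

theorem Hyp.comm_z (h : Hyp z α β Q) {x : G} (hx : x ∈ α.range ⊔ β.range) : x * z = z * x :=
  (Subgroup.mem_centralizer_singleton_iff.1 ((sup_le h.α_le h.β_le) hx))

/-- an element of the meet -/
theorem Hyp.meet_mem (h : Hyp z α β Q) {g : G} (ha : g ∈ α.range) (hb : g ∈ β.range) : g = 1 ∨ g = z := by
  have : g ∈ Subgroup.zpowers z := by rw [← h.meet]; exact ⟨ha, hb⟩
  obtain ⟨n, rfl⟩ := Subgroup.mem_zpowers_iff.1 this
  rcases Int.even_or_odd n with ⟨m, rfl⟩ | ⟨m, rfl⟩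
  · left; rw [← two_mul, zpow_mul, zpow_two, h.z_sq, one_zpow]
  · right; rw [zpow_add, zpow_mul, zpow_two, h.z_sq, one_zpow, one_mul, zpow_one]

theorem Hyp.comm (h : Hyp z α β Q) (x y : SL23) : α x * β y = β y * α x := by
  have hαK : ∀ x, α x ∈ α.range ⊔ β.range := fun x => Subgroup.mem_sup_left ⟨x, rfl⟩
  have hβK : ∀ y, β y ∈ α.range ⊔ β.range := fun y => Subgroup.mem_sup_right ⟨y, rfl⟩
  have h3 : ∀ a : SL23, a ^ 3 = 1 → α a * β y = β y * α a := by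
    intro a ha
    have hc : α a * β y * (α a)⁻¹ * (β y)⁻¹ = 1 ∨ α a * β y * (α a)⁻¹ * (β y)⁻¹ = z := by
      refine h.meet_mem ?_ (β.range.mul_mem (h.β_normal _ (hαK a) _ ⟨y, rfl⟩) (inv_mem ⟨y, rfl⟩))
      rw [show α a * β y * (α a)⁻¹ * (β y)⁻¹ = α a * (β y * (α a)⁻¹ * (β y)⁻¹) by group]
      exact α.range.mul_mem ⟨a, rfl⟩ (h.α_normal _ (hβK y) _ (inv_mem ⟨a, rfl⟩))
    rcases hc with hc | hc
    · rw [← mul_inv_eq_one, mul_inv_rev, ← mul_assoc]; exact hc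
    · exfalso
      have e : α a * β y * (α a)⁻¹ = z * β y := by rw [← hc]; group
      have hz : α a * z = z * α a := h.comm_z (hαK a)
      have e3 : ∀ w, α a * (z * w) * (α a)⁻¹ = z * (α a * w * (α a)⁻¹) := by
        intro w; rw [← mul_assoc, hz]; simp only [mul_assoc]
      have hp : α a * (α a * (α a * β y * (α a)⁻¹) * (α a)⁻¹) * (α a)⁻¹ = z * β y := by
        rw [e, e3, e, ← mul_assoc z z, h.z_sq, one_mul, e]
      have h1 : α a * α a * α a = 1 := by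
        rw [← map_mul, ← map_mul, ← map_one α, ← ha, pow_succ, pow_two]
      rw [show α a * (α a * (α a * β y * (α a)⁻¹) * (α a)⁻¹) * (α a)⁻¹ =
        (α a * α a * α a) * β y * (α a * α a * α a)⁻¹ by group, h1] at hp
      simp at hp
      exact h.z_ne hp
  obtain ⟨a, b, c, d, rfl⟩ := sl_gen x
  have hU := h3 sU sl_z.2.2.2.1
  have hV := h3 (sI * sU * sI⁻¹) (by
    rw [← MulAut.conj_apply, ← map_pow, sl_z.2.2.2.1, map_one])
  rw [map_mul, map_mul, map_mul, map_pow, map_pow, map_pow, map_pow]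
  have hU' : Commute (α sU) (β y) := hU
  have hV' : Commute (α (sI * sU * sI⁻¹)) (β y) := hV
  exact ((((hU'.pow_left _).mul_left (hV'.pow_left _)).mul_left (hU'.pow_left _)).mul_left (hV'.pow_left _)).eq

/-- the product map -/
def Hyp.φ (h : Hyp z α β Q) : SL23 × SL23 →* G :=
  MonoidHom.noncommCoprod α β fun x y => h.comm x y

theorem Hyp.φ_apply (h : Hyp z α β Q) (x y : SL23) : h.φ (x, y) = α x * β y := rfl

theorem Hyp.φ_range (h : Hyp z α β Q) : h.φ.range = α.range ⊔ β.range := MonoidHom.noncommCoprod_range _ _ _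

theorem Hyp.mem_K (h : Hyp z α β Q) {k : G} : k ∈ α.range ⊔ β.range ↔ ∃ x y, k = α x * β y := by
  rw [← h.φ_range]
  constructor
  · rintro ⟨⟨x, y⟩, rfl⟩; exact ⟨x, y, rfl⟩
  · rintro ⟨x, y, rfl⟩; exact ⟨(x, y), rfl⟩

theorem Hyp.ker_eq (h : Hyp z α β Q) {x y : SL23} (e : α x * β y = 1) : x = 1 ∧ y = 1 ∨ x = sZ ∧ y = sZ := by
  have hb : α x ∈ β.range := ⟨y⁻¹, by rw [map_inv, eq_inv_of_mul_eq_one_left e]⟩
  rcases h.meet_mem ⟨x, rfl⟩ hb with hx | hx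
  · left
    have hx1 : x = 1 := h.α_inj (by rw [hx, map_one])
    refine ⟨hx1, h.β_inj ?_⟩
    rw [hx, one_mul] at e; rw [e, map_one]
  · right
    have hx1 : x = sZ := h.α_inj (by rw [hx, h.αZ])
    refine ⟨hx1, h.β_inj ?_⟩
    rw [hx] at e; rw [eq_inv_of_mul_eq_one_right e, h.βZ, inv_eq_of_mul_eq_one_left h.z_sq]

/-- components are unique up to the central involution -/
theorem Hyp.unique (h : Hyp z α β Q) {x y x' y' : SL23} (e : α x * β y = α x' * β y') :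
    x = x' ∧ y = y' ∨ x = x' * sZ ∧ y = y' * sZ := by
  have : α (x'⁻¹ * x) * β (y'⁻¹ * y) = 1 := by
    have e' : h.φ ((x', y')⁻¹ * (x, y)) = 1 := by rw [map_mul, map_inv, h.φ_apply, h.φ_apply, e, inv_mul_cancel]
    exact e'
  rcases h.ker_eq this with ⟨a, b⟩ | ⟨a, b⟩
  · exact Or.inl ⟨(inv_mul_eq_one.1 a).symm, (inv_mul_eq_one.1 b).symm⟩
  · exact Or.inr ⟨inv_mul_eq_iff_eq_mul.1 a, inv_mul_eq_iff_eq_mul.1 b⟩

theorem Hyp.mem_α (h : Hyp z α β Q) {x y : SL23} (hm : α x * β y ∈ α.range) : y = 1 ∨ y = sZ := by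
  obtain ⟨x', hx'⟩ := hm
  rcases h.unique (x' := x') (y' := 1) (show α x * β y = α x' * β 1 by rw [map_one, mul_one]; exact hx'.symm) with ⟨-, e⟩ | ⟨-, e⟩
  · exact Or.inl e
  · exact Or.inr (by rw [e, one_mul])

/-- the elements of the normal 2-subgroup -/
theorem Hyp.mem_Q (h : Hyp z α β Q) {k : G} :
    k ∈ Q ↔ ∃ x y : SL23, x ^ 4 = 1 ∧ y ^ 4 = 1 ∧ k = α x * β y := by
  constructor
  · intro hk
    obtain ⟨x, y, rfl⟩ := h.mem_K.1 (h.Q_le hk)
    obtain ⟨n, hn⟩ := h.Q_pgroup ⟨_, hk⟩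
    have hn' : (α x * β y) ^ (2 ^ n) = 1 := congrArg Subtype.val hn
    rw [← h.φ_apply, ← map_pow, Prod.pow_mk, h.φ_apply] at hn'
    have key : ∀ g : SL23, (g ^ (2 ^ n) = 1 ∨ g ^ (2 ^ n) = sZ) → g ^ 4 = 1 := by
      intro g hg
      refine sl_two_part g ?_
      have h2 : g ^ (2 ^ (n + 1)) = 1 := by
        rw [pow_succ, pow_mul, pow_two]
        rcases hg with e | e <;> rw [e]
        · rw [one_mul]
        · exact sl_z.2.1
      have hd := Nat.dvd_gcd (orderOf_dvd_of_pow_eq_one h2) (orderOf_dvd_natCard g)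
      rw [sl_card] at hd
      have hg8 : Nat.gcd (2 ^ (n + 1)) 24 ∣ 8 := by
        have h1 : Nat.gcd (2 ^ (n + 1)) 24 ∣ 2 ^ (n + 1) := Nat.gcd_dvd_left _ _
        have h2 : Nat.gcd (2 ^ (n + 1)) 24 ∣ 8 * 3 := Nat.gcd_dvd_right _ _
        exact (Nat.Coprime.coprime_dvd_left h1 ((show Nat.Coprime 2 3 by decide).pow_left _)).dvd_of_dvd_mul_right h2
      exact orderOf_dvd_iff_pow_eq_one.1 (hd.trans hg8)
    rcases h.ker_eq hn' with ⟨a, b⟩ | ⟨a, b⟩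
    · exact ⟨x, y, key x (Or.inl a), key y (Or.inl b), rfl⟩
    · exact ⟨x, y, key x (Or.inr a), key y (Or.inr b), rfl⟩
  · rintro ⟨x, y, hx, hy, rfl⟩
    let R : Subgroup (SL23 × SL23) :=
      { carrier := {p | p.1 ^ 4 = 1 ∧ p.2 ^ 4 = 1}
        mul_mem' := fun ha hb => ⟨(sl_quat_mul _ _ ha.1 hb.1).1, (sl_quat_mul _ _ ha.2 hb.2).1⟩
        one_mem' := ⟨one_pow _, one_pow _⟩
        inv_mem' := fun ha => ⟨by rw [Prod.fst_inv, inv_pow, ha.1, inv_one],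
          by rw [Prod.snd_inv, inv_pow, ha.2, inv_one]⟩ }
    refine h.Q_max (R.map h.φ) ?_ ?_ ?_ ⟨(x, y), ⟨hx, hy⟩, rfl⟩
    · rw [← h.φ_range]; exact Subgroup.map_le_range _ _
    · refine IsPGroup.map (fun p => ⟨2, ?_⟩) h.φ
      obtain ⟨⟨a, b⟩, hab⟩ := p
      exact Subtype.ext (Prod.ext hab.1 hab.2)
    · rintro k hk _ ⟨⟨a, b⟩, ⟨ha, hb⟩, rfl⟩
      obtain ⟨c, d, rfl⟩ := h.mem_K.1 hk
      refine ⟨(c, d) * (a, b) * (c, d)⁻¹, ⟨?_, ?_⟩, ?_⟩
      · show (c * a * c⁻¹) ^ 4 = 1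
        rw [← MulAut.conj_apply, ← map_pow, ha, map_one]
      · show (d * b * d⁻¹) ^ 4 = 1
        rw [← MulAut.conj_apply, ← map_pow, hb, map_one]
      · rw [map_mul, map_mul, map_inv]; rfl

theorem Hyp.z_mem_Q (h : Hyp z α β Q) : z ∈ Q :=
  h.mem_Q.2 ⟨sZ, 1, (sl_two_sq sZ).1 (Or.inl (by rw [pow_two, sl_z.2.1])), one_pow _,
    by rw [map_one, mul_one, h.αZ]⟩

/-- squares and commutators in `Q` are in the centre -/
theorem Hyp.Q_comm (h : Hyp z α β Q) {a b : G} (ha : a ∈ Q) (hb : b ∈ Q) :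
    (a * b * a⁻¹ * b⁻¹ = 1 ∨ a * b * a⁻¹ * b⁻¹ = z) ∧ (a * a = 1 ∨ a * a = z) := by
  obtain ⟨x, y, hx, hy, rfl⟩ := h.mem_Q.1 ha
  obtain ⟨x', y', hx', hy', rfl⟩ := h.mem_Q.1 hb
  have mk : ∀ u v : SL23, (u = 1 ∨ u = sZ) → (v = 1 ∨ v = sZ) → α u * β v = 1 ∨ α u * β v = z := by
    rintro u v (rfl | rfl) (rfl | rfl)
    · left; simp
    · right; simp [h.βZ]
    · right; simp [h.αZ]
    · left; rw [h.αZ, h.βZ, h.z_sq]
  refine ⟨?_, ?_⟩
  · have e : α x * β y * (α x' * β y') * (α x * β y)⁻¹ * (α x' * β y')⁻¹ =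
        α (x * x' * x⁻¹ * x'⁻¹) * β (y * y' * y⁻¹ * y'⁻¹) := by
      show h.φ (x, y) * h.φ (x', y') * (h.φ (x, y))⁻¹ * (h.φ (x', y'))⁻¹ = _
      rw [← map_inv, ← map_inv, ← map_mul, ← map_mul, ← map_mul]; rfl
    rw [e]
    exact mk _ _ (sl_quat_mul x x' hx hx').2 (sl_quat_mul y y' hy hy').2
  · have e : α x * β y * (α x * β y) = α (x * x) * β (y * y) := by
      show h.φ (x, y) * h.φ (x, y) = _
      rw [← map_mul]; rfl
    rw [e]
    refine mk _ _ ?_ ?_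
    · rw [← pow_two]; exact (sl_two_sq x).2 hx
    · rw [← pow_two]; exact (sl_two_sq y).2 hy

end

end CfsgLib.UFourType
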