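import Cfsg.Agent.Lib.UFourType.Top
import Cfsg.Agent.Lib.Fitting.Basic
import Cfsg.Agent.Lib.Layer.Basic
import Cfsg.Prelude.Def_Local
import Cfsg.Prelude.Def_Solvable

/-!
The hypotheses of the statements give the abstract hypotheses.
-/

set_option autoImplicit false

namespace CfsgLib.UFourType

open Cfsg

theorem hyp_of {G : Type*} [Group G] [Finite G] (z : G) (hz : orderOf z = 2)
    (H₁ H₂ : Subgroup (Subgroup.centralizer ({z} : Set G)))
    (hK : H₁ ⊔ H₂ = Subgroup.closure {x : Subgroup.centralizer ({z} : Set G) | Odd (orderOf x)})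
    (hn₁ : (H₁.subgroupOf (H₁ ⊔ H₂)).Normal) (hn₂ : (H₂.subgroupOf (H₁ ⊔ H₂)).Normal)
    (e₁ : H₁ ≃* SL23) (e₂ : H₂ ≃* SL23)
    (hmeet : (H₁ ⊓ H₂).map (Subgroup.subtype (Subgroup.centralizer ({z} : Set G))) = Subgroup.zpowers z)
    (Q : Subgroup (Subgroup.centralizer ({z} : Set G))) [Q.Normal]
    (hQ : Q = (Cfsg.pCore 2 ↥(H₁ ⊔ H₂)).map (Subgroup.subtype (H₁ ⊔ H₂)))
    (hF : Cfsg.generalizedFittingSubgroup (Subgroup.centralizer ({z} : Set G)) = Q)
    (hnwc : ∃ g : G, (∃ hq : g * z * g⁻¹ ∈ Subgroup.centralizer ({z} : Set G),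
      (⟨g * z * g⁻¹, hq⟩ : Subgroup.centralizer ({z} : Set G)) ∈ Q) ∧ g * z * g⁻¹ ≠ z)
    (hH : Nat.card ↥(Subgroup.centralizer ({z} : Set G)) = 2 ^ 7 * 3 ^ 2)
    (hQQg : ∀ g : G, g * z * g⁻¹ ∈ Q.map (Subgroup.subtype (Subgroup.centralizer ({z} : Set G))) →
      g * z * g⁻¹ ≠ z → Nat.card ↥((Q.map (Subgroup.subtype (Subgroup.centralizer ({z} : Set G)))) ⊓
        (Q.map (Subgroup.subtype (Subgroup.centralizer ({z} : Set G)))).map (MulAut.conj g).toMonoidHom) = 4) :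
    Hyp z ((Subgroup.centralizer ({z} : Set G)).subtype.comp (H₁.subtype.comp e₁.symm.toMonoidHom))
      ((Subgroup.centralizer ({z} : Set G)).subtype.comp (H₂.subtype.comp e₂.symm.toMonoidHom))
      (Q.map (Subgroup.subtype (Subgroup.centralizer ({z} : Set G)))) := by
  set α : SL23 →* G := (Subgroup.centralizer ({z} : Set G)).subtype.comp (H₁.subtype.comp e₁.symm.toMonoidHom)
  set β : SL23 →* G := (Subgroup.centralizer ({z} : Set G)).subtype.comp (H₂.subtype.comp e₂.symm.toMonoidHom)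
  have hα : α.range = H₁.map (Subgroup.centralizer ({z} : Set G)).subtype := by
    ext g
    constructor
    · rintro ⟨x, rfl⟩; exact ⟨_, (e₁.symm x).2, rfl⟩
    · rintro ⟨h, hh, rfl⟩
      refine ⟨e₁ ⟨h, hh⟩, ?_⟩
      show (Subgroup.centralizer ({z} : Set G)).subtype ((e₁.symm (e₁ ⟨h, hh⟩) : H₁) : (Subgroup.centralizer ({z} : Set G))) = _
      rw [e₁.symm_apply_apply]
  have hβ : β.range = H₂.map (Subgroup.centralizer ({z} : Set G)).subtype := by
    ext g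
    constructor
    · rintro ⟨x, rfl⟩; exact ⟨_, (e₂.symm x).2, rfl⟩
    · rintro ⟨h, hh, rfl⟩
      refine ⟨e₂ ⟨h, hh⟩, ?_⟩
      show (Subgroup.centralizer ({z} : Set G)).subtype ((e₂.symm (e₂ ⟨h, hh⟩) : H₂) : (Subgroup.centralizer ({z} : Set G))) = _
      rw [e₂.symm_apply_apply]
  have hsup : α.range ⊔ β.range = (H₁ ⊔ H₂).map (Subgroup.centralizer ({z} : Set G)).subtype := by rw [hα, hβ, Subgroup.map_sup]
  have hKn : ∀ h k : (Subgroup.centralizer ({z} : Set G)), k ∈ H₁ ⊔ H₂ → h * k * h⁻¹ ∈ H₁ ⊔ H₂ := by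
    intro h k hk
    rw [hK] at hk ⊢
    induction hk using Subgroup.closure_induction with
    | mem x hx =>
      refine Subgroup.subset_closure ?_
      show Odd (orderOf (h * x * h⁻¹))
      rwa [← MulAut.conj_apply, MulEquiv.orderOf_eq]
    | one => rw [mul_one, mul_inv_cancel]; exact one_mem _
    | mul x y _ _ h1 h2 =>
      rw [show h * (x * y) * h⁻¹ = h * x * h⁻¹ * (h * y * h⁻¹) by group]; exact mul_mem h1 h2
    | inv x _ h1 => rw [show h * x⁻¹ * h⁻¹ = (h * x * h⁻¹)⁻¹ by group]; exact inv_mem h1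
  refine
    { z_ord := hz
      card_H := by rw [hH]; norm_num
      α_inj := (Subgroup.centralizer ({z} : Set G)).subtype_injective.comp (H₁.subtype_injective.comp e₁.symm.injective)
      β_inj := (Subgroup.centralizer ({z} : Set G)).subtype_injective.comp (H₂.subtype_injective.comp e₂.symm.injective)
      α_le := hα ▸ Subgroup.map_subtype_le _
      β_le := hβ ▸ Subgroup.map_subtype_le _
      meet := by rw [hα, hβ, ← Subgroup.map_inf _ _ _ (Subgroup.centralizer ({z} : Set G)).subtype_injective, hmeet]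
      α_normal := ?_
      β_normal := ?_
      K_normal := ?_
      Q_le := ?_
      Q_normal := ?_
      Q_pgroup := ?_
      Q_max := ?_
      Q_cent := ?_
      moved := ?_
      meet_conj := hQQg }
  · rw [hsup, hα]
    rintro _ ⟨k, hk, rfl⟩ _ ⟨x, hx, rfl⟩
    exact ⟨k * x * k⁻¹, hn₁.conj_mem ⟨x, Subgroup.mem_sup_left hx⟩ hx ⟨k, hk⟩, by simp⟩
  · rw [hsup, hβ]
    rintro _ ⟨k, hk, rfl⟩ _ ⟨x, hx, rfl⟩
    exact ⟨k * x * k⁻¹, hn₂.conj_mem ⟨x, Subgroup.mem_sup_right hx⟩ hx ⟨k, hk⟩, by simp⟩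
  · rw [hsup]
    rintro h hh _ ⟨k, hk, rfl⟩
    exact ⟨⟨h, hh⟩ * k * ⟨h, hh⟩⁻¹, hKn _ _ hk, rfl⟩
  · rw [hsup, hQ]
    exact Subgroup.map_mono (Subgroup.map_subtype_le _)
  · rintro h hh _ ⟨q, hq, rfl⟩
    exact ⟨⟨h, hh⟩ * q * ⟨h, hh⟩⁻¹, Subgroup.Normal.conj_mem inferInstance q hq _, rfl⟩
  · rw [hQ]
    exact ((Fitting.pCore_isPGroup 2).map _).map _
  · intro N hN hp hn
    rw [hsup] at hN hn
    set f : ↥(H₁ ⊔ H₂) →* G := (Subgroup.centralizer ({z} : Set G)).subtype.comp (H₁ ⊔ H₂).subtype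
    have hf : Function.Injective f := (Subgroup.centralizer ({z} : Set G)).subtype_injective.comp (H₁ ⊔ H₂).subtype_injective
    set N' := N.comap f
    have hn' : N'.Normal := ⟨fun x hx k => by
      show f (k * x * k⁻¹) ∈ N
      rw [map_mul, map_mul, map_inv]
      exact hn _ ⟨_, k.2, rfl⟩ _ hx⟩
    have hp' : IsPGroup 2 N' := hp.comap_of_injective f hf
    have hle := Fitting.le_pCore hn' hp'
    intro x hx
    obtain ⟨k, hk, rfl⟩ := hN hx
    refine ⟨k, ?_, rfl⟩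
    rw [hQ]
    exact ⟨⟨k, hk⟩, hle hx, rfl⟩
  · intro h hh hcomm
    refine ⟨⟨h, hh⟩, ?_, rfl⟩
    have hc : (⟨h, hh⟩ : (Subgroup.centralizer ({z} : Set G))) ∈ Subgroup.centralizer (Cfsg.generalizedFittingSubgroup (Subgroup.centralizer ({z} : Set G)) : Set (Subgroup.centralizer ({z} : Set G))) := by
      rw [Subgroup.mem_centralizer_iff]
      intro q hq
      rw [hF] at hq
      exact Subtype.ext (hcomm _ ⟨q, hq, rfl⟩)
    have hmem := CfsgLib.Layer.centralizer_generalizedFitting_le hc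
    rw [hF] at hmem
    exact hmem
  · obtain ⟨g, ⟨hq, hqQ⟩, hne⟩ := hnwc
    exact ⟨g, ⟨_, hqQ, rfl⟩, hne⟩

end CfsgLib.UFourType
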