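import Cfsg.Agent.Lib.UFourType.DataFive

/-!
Checks excluding seven cases, and the normal form in the remaining case.
-/

set_option autoImplicit false
set_option maxRecDepth 100000

namespace CfsgLib.UFourType

open CfsgLib.CosetEnum

/-- membership of a code in a list -/
def memB (n : ℕ) (l : List ℕ) : Bool := l.any (Nat.beq n)

theorem memB_iff {n : ℕ} {l : List ℕ} : memB n l = true ↔ n ∈ l := by
  simp [memB, List.any_eq_true, Nat.beq_eq]

/-- the four-group on `z` and `t` -/
noncomputable def vList (k : ℕ) : List ℕ := [0, zC k, tC k, hm k (zC k) (tC k)]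

/-- the cyclic permutation of the four-group -/
noncomputable def fV (k n : ℕ) : ℕ :=
  if Nat.beq n (zC k) then tC k else if Nat.beq n (tC k) then hm k (zC k) (tC k)
  else if Nat.beq n (hm k (zC k) (tC k)) then zC k else 0

theorem q_conj : ((List.range 8).all fun k => (qList k).all fun n =>
    !(Nat.beq (hm k n n) 0) || Nat.beq n 0 || Nat.beq n (zC k) ||
      ((List.range 1152).any (fun h => Nat.beq (cj k h n) (tC k)) &&
        (List.range 1152).any (fun h => Nat.beq (cj k h n) (hm k (zC k) n)))) = true := by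
  decide +kernel

theorem s_filter : ((List.range 8).all fun k =>
    decide ((List.range 1152).filter (fun n => Nat.beq (hm k n (tC k)) (hm k (tC k) n)) = sList k)) = true := by
  decide +kernel

theorem s_basic : ((List.range 8).all fun k => Nat.beq (sList k).length 64 && decide (sList k).Nodup &&
    memB (tC k) (qList k) && memB (xA k) (sList k) && memB (xB k) (sList k) && memB (xA k) (qList k) &&
    memB (xB k) (qList k) && memB (hm k (xA k) (xB k)) (qList k) &&
    !(memB (xA k) (vList k)) && !(memB (xB k) (vList k)) && !(memB (hm k (xA k) (xB k)) (vList k)) &&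
    Nat.beq (hm k (xA k) (xA k)) (zC k) && Nat.beq (hm k (xB k) (xB k)) 0 && Nat.beq (cm k (xA k) (xB k)) (zC k) &&
    Nat.blt (tC k) 1152 && Nat.beq (hm k (tC k) (tC k)) 0 && !(Nat.beq (tC k) 0) && !(Nat.beq (tC k) (zC k))) = true := by
  decide +kernel

/-- the conditions on the images of the two generators -/
noncomputable def cond1 (k a b : ℕ) : Bool :=
  !(memB a (qList k)) && !(memB b (qList k)) && Nat.beq (hm k a a) (tC k) && Nat.beq (hm k b b) 0 &&
    Nat.beq (cm k a b) (tC k) && !(memB (hm k a b) (qList k)) &&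
    memB (cm k (xA k) a) (vList k) && memB (cm k (xA k) b) (vList k) &&
    memB (cm k (xB k) a) (vList k) && memB (cm k (xB k) b) (vList k)

/-- the conditions on the second image of the first generator -/
noncomputable def condV1 (k a b v : ℕ) : Bool :=
  Nat.beq (hm k v v) (hm k (zC k) (tC k)) &&
    Nat.beq (cm k v (xA k)) (fV k (fV k (cm k (xA k) a))) &&
    Nat.beq (cm k v (xB k)) (fV k (fV k (cm k (xA k) b))) &&
    Nat.beq (cm k a v) (fV k (cm k (xA k) a)) && Nat.beq (cm k b v) (fV k (cm k (xB k) a))

/-- the conditions on the second image of the second generator -/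
noncomputable def condV2 (k a b v1 v : ℕ) : Bool :=
  Nat.beq (hm k v v) 0 && Nat.beq (cm k v1 v) (hm k (zC k) (tC k)) &&
    Nat.beq (cm k v (xA k)) (fV k (fV k (cm k (xB k) a))) &&
    Nat.beq (cm k v (xB k)) (fV k (fV k (cm k (xB k) b))) &&
    Nat.beq (cm k a v) (fV k (cm k (xA k) b)) && Nat.beq (cm k b v) (fV k (cm k (xB k) b))

/-- the exponent vectors -/
def forms : List (ℕ × ℕ × ℕ × ℕ × ℕ) :=
  (List.range 4).flatMap fun f => (List.range 2).flatMap fun A => (List.range 2).flatMap fun B =>
    (List.range 2).flatMap fun C => (List.range 2).map fun E => (f, A, B, C, E)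

/-- a power with exponent at most one -/
def pw1 (x A : ℕ) : ℕ := if A = 0 then 0 else x

/-- a product in normal form -/
noncomputable def form (k : ℕ) (u1 u2 u3 u4 : ℕ) (e : ℕ × ℕ × ℕ × ℕ × ℕ) : ℕ :=
  hm k (hm k (hm k (hm k ((vList k).getD e.1 0) (pw1 u1 e.2.1)) (pw1 u2 e.2.2.1)) (pw1 u3 e.2.2.2.1))
    (pw1 u4 e.2.2.2.2)

/-- the image of a product in normal form -/
noncomputable def formI (k : ℕ) (u1 u2 u3 u4 : ℕ) (e : ℕ × ℕ × ℕ × ℕ × ℕ) : ℕ :=
  hm k (hm k (hm k (hm k (fV k ((vList k).getD e.1 0)) (pw1 u1 e.2.1)) (pw1 u2 e.2.2.1)) (pw1 u3 e.2.2.2.1))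
    (pw1 u4 e.2.2.2.2)

/-- the twist by an element of the centralizer of `t` -/
noncomputable def twist (k s x : ℕ) : ℕ := hm k (hi k x) (cj k (hi k s) x)

/-- in the surviving case: conjugate to the canonical images -/
noncomputable def canon (k s a b v1 v2 : ℕ) : Bool :=
  memB (twist k s (xA k)) (vList k) && memB (twist k s (xB k)) (vList k) &&
    Nat.beq (hm k (cj k s a) (fV k (twist k s (xA k)))) (canY.getD 0 0) &&
    Nat.beq (hm k (cj k s b) (fV k (twist k s (xB k)))) (canY.getD 1 0) &&
    Nat.beq (hm k (cj k s v1) (fV k (fV k (twist k s (xA k))))) (canY.getD 2 0) &&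
    Nat.beq (hm k (cj k s v2) (fV k (fV k (twist k s (xB k))))) (canY.getD 3 0)

/-- the condition that the second images return to the generators -/
noncomputable def closed (k a b v1 v2 : ℕ) : Bool :=
  forms.all fun e => (!(Nat.beq (form k (xA k) (xB k) a b e) v1) || Nat.beq (formI k a b v1 v2 e) (xA k)) &&
    (!(Nat.beq (form k (xA k) (xB k) a b e) v2) || Nat.beq (formI k a b v1 v2 e) (xB k))

theorem solutions : ((List.range 8).all fun k => (sList k).all fun a =>
    !(!(memB a (qList k)) && Nat.beq (hm k a a) (tC k)) || (sList k).all fun b =>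
      !(cond1 k a b) || (sList k).all fun v1 => !(condV1 k a b v1) || (sList k).all fun v2 =>
        !(condV2 k a b v1 v2) ||
          (Nat.beq k 5 && (!(closed k a b v1 v2) || (sList k).any fun s => canon k s a b v1 v2))) = true := by
  decide +kernel

theorem phi_table : (phiL.all fun r =>
    forms.any fun e => Nat.beq (form 5 (xA 5) (xB 5) (canY.getD 0 0) (canY.getD 1 0) e) r.1 &&
      Nat.beq (formI 5 (canY.getD 0 0) (canY.getD 1 0) (canY.getD 2 0) (canY.getD 3 0) e) r.2) = true ∧
    phiL.map Prod.fst = sList 5 := by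
  decide +kernel

end CfsgLib.UFourType
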