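import Cfsg.Agent.Lib.UFourType.Gens
import Cfsg.Agent.Lib.UFourType.SwapChecks

/-!
An element of order three outside the centralizer, and the exclusion of seven cases.
-/

set_option autoImplicit false
set_option maxRecDepth 100000
set_option maxHeartbeats 1000000

namespace CfsgLib.UFourType

open CfsgLib.CosetEnum

/-- Everything known in the surviving case. -/
structure SData {G : Type*} [Group G] (z : G) (Q : Subgroup G) (i p a s d : G) : Prop where
  dat : HData 5 z Q i p a s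
  z_ord : orderOf z = 2
  card_H : Nat.card (Subgroup.centralizer ({z} : Set G)) = 1152
  d3 : d * d * d = 1
  dphi : ∀ r ∈ phiL, d * val 5 i p a s r.1 * d⁻¹ = val 5 i p a s r.2

section

variable {G : Type*} [Group G] [Finite G] {z : G} {α β : SL23 →* G} {Q : Subgroup G} {k : ℕ} {i p a s : G}

theorem HData.bij (D : HData k z Q i p a s) (h : Hyp z α β Q) :
    (∀ n < 1152, val k i p a s n ∈ Subgroup.centralizer ({z} : Set G)) ∧
      (∀ g ∈ Subgroup.centralizer ({z} : Set G), ∃ n < 1152, val k i p a s n = g) ∧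
      ∀ m < 1152, ∀ n < 1152, val k i p a s m = val k i p a s n → m = n :=
  val_bij D.rel h.card_H D.gen

theorem HData.lt_of_mem (D : HData k z Q i p a s) {n : ℕ} (hn : n ∈ qList k) : n < 1152 := by
  have h := (q_basic ⟨k, D.rel.hk⟩).2.1
  simp only [List.all_eq_true, Nat.blt_eq] at h
  exact h n hn

theorem HData.eq_iff (D : HData k z Q i p a s) (h : Hyp z α β Q) {m n : ℕ} (hm' : m < 1152) (hn : n < 1152) :
    val k i p a s m = val k i p a s n ↔ m = n :=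
  ⟨(D.bij h).2.2 m hm' n hn, fun e => by rw [e]⟩

theorem HData.memQ (D : HData k z Q i p a s) (h : Hyp z α β Q) {n : ℕ} (hn : n < 1152) :
    val k i p a s n ∈ Q ↔ n ∈ qList k := by
  rw [D.Q_iff]
  constructor
  · rintro ⟨m, hm', e⟩
    rwa [← (D.eq_iff h (D.lt_of_mem hm') hn).1 e]
  · exact fun hm' => ⟨n, hm', rfl⟩

theorem sList_spec (hk : k < 8) {n : ℕ} :
    n ∈ sList k ↔ n < 1152 ∧ hm k n (tC k) = hm k (tC k) n := by
  have h := s_filter
  simp only [List.all_eq_true, List.mem_range, decide_eq_true_eq] at h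
  rw [← h k hk]
  simp [List.mem_filter, Nat.beq_eq]

theorem fV_spec (R : HRel k i p a s) (hz : zC k < 1152) (ht : tC k < 1152) {d : G}
    (hdz : d * val k i p a s (zC k) * d⁻¹ = val k i p a s (tC k))
    (hdt : d * val k i p a s (tC k) * d⁻¹ = val k i p a s (hm k (zC k) (tC k)))
    (hdu : d * val k i p a s (hm k (zC k) (tC k)) * d⁻¹ = val k i p a s (zC k))
    {n : ℕ} (hn : n ∈ vList k) :
    n < 1152 ∧ fV k n ∈ vList k ∧ d * val k i p a s n * d⁻¹ = val k i p a s (fV k n) := by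
  have hzt := (hm_spec R hz ht).1
  simp only [vList, List.mem_cons, List.not_mem_nil, or_false] at hn ⊢
  unfold fV
  by_cases h1 : n = zC k
  · subst h1; simp only [Nat.beq_refl, if_true]; exact ⟨hz, by simp, hdz⟩
  by_cases h2 : n = tC k
  · subst h2
    simp only [Nat.beq_refl, if_true, show Nat.beq (tC k) (zC k) = false from Bool.eq_false_iff.2 fun e => h1 (Nat.eq_of_beq_eq_true e), if_false]
    exact ⟨ht, by simp, hdt⟩
  by_cases h3 : n = hm k (zC k) (tC k)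
  · simp only [show Nat.beq n (zC k) = false from Bool.eq_false_iff.2 fun e => h1 (Nat.eq_of_beq_eq_true e),
      show Nat.beq n (tC k) = false from Bool.eq_false_iff.2 fun e => h2 (Nat.eq_of_beq_eq_true e),
      show Nat.beq n (hm k (zC k) (tC k)) = true from h3 ▸ Nat.beq_refl _, if_true, Bool.false_eq_true, if_false]
    exact ⟨h3 ▸ hzt, by simp, h3 ▸ hdu⟩
  obtain rfl : n = 0 := by tauto
  simp only [show Nat.beq 0 (zC k) = false from Bool.eq_false_iff.2 fun e => h1 (Nat.eq_of_beq_eq_true e),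
    show Nat.beq 0 (tC k) = false from Bool.eq_false_iff.2 fun e => h2 (Nat.eq_of_beq_eq_true e),
    show Nat.beq 0 (hm k (zC k) (tC k)) = false from Bool.eq_false_iff.2 fun e => h3 (Nat.eq_of_beq_eq_true e),
    Bool.false_eq_true, if_false]
  exact ⟨by norm_num, by simp, by rw [val_zero]; group⟩

theorem forms_mem {e : ℕ × ℕ × ℕ × ℕ × ℕ} (he : e ∈ forms) :
    e.1 < 4 ∧ e.2.1 < 2 ∧ e.2.2.1 < 2 ∧ e.2.2.2.1 < 2 ∧ e.2.2.2.2 < 2 := by
  simp only [forms, List.mem_flatMap, List.mem_map, List.mem_range] at he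
  obtain ⟨f, hf, A, hA, B, hB, C, hC, E, hE, rfl⟩ := he
  exact ⟨hf, hA, hB, hC, hE⟩

theorem val_form (R : HRel k i p a s) {v u1 u2 u3 u4 A B C E : ℕ} (hv : v < 1152) (h1 : u1 < 1152)
    (h2 : u2 < 1152) (h3 : u3 < 1152) (h4 : u4 < 1152) :
    hm k (hm k (hm k (hm k v (pw1 u1 A)) (pw1 u2 B)) (pw1 u3 C)) (pw1 u4 E) < 1152 ∧
    val k i p a s (hm k (hm k (hm k (hm k v (pw1 u1 A)) (pw1 u2 B)) (pw1 u3 C)) (pw1 u4 E)) =
      val k i p a s v * val k i p a s (pw1 u1 A) * val k i p a s (pw1 u2 B) * val k i p a s (pw1 u3 C) *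
        val k i p a s (pw1 u4 E) := by
  have hp : ∀ {u A : ℕ}, u < 1152 → pw1 u A < 1152 := by
    intro u A hu; unfold pw1; split <;> omega
  obtain ⟨l1, e1⟩ := hm_spec R hv (hp (A := A) h1)
  obtain ⟨l2, e2⟩ := hm_spec R l1 (hp (A := B) h2)
  obtain ⟨l3, e3⟩ := hm_spec R l2 (hp (A := C) h3)
  obtain ⟨l4, e4⟩ := hm_spec R l3 (hp (A := E) h4)
  exact ⟨l4, by rw [e4, e3, e2, e1]⟩

/-- transport of a normal form by conjugation -/
theorem form_image (R : HRel k i p a s) (hz : zC k < 1152) (ht : tC k < 1152) {d : G}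
    (hdz : d * val k i p a s (zC k) * d⁻¹ = val k i p a s (tC k))
    (hdt : d * val k i p a s (tC k) * d⁻¹ = val k i p a s (hm k (zC k) (tC k)))
    (hdu : d * val k i p a s (hm k (zC k) (tC k)) * d⁻¹ = val k i p a s (zC k))
    {x1 x2 y1 y2 v1 v2 : ℕ} (l1 : x1 < 1152) (l2 : x2 < 1152) (l3 : y1 < 1152) (l4 : y2 < 1152)
    (l5 : v1 < 1152) (l6 : v2 < 1152)
    (e1 : d * val k i p a s x1 * d⁻¹ = val k i p a s y1) (e2 : d * val k i p a s x2 * d⁻¹ = val k i p a s y2)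
    (e3 : d * val k i p a s y1 * d⁻¹ = val k i p a s v1) (e4 : d * val k i p a s y2 * d⁻¹ = val k i p a s v2)
    {e : ℕ × ℕ × ℕ × ℕ × ℕ} (he : e ∈ forms) :
    form k x1 x2 y1 y2 e < 1152 ∧ formI k y1 y2 v1 v2 e < 1152 ∧
      d * val k i p a s (form k x1 x2 y1 y2 e) * d⁻¹ = val k i p a s (formI k y1 y2 v1 v2 e) := by
  have hf := (forms_mem he).1
  have hv : (vList k).getD e.1 0 ∈ vList k := by
    rw [List.getD_eq_getElem _ _ (show e.1 < (vList k).length by simpa [vList] using hf)]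
    exact List.getElem_mem _
  obtain ⟨lv, hfv, ev⟩ := fV_spec R hz ht hdz hdt hdu hv
  have lfv := (fV_spec R hz ht hdz hdt hdu hfv).1
  obtain ⟨la, ea⟩ := val_form (A := e.2.1) (B := e.2.2.1) (C := e.2.2.2.1) (E := e.2.2.2.2) R lv l1 l2 l3 l4
  obtain ⟨lb, eb⟩ := val_form (A := e.2.1) (B := e.2.2.1) (C := e.2.2.2.1) (E := e.2.2.2.2) R lfv l3 l4 l5 l6
  refine ⟨la, lb, ?_⟩
  rw [form, formI, ea, eb]
  have hp : ∀ {x y : ℕ} (A : ℕ), d * val k i p a s x * d⁻¹ = val k i p a s y →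
      d * val k i p a s (pw1 x A) * d⁻¹ = val k i p a s (pw1 y A) := by
    intro x y A h
    unfold pw1; split
    · rw [val_zero]; group
    · exact h
  have five : ∀ a b c e f : G, d * (a * b * c * e * f) * d⁻¹ =
      (d * a * d⁻¹) * (d * b * d⁻¹) * (d * c * d⁻¹) * (d * e * d⁻¹) * (d * f * d⁻¹) := fun a b c e f => by group
  rw [five, ev, hp _ e1, hp _ e2, hp _ e3, hp _ e4]

/-- an element of order three permuting the four-group -/
theorem HData.exists_swap (D : HData k z Q i p a s) (h : Hyp z α β Q) :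
    ∃ d : G, d * d * d = 1 ∧ d * z * d⁻¹ = val k i p a s (tC k) ∧
      d * val k i p a s (tC k) * d⁻¹ = z * val k i p a s (tC k) ∧
      d * (z * val k i p a s (tC k)) * d⁻¹ = z := by
  classical
  have R := D.rel
  have hk := R.hk
  set H := Subgroup.centralizer ({z} : Set G) with hH
  set V := val k i p a s
  obtain ⟨hmem, hsurj, -⟩ := D.bij h
  have hqb := q_basic ⟨k, hk⟩
  have hzl : zC k < 1152 := hqb.2.2.2
  have hsb := s_basic
  simp only [List.all_eq_true, List.mem_range, Bool.and_eq_true, Nat.beq_eq, decide_eq_true_eq, memB_iff,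
    Bool.not_eq_true', Bool.eq_false_iff, ne_eq, Nat.blt_eq] at hsb
  obtain ⟨⟨⟨⟨⟨⟨⟨⟨⟨⟨⟨⟨⟨⟨⟨⟨⟨hslen, hsnd⟩, htq⟩, hx1s⟩, hx2s⟩, hx1q⟩, hx2q⟩, hx12q⟩, hx1V⟩, hx2V⟩, hx12V⟩,
    hxx1⟩, hxx2⟩, hxc⟩, htl⟩, htt⟩, ht0⟩, htz⟩ := hsb k hk
  have hzz : zC k ≠ 0 := fun e => h.z_ne (by rw [← D.z_eq, e, val_zero])
  -- normalise the conjugate
  obtain ⟨g0, hg0, hg0z⟩ := h.moved
  obtain ⟨n, hn, hnv⟩ := (D.Q_iff _).1 hg0
  have hnl := D.lt_of_mem hn
  have hn2 : hm k n n = 0 := by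
    refine (D.eq_iff h (hm_spec R hnl hnl).1 (by norm_num)).1 ?_
    rw [(hm_spec R hnl hnl).2, hnv, val_zero,
      show g0 * z * g0⁻¹ * (g0 * z * g0⁻¹) = g0 * (z * z) * g0⁻¹ by group, h.z_sq]
    group
  have hn0 : n ≠ 0 := fun e => h.z_ne (by
    rw [e, val_zero] at hnv
    rw [show z = g0⁻¹ * (g0 * z * g0⁻¹) * g0 by group, ← hnv]; group)
  have hnz : n ≠ zC k := fun e => hg0z (by rw [← hnv, e, D.z_eq])
  have hqc := q_conj
  simp only [List.all_eq_true, List.mem_range, Bool.or_eq_true, Bool.and_eq_true, List.any_eq_true,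
    Nat.beq_eq, Bool.not_eq_true', Bool.eq_false_iff, ne_eq] at hqc
  obtain ⟨⟨m, hm', hmn⟩, -⟩ := ((hqc k hk n hn).resolve_left (by simp [hn2, hn0, hnz]))
  set t := V (tC k) with ht
  set g := V m * g0 with hg
  have hgz : g * z * g⁻¹ = t := by
    rw [hg, ht, ← hmn]
    show V m * g0 * z * (V m * g0)⁻¹ = val k i p a s (cj k m n)
    rw [(cj_spec R hm' hnl).2, hnv]
    show V m * g0 * z * (V m * g0)⁻¹ = V m * (g0 * z * g0⁻¹) * (V m)⁻¹
    group
  have htQ : t ∈ Q := (D.Q_iff _).2 ⟨_, htq, rfl⟩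
  have htne : t ≠ z := fun e => htz ((D.eq_iff h htl hzl).1 (e.trans D.z_eq.symm))
  have ht2 : t * t = 1 := by
    show V (tC k) * V (tC k) = 1
    rw [← (hm_spec R htl htl).2, htt, val_zero]
  -- the conjugate of z under the inverse
  have hxl : ∀ {n}, n ∈ sList k → n < 1152 := fun hn => ((sList_spec hk).1 hn).1
  have hxt : ∀ {n}, n ∈ sList k → V n * t = t * V n := by
    intro n hn
    obtain ⟨l, e⟩ := (sList_spec hk).1 hn
    show V n * V (tC k) = V (tC k) * V n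
    rw [← (hm_spec R l htl).2, e, (hm_spec R htl l).2]
  have toH : ∀ {n}, n ∈ sList k → g⁻¹ * V n * g ∈ H := by
    intro n hn
    rw [hH, Subgroup.mem_centralizer_singleton_iff]
    calc g⁻¹ * V n * g * z = g⁻¹ * (V n * (g * z * g⁻¹)) * g := by group
      _ = g⁻¹ * (g * z * g⁻¹ * V n) * g := by rw [hgz, hxt hn]
      _ = _ := by group
  set c0 := g⁻¹ * z * g with hc0
  have hc0K : c0 ∈ kK α β := by
    have := h.comm_K (toH hx1s) (toH hx2s)
    rw [show g⁻¹ * V (xA k) * g * (g⁻¹ * V (xB k) * g) * (g⁻¹ * V (xA k) * g)⁻¹ * (g⁻¹ * V (xB k) * g)⁻¹ =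
      g⁻¹ * (V (xA k) * V (xB k) * (V (xA k))⁻¹ * (V (xB k))⁻¹) * g by group] at this
    rwa [← (cm_spec R (hxl hx1s) (hxl hx2s)).2, hxc, D.z_eq] at this
  have hc02 : c0 * c0 = 1 := by
    rw [hc0, show g⁻¹ * z * g * (g⁻¹ * z * g) = g⁻¹ * (z * z) * g by group, h.z_sq]; group
  have hc0Q : c0 ∈ Q := by
    obtain ⟨x, y, hxy⟩ := h.mem_K.1 hc0K
    have e : α (x * x) * β (y * y) = 1 := by
      rw [← hc02, hxy]
      show h.φ ((x, y) * (x, y)) = h.φ (x, y) * h.φ (x, y)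
      rw [map_mul]
    refine h.mem_Q.2 ⟨x, y, ?_, ?_, hxy⟩
    · refine (sl_two_sq x).1 ?_
      rw [pow_two]; rcases h.ker_eq e with ⟨u, -⟩ | ⟨u, -⟩
      exacts [Or.inl u, Or.inr u]
    · refine (sl_two_sq y).1 ?_
      rw [pow_two]; rcases h.ker_eq e with ⟨-, u⟩ | ⟨-, u⟩
      exacts [Or.inl u, Or.inr u]
  obtain ⟨c, hc, hcv⟩ := (D.Q_iff _).1 hc0Q
  have hcl := D.lt_of_mem hc
  have hc2 : hm k c c = 0 := by
    refine (D.eq_iff h (hm_spec R hcl hcl).1 (by norm_num)).1 ?_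
    rw [(hm_spec R hcl hcl).2, hcv, val_zero, hc02]
  have hc0ne : c ≠ 0 := fun e => h.z_ne (by
    rw [e, val_zero] at hcv
    rw [show z = g * (g⁻¹ * z * g) * g⁻¹ by group, ← hc0, ← hcv]; group)
  have hcz : c ≠ zC k := fun e => htne (by
    rw [e, D.z_eq] at hcv
    calc t = g * z * g⁻¹ := hgz.symm
      _ = g * c0 * g⁻¹ := by rw [← hcv]
      _ = z := by rw [hc0]; group)
  obtain ⟨-, h0, hh0, hh0c⟩ := ((hqc k hk c hc).resolve_left (by simp [hc2, hc0ne, hcz]))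
  obtain ⟨-, j, hj, hjt⟩ := ((hqc k hk (tC k) htq).resolve_left (by simp [htt, ht0, htz]))
  have e0 : V h0 * c0 * (V h0)⁻¹ = z * c0 := by
    show val k i p a s h0 * c0 * (val k i p a s h0)⁻¹ = z * c0
    rw [← hcv, ← (cj_spec R hh0 hcl).2, hh0c, (hm_spec R hzl hcl).2, D.z_eq]
  have ej : V j * t * (V j)⁻¹ = z * t := by
    show val k i p a s j * val k i p a s (tC k) * (val k i p a s j)⁻¹ = z * val k i p a s (tC k)
    rw [← (cj_spec R hj htl).2, hjt, (hm_spec R hzl htl).2, D.z_eq]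
  have zH : ∀ {n}, n < 1152 → V n * z = z * V n := fun hn => Subgroup.mem_centralizer_singleton_iff.1 (hmem _ hn)
  have hztc : t * z = z * t := zH htl
  have hzinv : ∀ x : G, x * z = z * x → x * z * x⁻¹ = z := fun x e => by rw [e]; group
  set hh := g * V h0 * g⁻¹ with hhh
  have hht : hh * t * hh⁻¹ = t := by
    rw [hhh, ← hgz, show g * V h0 * g⁻¹ * (g * z * g⁻¹) * (g * V h0 * g⁻¹)⁻¹ = g * (V h0 * z * (V h0)⁻¹) * g⁻¹ by group,
      hzinv _ (zH hh0)]
  have hhz : hh * z * hh⁻¹ = t * z := by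
    rw [hhh, show g * V h0 * g⁻¹ * z * (g * V h0 * g⁻¹)⁻¹ = g * (V h0 * (g⁻¹ * z * g) * (V h0)⁻¹) * g⁻¹ by group,
      ← hc0, e0, hc0, ← hgz]
    group
  set e := hh * V j with he
  have ez : e * z * e⁻¹ = z * t := by
    rw [he, show hh * V j * z * (hh * V j)⁻¹ = hh * (V j * z * (V j)⁻¹) * hh⁻¹ by group, hzinv _ (zH hj), hhz, hztc]
  have et : e * t * e⁻¹ = z := by
    rw [he, show hh * V j * t * (hh * V j)⁻¹ = hh * (V j * t * (V j)⁻¹) * hh⁻¹ by group, ej,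
      show hh * (z * t) * hh⁻¹ = (hh * z * hh⁻¹) * (hh * t * hh⁻¹) by group, hhz, hht, hztc, mul_assoc, ht2, mul_one]
  have ezt : e * (z * t) * e⁻¹ = t := by
    rw [show e * (z * t) * e⁻¹ = (e * z * e⁻¹) * (e * t * e⁻¹) by group, ez, et, mul_assoc, hztc, ← mul_assoc,
      h.z_sq, one_mul]
  set e' := e⁻¹ with he'
  have back : ∀ {x y : G}, e * x * e⁻¹ = y → e' * y * e'⁻¹ = x := fun hxy => by rw [← hxy, he']; group
  have fz : e' * z * e'⁻¹ = t := back et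
  have ft : e' * t * e'⁻¹ = z * t := back ezt
  have fzt : e' * (z * t) * e'⁻¹ = z := back ez
  -- the cube lies in the 2-group S
  set S := H ⊓ Subgroup.centralizer ({t} : Set G) with hS
  have hScard : Nat.card S = 64 := by
    have e1 : (S : Set G) = ↑((sList k).toFinset.image V) := by
      ext x
      simp only [SetLike.mem_coe, hS, Subgroup.mem_inf, Subgroup.mem_centralizer_singleton_iff,
        Finset.coe_image, Set.mem_image, List.mem_toFinset]
      constructor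
      · rintro ⟨hxH, hxt⟩
        obtain ⟨n, hn', rfl⟩ := hsurj x hxH
        refine ⟨n, (sList_spec hk).2 ⟨hn', (D.eq_iff h (hm_spec R hn' htl).1 (hm_spec R htl hn').1).1 ?_⟩, rfl⟩
        rw [(hm_spec R hn' htl).2, (hm_spec R htl hn').2]; exact hxt
      · rintro ⟨n, hn', rfl⟩
        exact ⟨hmem _ (hxl hn'), hxt hn'⟩
    show Nat.card (S : Set G) = 64
    rw [e1, Nat.card_coe_set_eq, Set.ncard_coe_finset, Finset.card_image_of_injOn, List.toFinset_card_of_nodup hsnd, hslen]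
    intro x hx y hy hxy
    exact (D.eq_iff h (hxl (List.mem_toFinset.1 hx)) (hxl (List.mem_toFinset.1 hy))).1 hxy
  have h3S : e' * e' * e' ∈ S := by
    refine ⟨Subgroup.mem_centralizer_singleton_iff.2 ?_, Subgroup.mem_centralizer_singleton_iff.2 ?_⟩
    · have : e' * (e' * (e' * z * e'⁻¹) * e'⁻¹) * e'⁻¹ = z := by rw [fz, ft, fzt]
      calc e' * e' * e' * z = e' * (e' * (e' * z * e'⁻¹) * e'⁻¹) * e'⁻¹ * (e' * e' * e') := by group
        _ = _ := by rw [this]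
    · have : e' * (e' * (e' * t * e'⁻¹) * e'⁻¹) * e'⁻¹ = t := by rw [ft, fzt, fz]
      calc e' * e' * e' * t = e' * (e' * (e' * t * e'⁻¹) * e'⁻¹) * e'⁻¹ * (e' * e' * e') := by group
        _ = _ := by rw [this]
  have h64 : (e' * e' * e') ^ 64 = 1 := by
    have := pow_card_eq_one' (G := S) (x := ⟨_, h3S⟩)
    rw [hScard] at this
    exact congrArg Subtype.val this
  set d := e' ^ 64 with hd
  have hd3 : d * d * d = 1 := by
    rw [hd, ← pow_add, ← pow_add, show 64 + 64 + 64 = 3 * 64 by norm_num, pow_mul,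
      show e' ^ 3 = e' * e' * e' by rw [pow_succ, pow_two], h64]
  obtain ⟨hdz, hdt, hdzt⟩ : d * z * d⁻¹ = t ∧ d * t * d⁻¹ = z * t ∧ d * (z * t) * d⁻¹ = z := by
    have hfix : ∀ x, x = z ∨ x = t ∨ x = z * t → (e' * e' * e') ^ 21 * x * ((e' * e' * e') ^ 21)⁻¹ = x := by
      intro x hx
      have hc : ∀ x, x = z ∨ x = t ∨ x = z * t → Commute (e' * e' * e') x := by
        intro x hx
        have cz : Commute (e' * e' * e') z := Subgroup.mem_centralizer_singleton_iff.1 h3S.1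
        have ct : Commute (e' * e' * e') t := Subgroup.mem_centralizer_singleton_iff.1 h3S.2
        rcases hx with rfl | rfl | rfl
        exacts [cz, ct, cz.mul_right ct]
      rw [((hc x hx).pow_left 21).eq]; group
    have e64 : d = (e' * e' * e') ^ 21 * e' := by
      have : e' * e' * e' = e' ^ 3 := by rw [pow_succ, pow_two]
      rw [hd, this, ← pow_mul, ← pow_succ]
    have key : ∀ x, d * x * d⁻¹ = (e' * e' * e') ^ 21 * (e' * x * e'⁻¹) * ((e' * e' * e') ^ 21)⁻¹ := fun x => by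
      rw [e64]; group
    refine ⟨?_, ?_, ?_⟩
    · rw [key, fz, hfix t (Or.inr (Or.inl rfl))]
    · rw [key, ft, hfix _ (Or.inr (Or.inr rfl))]
    · rw [key, fzt, hfix z (Or.inl rfl)]
  exact ⟨d, hd3, hdz, hdt, hdzt⟩

/-- the equations satisfied by the images of the generators -/
theorem HData.exists_images (D : HData k z Q i p a s) (h : Hyp z α β Q) {d : G} (hd3 : d * d * d = 1)
    (hdz : d * z * d⁻¹ = val k i p a s (tC k))
    (hdt : d * val k i p a s (tC k) * d⁻¹ = z * val k i p a s (tC k))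
    (hdzt : d * (z * val k i p a s (tC k)) * d⁻¹ = z) :
    ∃ y1 ∈ sList k, ∃ y2 ∈ sList k, ∃ v1 ∈ sList k, ∃ v2 ∈ sList k,
      d * val k i p a s (xA k) * d⁻¹ = val k i p a s y1 ∧ d * val k i p a s (xB k) * d⁻¹ = val k i p a s y2 ∧
      d * val k i p a s y1 * d⁻¹ = val k i p a s v1 ∧ d * val k i p a s y2 * d⁻¹ = val k i p a s v2 ∧
      d * val k i p a s v1 * d⁻¹ = val k i p a s (xA k) ∧ d * val k i p a s v2 * d⁻¹ = val k i p a s (xB k) ∧
      cond1 k y1 y2 = true ∧ condV1 k y1 y2 v1 = true ∧ condV2 k y1 y2 v1 v2 = true := by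
  classical
  have R := D.rel
  have hk := R.hk
  set H := Subgroup.centralizer ({z} : Set G) with hH
  set V := val k i p a s
  obtain ⟨hmem, hsurj, -⟩ := D.bij h
  have hqb := q_basic ⟨k, hk⟩
  have hzl : zC k < 1152 := hqb.2.2.2
  have hsb := s_basic
  simp only [List.all_eq_true, List.mem_range, Bool.and_eq_true, Nat.beq_eq, decide_eq_true_eq, memB_iff,
    Bool.not_eq_true', Bool.eq_false_iff, ne_eq, Nat.blt_eq] at hsb
  obtain ⟨⟨⟨⟨⟨⟨⟨⟨⟨⟨⟨⟨⟨⟨⟨⟨⟨hslen, hsnd⟩, htq⟩, hx1s⟩, hx2s⟩, hx1q⟩, hx2q⟩, hx12q⟩, hx1V⟩, hx2V⟩, hx12V⟩,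
    hxx1⟩, hxx2⟩, hxc⟩, htl⟩, htt⟩, ht0⟩, htz⟩ := hsb k hk
  have hzz : zC k ≠ 0 := fun e => h.z_ne (by rw [← D.z_eq, e, val_zero])
  set t := V (tC k) with ht
  have htQ : t ∈ Q := (D.Q_iff _).2 ⟨_, htq, rfl⟩
  have htne : t ≠ z := fun e => htz ((D.eq_iff h htl hzl).1 (e.trans D.z_eq.symm))
  have ht2 : t * t = 1 := by
    show V (tC k) * V (tC k) = 1
    rw [← (hm_spec R htl htl).2, htt, val_zero]
  have hxl : ∀ {n}, n ∈ sList k → n < 1152 := fun hn => ((sList_spec hk).1 hn).1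
  have hxt : ∀ {n}, n ∈ sList k → V n * t = t * V n := by
    intro n hn
    obtain ⟨l, e⟩ := (sList_spec hk).1 hn
    show V n * V (tC k) = V (tC k) * V n
    rw [← (hm_spec R l htl).2, e, (hm_spec R htl l).2]
  have zH : ∀ {n}, n < 1152 → V n * z = z * V n := fun hn => Subgroup.mem_centralizer_singleton_iff.1 (hmem _ hn)
  have hztc : t * z = z * t := zH htl
  -- the action on S
  have hztl := (hm_spec R hzl htl).1
  have eZT : V (hm k (zC k) (tC k)) = z * t := by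
    show val k i p a s (hm k (zC k) (tC k)) = _
    rw [(hm_spec R hzl htl).2, D.z_eq]
  have DZ : d * val k i p a s (zC k) * d⁻¹ = val k i p a s (tC k) := by rw [D.z_eq]; exact hdz
  have DT : d * val k i p a s (tC k) * d⁻¹ = val k i p a s (hm k (zC k) (tC k)) := hdt.trans eZT.symm
  have DU : d * val k i p a s (hm k (zC k) (tC k)) * d⁻¹ = val k i p a s (zC k) := by
    rw [D.z_eq]; show d * V (hm k (zC k) (tC k)) * d⁻¹ = z; rw [eZT, hdzt]
  have hdS : ∀ {n}, n ∈ sList k → ∃ m, m ∈ sList k ∧ d * V n * d⁻¹ = V m := by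
    intro n hn
    have hdn : d * V n * d⁻¹ ∈ H := by
      rw [hH, Subgroup.mem_centralizer_singleton_iff]
      have hc : Commute (V n) (z * t) :=
        (show Commute (V n) z from zH (hxl hn)).mul_right (hxt hn)
      rw [← hdzt]
      calc d * V n * d⁻¹ * (d * (z * t) * d⁻¹) = d * (V n * (z * t)) * d⁻¹ := by group
        _ = d * (z * t * V n) * d⁻¹ := by rw [hc.eq]
        _ = _ := by group
    have hdnt : d * V n * d⁻¹ * t = t * (d * V n * d⁻¹) := by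
      rw [← hdz]
      calc d * V n * d⁻¹ * (d * z * d⁻¹) = d * (V n * z) * d⁻¹ := by group
        _ = d * (z * V n) * d⁻¹ := by rw [zH (hxl hn)]
        _ = _ := by group
    obtain ⟨m, hm'', hmv⟩ := hsurj _ hdn
    refine ⟨m, (sList_spec hk).2 ⟨hm'', (D.eq_iff h (hm_spec R hm'' htl).1 (hm_spec R htl hm'').1).1 ?_⟩, hmv.symm⟩
    rw [(hm_spec R hm'' htl).2, (hm_spec R htl hm'').2, hmv]; exact hdnt
  obtain ⟨y1, hy1, ey1⟩ := hdS hx1s
  obtain ⟨y2, hy2, ey2⟩ := hdS hx2s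
  obtain ⟨v1, hv1, ev1⟩ := hdS hy1
  obtain ⟨v2, hv2, ev2⟩ := hdS hy2
  have d3x : ∀ x, d * (d * (d * x * d⁻¹) * d⁻¹) * d⁻¹ = x := fun x => by
    rw [show d * (d * (d * x * d⁻¹) * d⁻¹) * d⁻¹ = (d * d * d) * x * (d * d * d)⁻¹ by group, hd3]; group
  have ew1 : d * V v1 * d⁻¹ = V (xA k) := by rw [← ev1, ← ey1, d3x]
  have ew2 : d * V v2 * d⁻¹ = V (xB k) := by rw [← ev2, ← ey2, d3x]
  have lA := hxl hx1s
  have lB := hxl hx2s
  have ly1 := hxl hy1
  have ly2 := hxl hy2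
  have lv1 := hxl hv1
  have lv2 := hxl hv2
  have inj : ∀ {m n : ℕ}, m < 1152 → n < 1152 → V m = V n → m = n := fun hm' hn' e => (D.eq_iff h hm' hn').1 e
  have dQ : ∀ {x y : ℕ}, x ∈ sList k → y ∈ sList k → x ∈ qList k → d * V x * d⁻¹ = V y → y ∈ qList k → y ∈ vList k := by
    intro x y hx hy hxq e hyq
    have hI := h.meet_conj d (by rw [hdz]; exact htQ) (by rw [hdz]; exact htne)
    by_contra hno
    set I := Q ⊓ Q.map (MulAut.conj d).toMonoidHom
    have hzI : z ∈ I := by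
      refine ⟨h.z_mem_Q, ⟨z * t, mul_mem h.z_mem_Q htQ, ?_⟩⟩
      exact hdzt
    have htI : t ∈ I := ⟨htQ, ⟨z, h.z_mem_Q, hdz⟩⟩
    have hyI : V y ∈ I := ⟨(D.Q_iff _).2 ⟨y, hyq, rfl⟩, ⟨V x, (D.Q_iff _).2 ⟨x, hxq, rfl⟩, e⟩⟩
    have hsub : ((vList k).toFinset ∪ {y}).image V ⊆ (I : Set G).toFinite.toFinset := by
      intro u hu
      rw [Set.Finite.mem_toFinset]
      simp only [vList, Finset.mem_image, Finset.mem_union, List.mem_toFinset, List.mem_cons, List.not_mem_nil,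
        or_false, Finset.mem_singleton] at hu
      obtain ⟨w, hw, rfl⟩ := hu
      rcases hw with (rfl | rfl | rfl | rfl) | rfl
      · show val k i p a s 0 ∈ I; rw [val_zero]; exact one_mem _
      · show val k i p a s (zC k) ∈ I; rw [D.z_eq]; exact hzI
      · exact htI
      · rw [eZT]; exact mul_mem hzI htI
      · exact hyI
    have hc := Finset.card_le_card hsub
    rw [← Nat.card_eq_card_finite_toFinset] at hc
    change _ ≤ Nat.card I at hc
    rw [Finset.card_image_of_injOn, Finset.card_union_of_disjoint (by simpa using hno), Finset.card_singleton,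
      List.toFinset_card_of_nodup] at hc
    · simp [vList] at hc; omega
    · simp only [vList, List.nodup_cons, List.mem_cons, List.not_mem_nil, or_false, not_or]
      refine ⟨⟨fun e => hzz e.symm, fun e => ht0 e.symm, ?_⟩, ⟨fun e => htz e.symm, ?_⟩, ?_, not_false, List.nodup_nil⟩
      · intro e
        have := congrArg V e.symm
        rw [eZT, show V 0 = 1 from val_zero k] at this
        exact htne (by rw [eq_inv_of_mul_eq_one_right this, inv_eq_of_mul_eq_one_left h.z_sq])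
      · intro e
        have := congrArg V e
        rw [eZT, show V (zC k) = z from D.z_eq] at this
        exact ht0 (inj htl (by norm_num) ((show V 0 = 1 from val_zero k) ▸ (left_eq_mul.1 this)))
      · intro e
        have := congrArg V e
        rw [eZT] at this
        exact h.z_ne (right_eq_mul.1 this)
    · intro u hu w hw hu'
      simp only [vList, Finset.coe_union, Set.mem_union, List.coe_toFinset, Set.mem_ofPred_eq, List.mem_cons,
        List.not_mem_nil, or_false, Finset.coe_singleton, Set.mem_singleton_iff] at hu hw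
      have lt : ∀ u, ((u = 0 ∨ u = zC k ∨ u = tC k ∨ u = hm k (zC k) (tC k)) ∨ u = y) → u < 1152 := by
        rintro u ((rfl | rfl | rfl | rfl) | rfl)
        exacts [by norm_num, hzl, htl, hztl, hxl hy]
      exact inj (lt u hu) (lt w hw) hu'
  have nVback : ∀ {x y : ℕ}, x < 1152 → x ∉ vList k → d * V x * d⁻¹ = V y → y ∉ vList k := by
    intro x y lx hxV e hy
    obtain ⟨ly, hf, ef⟩ := fV_spec R hzl htl DZ DT DU hy
    obtain ⟨lfy, hff, eff⟩ := fV_spec R hzl htl DZ DT DU hf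
    refine hxV ?_
    have hxy : V x = V (fV k (fV k y)) := by
      show val k i p a s x = val k i p a s (fV k (fV k y))
      rw [← eff, ← ef]
      show V x = d * (d * V y * d⁻¹) * d⁻¹
      rw [← e, d3x]
    exact inj lx (fV_spec R hzl htl DZ DT DU hff).1 hxy ▸ hff
  have notQ : ∀ {x y : ℕ}, x ∈ sList k → y ∈ sList k → x ∈ qList k → x ∉ vList k → d * V x * d⁻¹ = V y →
      y ∉ qList k := fun hx hy hxq hxV e hyq => nVback (hxl hx) hxV e (dQ hx hy hxq e hyq)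
  have hy12 : hm k y1 y2 ∉ qList k := by
    obtain ⟨l12, e12⟩ := hm_spec R ly1 ly2
    obtain ⟨lx12, ex12⟩ := hm_spec R lA lB
    have hsx : hm k (xA k) (xB k) ∈ sList k := by
      refine (sList_spec hk).2 ⟨lx12, inj (hm_spec R lx12 htl).1 (hm_spec R htl lx12).1 ?_⟩
      show val k i p a s _ = val k i p a s _
      rw [(hm_spec R lx12 htl).2, (hm_spec R htl lx12).2, ex12]
      exact ((show Commute (V (xA k)) t from hxt hx1s).mul_left (hxt hx2s)).eq
    have hsy : hm k y1 y2 ∈ sList k := by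
      refine (sList_spec hk).2 ⟨l12, inj (hm_spec R l12 htl).1 (hm_spec R htl l12).1 ?_⟩
      show val k i p a s _ = val k i p a s _
      rw [(hm_spec R l12 htl).2, (hm_spec R htl l12).2, e12]
      exact ((show Commute (V y1) t from hxt hy1).mul_left (hxt hy2)).eq
    refine notQ hsx hsy hx12q hx12V ?_
    show d * val k i p a s _ * d⁻¹ = val k i p a s _
    rw [ex12, e12]
    show d * (V (xA k) * V (xB k)) * d⁻¹ = V y1 * V y2
    rw [← ey1, ← ey2]; group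
  have comV : ∀ {x y : ℕ}, x ∈ sList k → x ∈ qList k → y ∈ sList k →
      ∀ {w : ℕ}, w ∈ sList k → w ∈ qList k → d * V w * d⁻¹ = V y → cm k x y ∈ vList k := by
    intro x y hx hxq hy w hw hwq e
    obtain ⟨lc, ec⟩ := cm_spec R (hxl hx) (hxl hy)
    set c := cm k x y
    have hcQ : V c ∈ Q := by
      show val k i p a s c ∈ Q
      rw [ec, show val k i p a s x * val k i p a s y * (val k i p a s x)⁻¹ * (val k i p a s y)⁻¹ =
        val k i p a s x * (val k i p a s y * (val k i p a s x)⁻¹ * (val k i p a s y)⁻¹) by group]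
      exact mul_mem ((D.Q_iff _).2 ⟨x, hxq, rfl⟩)
        (h.Q_normal _ (hmem _ (hxl hy)) _ (inv_mem ((D.Q_iff _).2 ⟨x, hxq, rfl⟩)))
    have hcS : c ∈ sList k := by
      refine (sList_spec hk).2 ⟨lc, inj (hm_spec R lc htl).1 (hm_spec R htl lc).1 ?_⟩
      show val k i p a s _ = val k i p a s _
      rw [(hm_spec R lc htl).2, (hm_spec R htl lc).2, ec]
      have cx : Commute (V x) t := hxt hx
      have cy : Commute (V y) t := hxt hy
      exact (((cx.mul_left cy).mul_left cx.inv_left).mul_left cy.inv_left).eq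
    -- the preimage lies in Q
    have hpre : d⁻¹ * V c * d ∈ Q := by
      have hxd : d⁻¹ * V x * d ∈ H := by
        rw [hH, Subgroup.mem_centralizer_singleton_iff]
        calc d⁻¹ * V x * d * z = d⁻¹ * (V x * (d * z * d⁻¹)) * d := by group
          _ = d⁻¹ * (d * z * d⁻¹ * V x) * d := by rw [hdz, hxt hx]
          _ = _ := by group
      have hwQ : V w ∈ Q := (D.Q_iff _).2 ⟨w, hwq, rfl⟩
      show d⁻¹ * val k i p a s c * d ∈ Q
      rw [ec]
      show d⁻¹ * (V x * V y * (V x)⁻¹ * (V y)⁻¹) * d ∈ Q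
      rw [← e, show d⁻¹ * (V x * (d * V w * d⁻¹) * (V x)⁻¹ * (d * V w * d⁻¹)⁻¹) * d =
        (d⁻¹ * V x * d) * V w * (d⁻¹ * V x * d)⁻¹ * (V w)⁻¹ by group]
      exact mul_mem (h.Q_normal _ hxd _ hwQ) (inv_mem hwQ)
    obtain ⟨u, hu, huv⟩ := (D.Q_iff _).1 hpre
    have hus : u ∈ sList k := by
      refine (sList_spec hk).2 ⟨D.lt_of_mem hu, inj (hm_spec R (D.lt_of_mem hu) htl).1 (hm_spec R htl (D.lt_of_mem hu)).1 ?_⟩
      show val k i p a s _ = val k i p a s _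
      rw [(hm_spec R (D.lt_of_mem hu) htl).2, (hm_spec R htl (D.lt_of_mem hu)).2, huv]
      have cz : Commute (V c) (z * t) := (show Commute (V c) z from zH lc).mul_right (hxt hcS)
      show d⁻¹ * V c * d * t = t * (d⁻¹ * V c * d)
      calc d⁻¹ * V c * d * t = d⁻¹ * (V c * (d * t * d⁻¹)) * d := by group
        _ = d⁻¹ * (z * t * V c) * d := by rw [hdt, cz.eq]
        _ = d⁻¹ * (d * t * d⁻¹ * V c) * d := by rw [hdt]
        _ = _ := by group
    exact dQ hus hcS hu (show d * val k i p a s u * d⁻¹ = V c by rw [huv]; group) ((D.memQ h lc).1 hcQ)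
  -- the equations
  have dcm : ∀ {x x' y y' : ℕ}, x < 1152 → x' < 1152 → y < 1152 → y' < 1152 → d * V x * d⁻¹ = V y →
      d * V x' * d⁻¹ = V y' → d * V (cm k x x') * d⁻¹ = V (cm k y y') := by
    intro x x' y y' lx lx' ly ly' e e'
    show d * val k i p a s (cm k x x') * d⁻¹ = val k i p a s (cm k y y')
    rw [(cm_spec R lx lx').2, (cm_spec R ly ly').2]
    show _ = V y * V y' * (V y)⁻¹ * (V y')⁻¹
    rw [← e, ← e']
    show d * (V x * V x' * (V x)⁻¹ * (V x')⁻¹) * d⁻¹ = _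
    group
  have dF : ∀ {x : ℕ}, x ∈ vList k → d * V x * d⁻¹ = V (fV k x) ∧ fV k x ∈ vList k ∧ x < 1152 := fun hx =>
    ⟨(fV_spec R hzl htl DZ DT DU hx).2.2, (fV_spec R hzl htl DZ DT DU hx).2.1, (fV_spec R hzl htl DZ DT DU hx).1⟩
  have step : ∀ {x x' y y' : ℕ}, x < 1152 → x' < 1152 → y < 1152 → y' < 1152 → d * V x * d⁻¹ = V y →
      d * V x' * d⁻¹ = V y' → cm k x x' ∈ vList k → cm k y y' = fV k (cm k x x') ∧ cm k y y' ∈ vList k := by
    intro x x' y y' lx lx' ly ly' e e' hv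
    obtain ⟨f1, f2, -⟩ := dF hv
    have := inj (cm_spec R ly ly').1 (dF f2).2.2 ((dcm lx lx' ly ly' e e').symm.trans f1)
    exact ⟨this, this ▸ f2⟩
  have k11 := comV hx1s hx1q hy1 hx1s hx1q ey1
  have k12 := comV hx1s hx1q hy2 hx2s hx2q ey2
  have k21 := comV hx2s hx2q hy1 hx1s hx1q ey1
  have k22 := comV hx2s hx2q hy2 hx2s hx2q ey2
  obtain ⟨f11, m11⟩ := step lA ly1 ly1 lv1 ey1 ev1 k11
  obtain ⟨f12, m12⟩ := step lA ly2 ly1 lv2 ey1 ev2 k12
  obtain ⟨f21, m21⟩ := step lB ly1 ly2 lv1 ey2 ev1 k21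
  obtain ⟨f22, m22⟩ := step lB ly2 ly2 lv2 ey2 ev2 k22
  obtain ⟨g11, -⟩ := step ly1 lv1 lv1 lA ev1 ew1 m11
  obtain ⟨g12, -⟩ := step ly1 lv2 lv1 lB ev1 ew2 m12
  obtain ⟨g21, -⟩ := step ly2 lv1 lv2 lA ev2 ew1 m21
  obtain ⟨g22, -⟩ := step ly2 lv2 lv2 lB ev2 ew2 m22
  rw [f11] at g11
  rw [f12] at g12
  rw [f21] at g21
  rw [f22] at g22
  have sq : ∀ {x y c c' : ℕ}, x < 1152 → y < 1152 → c < 1152 → c' < 1152 → d * V x * d⁻¹ = V y →
      hm k x x = c → d * V c * d⁻¹ = V c' → hm k y y = c' := by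
    intro x y c c' lx ly lc lc' e ex ec
    refine inj (hm_spec R ly ly).1 lc' ?_
    show val k i p a s (hm k y y) = V c'
    rw [(hm_spec R ly ly).2, ← ec, ← ex]
    show V y * V y = d * val k i p a s (hm k x x) * d⁻¹
    rw [(hm_spec R lx lx).2]
    show V y * V y = d * (V x * V x) * d⁻¹
    rw [← e]; group
  have D0 : d * V 0 * d⁻¹ = V 0 := by rw [show V 0 = 1 from val_zero k]; group
  have sy1 := sq lA ly1 hzl htl ey1 hxx1 DZ
  have sy2 := sq lB ly2 (by norm_num) (by norm_num) ey2 hxx2 D0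
  have sv1 := sq ly1 lv1 htl hztl ev1 sy1 DT
  have sv2 := sq ly2 lv2 (by norm_num) (by norm_num) ev2 sy2 D0
  have cy12 : cm k y1 y2 = tC k := by
    refine inj (cm_spec R ly1 ly2).1 htl ?_
    rw [← dcm lA lB ly1 ly2 ey1 ey2, hxc]; exact DZ
  have cv12 : cm k v1 v2 = hm k (zC k) (tC k) := by
    refine inj (cm_spec R lv1 lv2).1 hztl ?_
    rw [← dcm ly1 ly2 lv1 lv2 ev1 ev2, cy12]; exact DT
  have bf : ∀ {b : Bool}, (b = true → False) → (!b) = true := fun {b} hb => by cases b <;> simp_all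
  have hy1Q := notQ hx1s hy1 hx1q hx1V ey1
  have hy2Q := notQ hx2s hy2 hx2q hx2V ey2
  have nb : ∀ {n : ℕ} {l : List ℕ}, n ∉ l → (!(memB n l)) = true := fun hn => bf fun e => hn (memB_iff.1 e)
  refine ⟨y1, hy1, y2, hy2, v1, hv1, v2, hv2, ey1, ey2, ev1, ev2, ew1, ew2, ?_, ?_, ?_⟩
  · simp only [cond1, Bool.and_eq_true, Nat.beq_eq]
    exact ⟨⟨⟨⟨⟨⟨⟨⟨⟨nb hy1Q, nb hy2Q⟩, sy1⟩, sy2⟩, cy12⟩, nb hy12⟩, memB_iff.2 k11⟩, memB_iff.2 k12⟩,
      memB_iff.2 k21⟩, memB_iff.2 k22⟩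
  · simp only [condV1, Bool.and_eq_true, Nat.beq_eq]
    exact ⟨⟨⟨⟨sv1, g11⟩, g12⟩, f11⟩, f21⟩
  · simp only [condV2, Bool.and_eq_true, Nat.beq_eq]
    exact ⟨⟨⟨⟨⟨sv2, cv12⟩, g21⟩, g22⟩, f12⟩, f22⟩

theorem Hyp.exists_sdata (h : Hyp z α β Q) : ∃ i p a s d, p = α sU ∧ s * p * s⁻¹ = β sU ∧ SData z Q i p a s d := by
  classical
  obtain ⟨k, i, p, a, s, hp0, hs0, D⟩ := h.exists_data
  obtain ⟨d, hd3, hdz, hdt, hdzt⟩ := D.exists_swap h
  obtain ⟨y1, hy1, y2, hy2, v1, hv1, v2, hv2, ey1, ey2, ev1, ev2, ew1, ew2, hc1, hc2, hc3⟩ :=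
    D.exists_images h hd3 hdz hdt hdzt
  have R := D.rel
  have hk := R.hk
  set H := Subgroup.centralizer ({z} : Set G) with hH
  set V := val k i p a s
  obtain ⟨hmem, hsurj, -⟩ := D.bij h
  have hqb := q_basic ⟨k, hk⟩
  have hzl : zC k < 1152 := hqb.2.2.2
  have hsb := s_basic
  simp only [List.all_eq_true, List.mem_range, Bool.and_eq_true, Nat.beq_eq, decide_eq_true_eq, memB_iff,
    Bool.not_eq_true', Bool.eq_false_iff, ne_eq, Nat.blt_eq] at hsb
  obtain ⟨⟨⟨⟨⟨⟨⟨⟨⟨⟨⟨⟨⟨⟨⟨⟨⟨hslen, hsnd⟩, htq⟩, hx1s⟩, hx2s⟩, hx1q⟩, hx2q⟩, hx12q⟩, hx1V⟩, hx2V⟩, hx12V⟩,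
    hxx1⟩, hxx2⟩, hxc⟩, htl⟩, htt⟩, ht0⟩, htz⟩ := hsb k hk
  have hzz : zC k ≠ 0 := fun e => h.z_ne (by rw [← D.z_eq, e, val_zero])
  set t := V (tC k) with ht
  have hxl : ∀ {n}, n ∈ sList k → n < 1152 := fun hn => ((sList_spec hk).1 hn).1
  have hxt : ∀ {n}, n ∈ sList k → V n * t = t * V n := by
    intro n hn
    obtain ⟨l, e⟩ := (sList_spec hk).1 hn
    show V n * V (tC k) = V (tC k) * V n
    rw [← (hm_spec R l htl).2, e, (hm_spec R htl l).2]
  have zH : ∀ {n}, n < 1152 → V n * z = z * V n := fun hn => Subgroup.mem_centralizer_singleton_iff.1 (hmem _ hn)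
  have hsol := solutions
  simp only [List.all_eq_true, List.mem_range] at hsol
  have bf : ∀ {b : Bool}, (b = true → False) → (!b) = true := fun {b} hb => by cases b <;> simp_all
  have hq : (!(memB y1 (qList k)) && Nat.beq (hm k y1 y1) (tC k)) = true := by
    simp only [cond1, Bool.and_eq_true] at hc1 ⊢
    exact ⟨hc1.1.1.1.1.1.1.1.1.1, hc1.1.1.1.1.1.1.1.2⟩
  have h1 := hsol k hk y1 hy1
  rw [hq] at h1
  simp only [Bool.not_true, Bool.false_or, List.all_eq_true] at h1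
  have h2 := h1 y2 hy2
  rw [hc1] at h2
  simp only [Bool.not_true, Bool.false_or, List.all_eq_true] at h2
  have h3 := h2 v1 hv1
  rw [hc2] at h3
  simp only [Bool.not_true, Bool.false_or, List.all_eq_true] at h3
  have h4 := h3 v2 hv2
  rw [hc3] at h4
  simp only [Bool.not_true, Bool.false_or, Bool.and_eq_true, Nat.beq_eq] at h4
  obtain ⟨rfl, h5⟩ := h4
  have hztl := (hm_spec R hzl htl).1
  have eZT : V (hm 5 (zC 5) (tC 5)) = z * t := by
    show val 5 i p a s (hm 5 (zC 5) (tC 5)) = _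
    rw [(hm_spec R hzl htl).2, D.z_eq]
  have DZ : d * val 5 i p a s (zC 5) * d⁻¹ = val 5 i p a s (tC 5) := by rw [D.z_eq]; exact hdz
  have DT : d * val 5 i p a s (tC 5) * d⁻¹ = val 5 i p a s (hm 5 (zC 5) (tC 5)) := hdt.trans eZT.symm
  have DU : d * val 5 i p a s (hm 5 (zC 5) (tC 5)) * d⁻¹ = val 5 i p a s (zC 5) := by
    rw [D.z_eq]; show d * V (hm 5 (zC 5) (tC 5)) * d⁻¹ = z; rw [eZT, hdzt]
  have inj : ∀ {m n : ℕ}, m < 1152 → n < 1152 → V m = V n → m = n := fun hm' hn' e => (D.eq_iff h hm' hn').1 e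
  have lA := hxl hx1s
  have lB := hxl hx2s
  have ly1 := hxl hy1
  have ly2 := hxl hy2
  have lv1 := hxl hv1
  have lv2 := hxl hv2
  have dF : ∀ {x : ℕ}, x ∈ vList 5 → d * V x * d⁻¹ = V (fV 5 x) ∧ fV 5 x ∈ vList 5 ∧ x < 1152 := fun hx =>
    ⟨(fV_spec R hzl htl DZ DT DU hx).2.2, (fV_spec R hzl htl DZ DT DU hx).2.1, (fV_spec R hzl htl DZ DT DU hx).1⟩
  rw [show closed 5 y1 y2 v1 v2 = true by
    simp only [closed, List.all_eq_true, Bool.and_eq_true, Bool.or_eq_true, Nat.beq_eq]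
    intro q hq
    obtain ⟨lf, lI, ef⟩ := form_image R hzl htl DZ DT DU lA lB ly1 ly2 lv1 lv2 ey1 ey2 ev1 ev2 hq
    constructor
    · by_cases hc : form 5 (xA 5) (xB 5) y1 y2 q = v1
      · right; rw [hc] at ef; exact inj lI lA (ef.symm.trans ew1)
      · left; exact bf fun e => hc (Nat.eq_of_beq_eq_true e)
    · by_cases hc : form 5 (xA 5) (xB 5) y1 y2 q = v2
      · right; rw [hc] at ef; exact inj lI lB (ef.symm.trans ew2)
      · left; exact bf fun e => hc (Nat.eq_of_beq_eq_true e)] at h5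
  simp only [Bool.not_true, Bool.false_or, List.any_eq_true, canon, Bool.and_eq_true, Nat.beq_eq, memB_iff] at h5
  obtain ⟨r, hr, ⟨⟨⟨⟨t1, t2⟩, c1⟩, c2⟩, c3⟩, c4⟩ := h5
  have lr := hxl hr
  set d' := V r * d * (V r)⁻¹ with hd'
  have rz : ∀ {x : ℕ}, x ∈ vList 5 → V r * V x * (V r)⁻¹ = V x := by
    intro x hx
    simp only [vList, List.mem_cons, List.not_mem_nil, or_false] at hx
    have cz : Commute (V r) z := zH lr
    have ct : Commute (V r) t := hxt hr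
    have key : Commute (V r) (V x) := by
      rcases hx with rfl | rfl | rfl | rfl
      · rw [show V 0 = 1 from val_zero 5]; exact Commute.one_right _
      · rw [show V (zC 5) = z from D.z_eq]; exact cz
      · exact ct
      · rw [eZT]; exact cz.mul_right ct
    rw [key.eq]; group
  have tw : ∀ {x y v : ℕ}, x < 1152 → y < 1152 → v < 1152 → d * V x * d⁻¹ = V y → d * V y * d⁻¹ = V v →
      twist 5 r x ∈ vList 5 →
      (d' * V x * d'⁻¹ = V (hm 5 (cj 5 r y) (fV 5 (twist 5 r x))) ∧ hm 5 (cj 5 r y) (fV 5 (twist 5 r x)) < 1152) ∧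
      (d' * (d' * V x * d'⁻¹) * d'⁻¹ = V (hm 5 (cj 5 r v) (fV 5 (fV 5 (twist 5 r x)))) ∧
        hm 5 (cj 5 r v) (fV 5 (fV 5 (twist 5 r x))) < 1152) := by
    intro x y v lx ly lv exy eyv ht'
    obtain ⟨ef, hf, -⟩ := dF ht'
    obtain ⟨eff, hff, lfk⟩ := dF hf
    have lffk := (dF hff).2.2
    obtain ⟨li, ei⟩ := hi_spec R lr
    obtain ⟨lix, eix⟩ := hi_spec R lx
    obtain ⟨lcx, ecx⟩ := cj_spec R li lx
    obtain ⟨ltw, etw⟩ := hm_spec R lix lcx
    have e0 : (V r)⁻¹ * V x * V r = V x * V (twist 5 r x) := by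
      show _ = V x * val 5 i p a s (hm 5 (hi 5 x) (cj 5 (hi 5 r) x))
      rw [etw, eix, ecx, ei]
      show (V r)⁻¹ * V x * V r = V x * ((V x)⁻¹ * ((V r)⁻¹ * V x * ((V r)⁻¹)⁻¹))
      group
    obtain ⟨lcy, ecy⟩ := cj_spec R lr ly
    obtain ⟨lcv, ecv⟩ := cj_spec R lr lv
    have e1 : d' * V x * d'⁻¹ = V (hm 5 (cj 5 r y) (fV 5 (twist 5 r x))) := by
      show _ = val 5 i p a s _
      rw [(hm_spec R lcy lfk).2, ecy]
      show _ = V r * V y * (V r)⁻¹ * V (fV 5 (twist 5 r x))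
      rw [hd', show V r * d * (V r)⁻¹ * V x * (V r * d * (V r)⁻¹)⁻¹ =
        V r * (d * ((V r)⁻¹ * V x * V r) * d⁻¹) * (V r)⁻¹ by group, e0,
        show d * (V x * V (twist 5 r x)) * d⁻¹ = (d * V x * d⁻¹) * (d * V (twist 5 r x) * d⁻¹) by group, exy, ef,
        show V r * (V y * V (fV 5 (twist 5 r x))) * (V r)⁻¹ =
          V r * V y * (V r)⁻¹ * (V r * V (fV 5 (twist 5 r x)) * (V r)⁻¹) by group, rz hf]
    refine ⟨⟨e1, (hm_spec R lcy lfk).1⟩, ?_, (hm_spec R lcv lffk).1⟩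
    show _ = val 5 i p a s _
    rw [(hm_spec R lcv lffk).2, ecv, e1]
    show d' * val 5 i p a s _ * d'⁻¹ = V r * V v * (V r)⁻¹ * V (fV 5 (fV 5 (twist 5 r x)))
    rw [(hm_spec R lcy lfk).2, ecy]
    show d' * (V r * V y * (V r)⁻¹ * V (fV 5 (twist 5 r x))) * d'⁻¹ = _
    rw [hd', show V r * d * (V r)⁻¹ * (V r * V y * (V r)⁻¹ * V (fV 5 (twist 5 r x))) * (V r * d * (V r)⁻¹)⁻¹ =
      V r * (d * V y * d⁻¹) * (V r)⁻¹ *
        (V r * (d * ((V r)⁻¹ * V (fV 5 (twist 5 r x)) * V r) * d⁻¹) * (V r)⁻¹) by group, eyv]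
    have : (V r)⁻¹ * V (fV 5 (twist 5 r x)) * V r = V (fV 5 (twist 5 r x)) := by
      conv_lhs => rw [← rz hf]
      group
    rw [this, eff, rz hff]
  obtain ⟨⟨A1, lA1⟩, A2, lA2⟩ := tw lA ly1 lv1 ey1 ev1 t1
  obtain ⟨⟨B1, lB1⟩, B2, lB2⟩ := tw lB ly2 lv2 ey2 ev2 t2
  rw [c1] at A1 lA1
  rw [c3] at A2 lA2
  rw [c2] at B1 lB1
  rw [c4] at B2 lB2
  rw [A1] at A2
  rw [B1] at B2
  have hd'fix : ∀ {x : ℕ}, x ∈ vList 5 → d' * V x * d'⁻¹ = V (fV 5 x) := by
    intro x hx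
    obtain ⟨ef, hf, -⟩ := dF hx
    rw [hd', show V r * d * (V r)⁻¹ * V x * (V r * d * (V r)⁻¹)⁻¹ =
      V r * (d * ((V r)⁻¹ * V x * V r) * d⁻¹) * (V r)⁻¹ by group]
    have : (V r)⁻¹ * V x * V r = V x := by
      conv_lhs => rw [← rz hx]
      group
    rw [this, ef, rz hf]
  have DZ' := hd'fix (show zC 5 ∈ vList 5 by simp [vList])
  have DT' := hd'fix (show tC 5 ∈ vList 5 by simp [vList])
  have DU' := hd'fix (show hm 5 (zC 5) (tC 5) ∈ vList 5 by simp [vList])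
  obtain ⟨fz5, ft5, fu5⟩ : fV 5 (zC 5) = tC 5 ∧ fV 5 (tC 5) = hm 5 (zC 5) (tC 5) ∧
      fV 5 (hm 5 (zC 5) (tC 5)) = zC 5 := by decide +kernel
  rw [fz5] at DZ'
  rw [ft5] at DT'
  rw [fu5] at DU'
  refine ⟨i, p, a, s, d', hp0, hs0, D, h.z_ord, h.card_H, ?_, fun q hq => ?_⟩
  · rw [hd', show V r * d * (V r)⁻¹ * (V r * d * (V r)⁻¹) * (V r * d * (V r)⁻¹) = V r * (d * d * d) * (V r)⁻¹ by group,
      hd3]
    group
  · have hp := phi_table.1
    simp only [List.all_eq_true, List.any_eq_true, Bool.and_eq_true, Nat.beq_eq] at hp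
    obtain ⟨q', hq', e1, e2⟩ := hp q hq
    obtain ⟨-, -, ef⟩ := form_image R hzl htl DZ' DT' DU' lA lB lA1 lB1 lA2 lB2 A1 B1 A2 B2 hq'
    rw [← e1, ← e2]
    exact ef

end

end CfsgLib.UFourType
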