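import Cfsg.Agent.Lib.UFourType.Setup
import Mathlib.GroupTheory.Sylow

/-!
A Sylow 3-subgroup of the centralizer and its normalizer.
-/

set_option autoImplicit false

namespace CfsgLib.UFourType

section

variable {G : Type*} [Group G] [Finite G] {z : G} {α β : SL23 →* G} {Q : Subgroup G}

/-- the product of the normal subgroups -/
def kK (α β : SL23 →* G) : Subgroup G := α.range ⊔ β.range

theorem Hyp.K_le (h : Hyp z α β Q) : kK α β ≤ Subgroup.centralizer ({z} : Set G) := sup_le h.α_le h.β_le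

theorem Hyp.card_ker (h : Hyp z α β Q) : Nat.card h.φ.ker = 2 := by
  classical
  have e : h.φ.ker = Subgroup.zpowers (sZ, sZ) := by
    refine le_antisymm ?_ (Subgroup.zpowers_le.2 ?_)
    · rintro ⟨x, y⟩ hxy
      rcases h.ker_eq (x := x) (y := y) hxy with ⟨rfl, rfl⟩ | ⟨rfl, rfl⟩
      · exact one_mem _
      · exact Subgroup.mem_zpowers _
    · show α sZ * β sZ = 1
      rw [h.αZ, h.βZ, h.z_sq]
  rw [e, Nat.card_zpowers]
  refine orderOf_eq_prime ?_ fun c => sl_z.2.2.1 (congrArg Prod.fst c)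
  rw [pow_two]; exact Prod.ext sl_z.2.1 sl_z.2.1

theorem Hyp.card_K (h : Hyp z α β Q) : Nat.card (kK α β) = 288 := by
  have h1 := Subgroup.card_eq_card_quotient_mul_card_subgroup h.φ.ker
  rw [Nat.card_congr (QuotientGroup.quotientKerEquivRange h.φ).toEquiv, Nat.card_prod, sl_card, h.card_ker,
    h.φ_range] at h1
  unfold kK
  omega

/-- the quaternion subgroup -/
def sQ8 : Subgroup SL23 where
  carrier := {x | x ^ 4 = 1}
  mul_mem' := fun ha hb => (sl_quat_mul _ _ ha hb).1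
  one_mem' := one_pow _
  inv_mem' := fun {a} ha => by
    show (a⁻¹) ^ 4 = 1
    rw [inv_pow, show a ^ 4 = 1 from ha, inv_one]

theorem sQ8_card : Nat.card sQ8 = 8 := sl_quat_card

theorem Hyp.card_Q (h : Hyp z α β Q) : Nat.card Q = 32 := by
  let f : sQ8.prod sQ8 →* G := h.φ.comp (sQ8.prod sQ8).subtype
  have hr : f.range = Q := by
    ext k
    rw [h.mem_Q]
    constructor
    · rintro ⟨⟨⟨x, y⟩, hx, hy⟩, rfl⟩; exact ⟨x, y, hx, hy, rfl⟩
    · rintro ⟨x, y, hx, hy, rfl⟩; exact ⟨⟨(x, y), hx, hy⟩, rfl⟩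
  have hker : Nat.card f.ker = 2 := by
    have hmem : ∀ p : h.φ.ker, (p : SL23 × SL23) ∈ sQ8.prod sQ8 := by
      rintro ⟨⟨x, y⟩, hp⟩
      have h4 : sZ ^ 4 = (1 : SL23) := (sl_two_sq sZ).1 (Or.inl (by rw [pow_two, sl_z.2.1]))
      rcases h.ker_eq (x := x) (y := y) hp with ⟨rfl, rfl⟩ | ⟨rfl, rfl⟩
      · exact one_mem _
      · exact ⟨h4, h4⟩
    let E : f.ker ≃ h.φ.ker :=
      { toFun := fun p => ⟨((p : sQ8.prod sQ8) : SL23 × SL23), p.2⟩
        invFun := fun p => ⟨⟨(p : SL23 × SL23), hmem p⟩, p.2⟩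
        left_inv := fun _ => rfl
        right_inv := fun _ => rfl }
    exact (Nat.card_congr E).trans h.card_ker
  have h1 := Subgroup.card_eq_card_quotient_mul_card_subgroup f.ker
  rw [Nat.card_congr (QuotientGroup.quotientKerEquivRange f).toEquiv, hr, hker,
    Nat.card_congr (Subgroup.prodEquiv sQ8 sQ8).toEquiv, Nat.card_prod, sQ8_card] at h1
  omega

/-- the Sylow 3-subgroup -/
def Hyp.P (h : Hyp z α β Q) : Subgroup G := ((Subgroup.zpowers sU).prod (Subgroup.zpowers sU)).map h.φ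

theorem sU_pow_mem {x : SL23} (hx : x ∈ Subgroup.zpowers sU) : ∃ a : Fin 3, x = sU ^ (a : ℕ) := by
  obtain ⟨m, rfl⟩ := Submonoid.mem_powers_iff _ _ |>.1 (mem_powers_iff_mem_zpowers.2 hx)
  refine ⟨⟨m % 3, Nat.mod_lt _ (by norm_num)⟩, ?_⟩
  conv_lhs => rw [← Nat.mod_add_div m 3, pow_add, pow_mul, sl_z.2.2.2.1, one_pow, mul_one]

theorem Hyp.mem_P (h : Hyp z α β Q) {k : G} :
    k ∈ h.P ↔ ∃ a b : Fin 3, k = α (sU ^ (a : ℕ)) * β (sU ^ (b : ℕ)) := by
  constructor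
  · rintro ⟨⟨x, y⟩, ⟨hx, hy⟩, rfl⟩
    obtain ⟨a, rfl⟩ := sU_pow_mem hx
    obtain ⟨b, rfl⟩ := sU_pow_mem hy
    exact ⟨a, b, rfl⟩
  · rintro ⟨a, b, rfl⟩
    exact ⟨(_, _), ⟨Subgroup.npow_mem_zpowers _ _, Subgroup.npow_mem_zpowers _ _⟩, rfl⟩

theorem Hyp.P_le (h : Hyp z α β Q) : h.P ≤ kK α β := by
  unfold kK
  rw [← h.φ_range]; exact Subgroup.map_le_range _ _

theorem Hyp.card_P (h : Hyp z α β Q) : Nat.card h.P = 9 := by
  classical
  have e : (h.P : Set G) = Set.range fun p : Fin 3 × Fin 3 => α (sU ^ (p.1 : ℕ)) * β (sU ^ (p.2 : ℕ)) := by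
    ext k
    rw [SetLike.mem_coe, h.mem_P]
    constructor
    · rintro ⟨a, b, rfl⟩; exact ⟨(a, b), rfl⟩
    · rintro ⟨⟨a, b⟩, rfl⟩; exact ⟨a, b, rfl⟩
  show Nat.card (h.P : Set G) = 9
  rw [e, Nat.card_range_of_injective, Nat.card_prod, Nat.card_fin]
  rintro ⟨a, b⟩ ⟨c, d⟩ hp
  rcases h.unique hp with ⟨e1, e2⟩ | ⟨e1, e2⟩
  · exact Prod.ext ((sl_U_pows a c).1 (Or.inl e1)) ((sl_U_pows b d).1 (Or.inl e2))
  · exact Prod.ext ((sl_U_pows a c).1 (Or.inr e1)) ((sl_U_pows b d).1 (Or.inr e2))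

theorem Hyp.u_mem (h : Hyp z α β Q) : α sU ∈ h.P ∧ β sU ∈ h.P :=
  ⟨h.mem_P.2 ⟨1, 0, by simp⟩, h.mem_P.2 ⟨0, 1, by simp⟩⟩

/-- Frattini: every coset of the product meets the normalizer of the Sylow 3-subgroup. -/
theorem Hyp.frattini (h : Hyp z α β Q) {g : G} (hg : g ∈ Subgroup.centralizer ({z} : Set G)) :
    ∃ k ∈ kK α β, ∀ x ∈ h.P, (k⁻¹ * g) * x * (k⁻¹ * g)⁻¹ ∈ h.P := by
  classical
  set K := kK α β with hK
  haveI : Fact (Nat.Prime 3) := ⟨by norm_num⟩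
  have hgP : (h.P).map (MulAut.conj g).toMonoidHom ≤ K := by
    rintro _ ⟨x, hx, rfl⟩
    exact h.K_normal g hg x (h.P_le hx)
  have hf : (288 : ℕ).factorization 3 = 2 := by
    rw [show (288 : ℕ) = 3 ^ 2 * 32 by norm_num, Nat.factorization_mul (by norm_num) (by norm_num),
      Finsupp.add_apply, Nat.Prime.factorization_pow (by norm_num), Finsupp.single_eq_same,
      Nat.factorization_eq_zero_of_not_dvd (by norm_num : ¬ 3 ∣ 32)]
  have mk : ∀ R : Subgroup G, R ≤ K → Nat.card R = 9 → ∃ S : Sylow 3 K, (S : Subgroup K) = R.subgroupOf K := by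
    intro R hR hc
    have hc' : Nat.card (R.subgroupOf K) = 3 ^ (Nat.card K).factorization 3 := by
      rw [Nat.card_congr (Subgroup.subgroupOfEquivOfLe hR).toEquiv, hc, h.card_K, hf]; rfl
    exact ⟨Sylow.ofCard _ hc', Sylow.coe_ofCard _ _⟩
  obtain ⟨S1, hS1⟩ := mk h.P h.P_le h.card_P
  obtain ⟨S2, hS2⟩ := mk _ hgP (by
    rw [Subgroup.card_map_of_injective (MulAut.conj g).injective]; exact h.card_P)
  obtain ⟨k, hk⟩ := MulAction.exists_smul_eq K S1 S2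
  refine ⟨k, k.2, fun x hx => ?_⟩
  have hgx : g * x * g⁻¹ ∈ (h.P).map (MulAut.conj g).toMonoidHom := ⟨x, hx, rfl⟩
  have h2 : (⟨g * x * g⁻¹, hgP hgx⟩ : K) ∈ (S2 : Subgroup K) := by
    rw [hS2]; exact hgx
  rw [← hk, Sylow.coe_subgroup_smul, hS1, Subgroup.mem_pointwise_smul_iff_inv_smul_mem] at h2
  simp only [MulAut.smul_def, ← map_inv, MulAut.conj_apply, inv_inv, Subgroup.mem_subgroupOf,
    Subgroup.coe_mul, Subgroup.coe_inv] at h2
  have : (k : G)⁻¹ * g * x * ((k : G)⁻¹ * g)⁻¹ = (k : G)⁻¹ * (g * x * g⁻¹) * k := by group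
  rw [this]; exact h2

/-- normalizes the Sylow 3-subgroup -/
def Hyp.NP (h : Hyp z α β Q) (n : G) : Prop :=
  n ∈ Subgroup.centralizer ({z} : Set G) ∧ ∀ x ∈ h.P, n * x * n⁻¹ ∈ h.P

theorem conj_image_mem {R : Subgroup G} {n : G} (hn : ∀ x ∈ R, n * x * n⁻¹ ∈ R) {x : G} (hx : x ∈ R) :
    n⁻¹ * x * n ∈ R := by
  classical
  let f : R → R := fun y => ⟨n * y * n⁻¹, hn y y.2⟩
  have hf : Function.Injective f := fun a b e => Subtype.ext
    (by have := congrArg Subtype.val e; simpa [f] using this)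
  obtain ⟨y, hy⟩ := (Finite.injective_iff_surjective.1 hf) ⟨x, hx⟩
  have e : n * (y : G) * n⁻¹ = x := congrArg Subtype.val hy
  rw [← e]
  have : n⁻¹ * (n * (y : G) * n⁻¹) * n = y := by group
  rw [this]; exact y.2

theorem Hyp.NP_K (h : Hyp z α β Q) {k : G} (hk : k ∈ kK α β) (hn : ∀ x ∈ h.P, k * x * k⁻¹ ∈ h.P) :
    k * α sU = α sU * k ∧ k * β sU = β sU * k := by
  have main : ∀ {γ δ : SL23 →* G} (h' : Hyp z γ δ Q) (x y : SL23),
      (∃ a b : Fin 3, γ x * δ y * γ sU * (γ x * δ y)⁻¹ = γ (sU ^ (a : ℕ)) * δ (sU ^ (b : ℕ))) →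
      γ x * δ y * γ sU = γ sU * (γ x * δ y) := by
    intro γ δ h' x y ⟨a, b, e⟩
    have e1 : γ x * δ y * γ sU * (γ x * δ y)⁻¹ = γ (x * sU * x⁻¹) * δ 1 := by
      rw [map_one, mul_one, map_mul, map_mul, map_inv, mul_inv_rev, mul_assoc (γ x), ← h'.comm]
      group
    rw [e1] at e
    have hb : b = 0 := by
      rcases h'.unique e with ⟨-, e2⟩ | ⟨-, e2⟩
      · exact ((sl_U_pows b 0).1 (Or.inl (by rw [← e2]; simp)))
      · exact ((sl_U_pows b 0).1 (Or.inr (by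
          simp only [Fin.val_zero, pow_zero, one_mul]
          have := congrArg (· * sZ) e2
          simp only [one_mul, mul_assoc, sl_z.2.1, mul_one] at this
          exact this.symm)))
    subst hb
    have hx : x * sU = sU * x := by
      have hh : x * sU * x⁻¹ = sU ^ (a : ℕ) ∨ x * sU * x⁻¹ = sU ^ (a : ℕ) * sZ := by
        rcases h'.unique e with ⟨e2, -⟩ | ⟨e2, -⟩
        · exact Or.inl e2
        · exact Or.inr e2
      have h3 : (x * sU * x⁻¹) ^ 3 = 1 := by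
        rw [← MulAut.conj_apply, ← map_pow, sl_z.2.2.2.1, map_one]
      rcases hh with hh | hh
      · fin_cases a
        · exfalso; simp at hh; exact sl_z.2.2.2.2.1 hh
        · exact (sl_cent_U x).1 (Or.inl (by simpa using hh))
        · exact (sl_cent_U x).1 (Or.inr (by
            rw [hh]; exact eq_inv_of_mul_eq_one_left (by rw [← pow_succ]; exact sl_z.2.2.2.1)))
      · exfalso
        rw [hh] at h3
        have hz3 : (sU ^ (a : ℕ) * sZ) ^ 3 = sZ := by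
          rw [Commute.mul_pow (show Commute (sU ^ (a : ℕ)) sZ from (sl_z.2.2.2.2.2.2 _).1), ← pow_mul, mul_comm, pow_mul,
            sl_z.2.2.2.1, one_pow, one_mul, pow_succ, pow_two, sl_z.2.1, one_mul]
        rw [hz3] at h3; exact sl_z.2.2.1 h3
    have hc : γ x * γ sU = γ sU * γ x := by rw [← map_mul, ← map_mul, hx]
    calc γ x * δ y * γ sU = γ x * (γ sU * δ y) := by rw [mul_assoc, h'.comm]
      _ = γ sU * (γ x * δ y) := by rw [← mul_assoc, hc, mul_assoc]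
  obtain ⟨x, y, rfl⟩ := h.mem_K.1 hk
  refine ⟨main h x y ?_, ?_⟩
  · exact h.mem_P.1 (hn _ h.u_mem.1)
  · have := main h.swap y x ?_
    · rwa [← h.comm] at this
    · obtain ⟨a, b, e⟩ := h.mem_P.1 (hn _ h.u_mem.2)
      refine ⟨b, a, ?_⟩
      rw [← h.comm x y, e, h.comm]

theorem Hyp.gen_range (_h : Hyp z α β Q) {n : G} {γ δ : SL23 →* G}
    (hU : n * γ sU * n⁻¹ ∈ δ.range) (hI : n * γ (sI * sU * sI⁻¹) * n⁻¹ ∈ δ.range) (x : SL23) :
    n * γ x * n⁻¹ ∈ δ.range := by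
  obtain ⟨a, b, c, d, rfl⟩ := sl_gen x
  simp only [map_mul γ, map_pow γ, ← MulAut.conj_apply] at *
  simp only [map_mul (MulAut.conj n), map_pow (MulAut.conj n)] at *
  exact δ.range.mul_mem (δ.range.mul_mem (δ.range.mul_mem (δ.range.pow_mem hU _) (δ.range.pow_mem hI _))
    (δ.range.pow_mem hU _)) (δ.range.pow_mem hI _)

/-- an element moving a generator into a factor moves the whole factor into it -/
theorem Hyp.range_map (h : Hyp z α β Q) {n : G} (hn : n ∈ Subgroup.centralizer ({z} : Set G))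
    {δ : SL23 →* G} (hδ : ∀ k ∈ α.range ⊔ β.range, ∀ x ∈ δ.range, k * x * k⁻¹ ∈ δ.range)
    (hU : n * α sU * n⁻¹ ∈ δ.range) (x : SL23) : n * α x * n⁻¹ ∈ δ.range := by
  refine h.gen_range hU ?_ x
  have e : n * α (sI * sU * sI⁻¹) * n⁻¹ = (n * α sI * n⁻¹) * (n * α sU * n⁻¹) * (n * α sI * n⁻¹)⁻¹ := by
    rw [map_mul, map_mul, map_inv]; group
  rw [e]
  exact hδ _ (h.K_normal n hn _ (Subgroup.mem_sup_left ⟨sI, rfl⟩)) _ hU

/-- an element fixing a generator of the first factor acts on it as a power of that generator -/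
theorem Hyp.fix_auto (h : Hyp z α β Q) {n : G} (hn : n ∈ Subgroup.centralizer ({z} : Set G))
    (hu : n * α sU = α sU * n) :
    ∃ k : Fin 3, ∀ x : SL23, n * α x * n⁻¹ = α (sU ^ (k : ℕ) * x * (sU ^ (k : ℕ))⁻¹) := by
  have hu' : n * α sU * n⁻¹ = α sU := by rw [hu]; group
  have hr := h.range_map hn h.α_normal (hu'.symm ▸ ⟨sU, rfl⟩)
  obtain ⟨j, hj⟩ := hr sI
  have hz : n * z * n⁻¹ = z := by
    rw [Subgroup.mem_centralizer_singleton_iff.1 hn]; group
  have hjj : j * j = sZ := h.α_inj (by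
    rw [map_mul, hj, h.αZ]
    calc n * α sI * n⁻¹ * (n * α sI * n⁻¹) = n * α (sI * sI) * n⁻¹ := by rw [map_mul]; group
      _ = z := by rw [sl_z.1, h.αZ, hz])
  have hrel : sU * sU * sI * sU⁻¹ * sU⁻¹ = sU * sI * sU⁻¹ * sI := by decide +kernel
  obtain ⟨k, rfl⟩ := sl_fix j hjj (h.α_inj (by
    have hh := congrArg (MulAut.conj n) (congrArg α hrel)
    simpa only [map_mul, map_inv, MulAut.conj_apply, hu', ← hj] using hh))
  refine ⟨k, fun x => ?_⟩
  obtain ⟨a, b, c, d, rfl⟩ := sl_gen x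
  have e : ∀ g, sU ^ (k : ℕ) * g * (sU ^ (k : ℕ))⁻¹ = MulAut.conj (sU ^ (k : ℕ)) g := fun g => rfl
  have hcu : MulAut.conj (sU ^ (k : ℕ)) sU = sU := by
    rw [MulAut.conj_apply, ((Commute.refl sU).pow_left _).eq]; group
  have hcI : α (MulAut.conj (sU ^ (k : ℕ)) sI) = n * α sI * n⁻¹ := by rw [MulAut.conj_apply]; exact hj
  rw [← MulAut.conj_apply n, e]
  revert hcI hcu
  generalize MulAut.conj (sU ^ (k : ℕ)) = f
  intro hcu hcI
  simp only [map_mul, map_pow, map_inv, hcu, hcI, MulAut.conj_apply, hu']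

theorem Hyp.cent_P (h : Hyp z α β Q) {c : G} (hc : c ∈ Subgroup.centralizer ({z} : Set G))
    (hu : c * α sU = α sU * c) (hv : c * β sU = β sU * c) :
    ∃ (a b : Fin 3) (e : Fin 2), c = α (sU ^ (a : ℕ)) * β (sU ^ (b : ℕ)) * z ^ (e : ℕ) := by
  obtain ⟨k, hk⟩ := h.fix_auto hc hu
  obtain ⟨l, hl⟩ := h.swap.fix_auto hc hv
  set p := α (sU ^ (k : ℕ)) * β (sU ^ (l : ℕ)) with hp
  have hpK : p ∈ α.range ⊔ β.range := h.mem_K.2 ⟨_, _, rfl⟩
  have hd : p⁻¹ * c ∈ Subgroup.centralizer ({z} : Set G) :=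
    Subgroup.mul_mem _ (inv_mem (h.K_le hpK)) hc
  have ha : ∀ x, Commute (α x) (p⁻¹ * c) := fun x => by
    have e1 : p * α x * p⁻¹ = c * α x * c⁻¹ := by
      rw [hk, hp, map_mul α, map_mul α, map_inv α, mul_inv_rev, mul_assoc (α _), ← h.comm]
      group
    show α x * (p⁻¹ * c) = p⁻¹ * c * α x
    calc α x * (p⁻¹ * c) = p⁻¹ * (p * α x * p⁻¹) * c := by group
      _ = _ := by rw [e1]; group
  have hb : ∀ x, Commute (β x) (p⁻¹ * c) := fun x => by
    have e1 : p * β x * p⁻¹ = c * β x * c⁻¹ := by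
      rw [hl, hp, map_mul β, map_mul β, map_inv β, h.comm, mul_inv_rev, mul_assoc (β _), h.comm]
      group
    show β x * (p⁻¹ * c) = p⁻¹ * c * β x
    calc β x * (p⁻¹ * c) = p⁻¹ * (p * β x * p⁻¹) * c := by group
      _ = _ := by rw [e1]; group
  have hdQ : p⁻¹ * c ∈ Q := h.Q_cent _ hd fun q hq => by
    obtain ⟨x, y, -, -, rfl⟩ := h.mem_Q.1 hq
    exact ((ha x).mul_left (hb y)).eq
  obtain ⟨x, y, hx, hy, hxy⟩ := h.mem_Q.1 hdQ
  have cx : ∀ {γ δ : SL23 →* G} (h' : Hyp z γ δ Q) (u v : SL23), u ^ 4 = 1 →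
      Commute (γ sU) (γ u * δ v) → u = 1 ∨ u = sZ := by
    intro γ δ h' u v hu4 hcom
    have e : γ (u * sU) * δ v = γ (sU * u) * δ v := by
      have := hcom.eq
      rw [map_mul, map_mul]
      calc γ u * γ sU * δ v = γ u * δ v * γ sU := by rw [mul_assoc, h'.comm, ← mul_assoc]
        _ = _ := by rw [← this, mul_assoc]
    have : u * sU = sU * u := h'.α_inj (mul_right_cancel e)
    exact (sl_cent_U u).2.2 hu4 this
  have hx' := cx h x y hx (by rw [← hxy]; exact ha sU)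
  have hy' := cx h.swap y x hy (by rw [← h.comm, ← hxy]; exact hb sU)
  have hz : p⁻¹ * c = 1 ∨ p⁻¹ * c = z := by
    rcases hx' with rfl | rfl <;> rcases hy' with rfl | rfl <;> rw [hxy]
    · left; simp
    · right; simp [h.βZ]
    · right; simp [h.αZ]
    · left; rw [h.αZ, h.βZ, h.z_sq]
  rcases hz with hz | hz
  · exact ⟨k, l, 0, by rw [← hp, inv_mul_eq_one.1 hz]; simp⟩
  · exact ⟨k, l, 1, by rw [← hp, inv_mul_eq_iff_eq_mul.1 hz]; simp⟩

/-- an element normalizing the Sylow 3-subgroup sends a generator to a generator -/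
theorem Hyp.image_u (h : Hyp z α β Q) {n : G} (hn : h.NP n) :
    n * α sU * n⁻¹ = α sU ∨ n * α sU * n⁻¹ = (α sU)⁻¹ ∨ n * α sU * n⁻¹ = β sU ∨ n * α sU * n⁻¹ = (β sU)⁻¹ := by
  obtain ⟨a, b, e⟩ := h.mem_P.1 (hn.2 _ h.u_mem.1)
  have two : ∀ γ : SL23 →* G, γ (sU ^ 2) = (γ sU)⁻¹ := fun γ => by
    refine eq_inv_of_mul_eq_one_left ?_
    rw [← map_mul, ← pow_succ, sl_z.2.2.2.1, map_one]
  have hI4 : sI ^ 4 = (1 : SL23) := sl_z.2.2.2.2.2.1
  have hq : n * β sI * n⁻¹ ∈ Q := h.Q_normal n hn.1 _ (h.mem_Q.2 ⟨1, sI, one_pow _, hI4, by simp⟩)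
  have hc : n * α sU * n⁻¹ * (n * β sI * n⁻¹) = (n * β sI * n⁻¹) * (n * α sU * n⁻¹) := by
    calc n * α sU * n⁻¹ * (n * β sI * n⁻¹) = n * (α sU * β sI) * n⁻¹ := by group
      _ = n * (β sI * α sU) * n⁻¹ := by rw [h.comm]
      _ = _ := by group
  obtain ⟨x, y, hx, hy, hxy⟩ := h.mem_Q.1 hq
  rw [e, hxy] at hc
  by_cases ha : (a : ℕ) = 0
  · have ha' : a = 0 := Fin.ext ha
    subst ha'
    have e' : n * α sU * n⁻¹ = β (sU ^ (b : ℕ)) := by rw [e]; simp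
    fin_cases b
    · exfalso
      simp at e'
      exact sl_z.2.2.2.2.1 (h.α_inj (e'.trans (map_one α).symm))
    · right; right; left; simpa using e'
    · right; right; right; rw [e']; exact two β
  by_cases hb : (b : ℕ) = 0
  · have hb' : b = 0 := Fin.ext hb
    subst hb'
    have e' : n * α sU * n⁻¹ = α (sU ^ (a : ℕ)) := by rw [e]; simp
    fin_cases a
    · simp at ha
    · left; simpa using e'
    · right; left; rw [e']; exact two α
  exfalso
  have hcm : α (sU ^ (a : ℕ) * x) * β (sU ^ (b : ℕ) * y) = α (x * sU ^ (a : ℕ)) * β (y * sU ^ (b : ℕ)) := by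
    have : h.φ ((sU ^ (a : ℕ), sU ^ (b : ℕ)) * (x, y)) = h.φ ((x, y) * (sU ^ (a : ℕ), sU ^ (b : ℕ))) := by
      rw [map_mul, map_mul]; exact hc
    exact this
  have hcomm : ∀ {u w : SL23}, (u * w = w * u ∨ u * w = w * u * sZ) →
      (u * w * u⁻¹ * w⁻¹ = 1 ∨ u * w * u⁻¹ * w⁻¹ = sZ) := by
    intro u w huw
    rcases huw with huw | huw
    · left; rw [huw]; group
    · right
      rw [huw, (sl_z.2.2.2.2.2.2 (w * u)).1]; group
  obtain ⟨h1, h2⟩ : (sU ^ (a : ℕ) * x = x * sU ^ (a : ℕ) ∨ sU ^ (a : ℕ) * x = x * sU ^ (a : ℕ) * sZ) ∧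
      (sU ^ (b : ℕ) * y = y * sU ^ (b : ℕ) ∨ sU ^ (b : ℕ) * y = y * sU ^ (b : ℕ) * sZ) := by
    rcases h.unique hcm with ⟨u, v⟩ | ⟨u, v⟩
    · exact ⟨Or.inl u, Or.inl v⟩
    · exact ⟨Or.inr u, Or.inr v⟩
  have hx1 := sl_quat_fix x a hx ha (hcomm h1)
  have hy1 := sl_quat_fix y b hy hb (hcomm h2)
  have hz : n * β sI * n⁻¹ = 1 ∨ n * β sI * n⁻¹ = z := by
    rcases hx1 with rfl | rfl <;> rcases hy1 with rfl | rfl <;> rw [hxy]
    · left; simp
    · right; simp [h.βZ]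
    · right; simp [h.αZ]
    · left; rw [h.αZ, h.βZ, h.z_sq]
  have hIne : sI ≠ (1 : SL23) ∧ sI ≠ sZ := by decide +kernel
  rcases hz with hz | hz
  · rw [mul_inv_eq_one, mul_eq_left] at hz
    exact hIne.1 (h.β_inj (hz.trans (map_one β).symm))
  · rw [mul_inv_eq_iff_eq_mul, ← Subgroup.mem_centralizer_singleton_iff.1 hn.1] at hz
    exact hIne.2 (h.β_inj ((mul_left_cancel hz).trans h.βZ.symm))

end

end CfsgLib.UFourType
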