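import Cfsg.Agent.Lib.UFourType.Embed
import Cfsg.Agent.Lib.UFourType.DataEnd
import Cfsg.Agent.Lib.Hall.Basic
import Cfsg.Agent.Lib.OddOrder.Solvable
import Cfsg.Agent.Lib.Invol.StronglyEmbedded
import Cfsg.Agent.S5513

/-!
The image of the unitary group is the whole group.
-/

set_option autoImplicit false
set_option maxRecDepth 100000
set_option maxHeartbeats 1000000

namespace CfsgLib.UFourType

open Cfsg CfsgLib.CosetEnum

/-- one step towards the central involution -/
noncomputable def stepOKZ (r : ℕ × ℕ × ℕ × ℕ) : Bool :=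
  Nat.blt r.1 1152 && Nat.blt r.2.2.1 1152 &&
    (if r.2.1 = 0 then Nat.beq (cj 5 r.2.2.1 r.1) r.2.2.2
      else memB r.1 (sList 5) && Nat.beq (phiF r.1) r.2.2.2)

/-- the steps refer to earlier codes -/
noncomputable def chainZ : List ℕ → List (ℕ × ℕ × ℕ × ℕ) → Bool
  | _, [] => true
  | seen, r :: rs => stepOKZ r && memB r.2.2.2 seen && chainZ (r.1 :: seen) rs

theorem steps_check : chainZ [zC 5] stepList = true ∧
    ((List.range 1152).all fun n => !(Nat.beq (hm 5 n n) 0) || Nat.beq n 0 || Nat.beq n (zC 5) ||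
      stepList.any fun r => Nat.beq r.1 n) = true := by decide +kernel

section

variable {G : Type*} [Group G] [Finite G] {z : G} {Q : Subgroup G} {i p a s d : G} {L : Subgroup G}

theorem MData.z_mem (M : MData z Q i p a s d) (I : Img i p a s d L) :
    Subgroup.centralizer ({z} : Set G) ≤ L ∧ d ∈ L ∧ z ∈ L := by
  have h1 : Subgroup.centralizer ({z} : Set G) ≤ L := by
    rw [M.sd.dat.gen, Subgroup.closure_le]
    intro y hy
    simp only [Set.mem_insert_iff, Set.mem_singleton_iff] at hy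
    rcases hy with rfl | rfl | rfl | rfl
    exacts [I.letters 0, I.letters 2, I.letters 4, I.letters 6]
  exact ⟨h1, I.letters 7, h1 (Subgroup.mem_centralizer_singleton_iff.2 rfl)⟩

theorem MData.chain_spec (M : MData z Q i p a s d) (I : Img i p a s d L) :
    ∀ (rs : List (ℕ × ℕ × ℕ × ℕ)) (seen : List ℕ),
      (∀ n ∈ seen, ∃ k ∈ L, k * val 5 i p a s n * k⁻¹ = z) → chainZ seen rs = true →
      ∀ r ∈ rs, ∃ k ∈ L, k * val 5 i p a s r.1 * k⁻¹ = z := by
  obtain ⟨hHL, hdL, -⟩ := M.z_mem I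
  have D := M.sd
  intro rs
  induction rs with
  | nil => intro _ _ _ r hr; simp at hr
  | cons r rs ih =>
    intro seen hseen h
    rw [chainZ, Bool.and_eq_true, Bool.and_eq_true, memB_iff] at h
    obtain ⟨⟨hstep, hmem⟩, hrest⟩ := h
    obtain ⟨k, hk, ek⟩ := hseen _ hmem
    have hr1 : ∃ k ∈ L, k * val 5 i p a s r.1 * k⁻¹ = z := by
      simp only [stepOKZ, Bool.and_eq_true, Nat.blt_eq] at hstep
      obtain ⟨⟨hn, hg⟩, hkind⟩ := hstep
      split at hkind
      · rw [Nat.beq_eq] at hkind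
        refine ⟨k * val 5 i p a s r.2.2.1, mul_mem hk (hHL (D.bij.1 _ hg)), ?_⟩
        rw [← ek, ← hkind, ← D.cjV hg hn]; group
      · rw [Bool.and_eq_true, memB_iff, Nat.beq_eq] at hkind
        refine ⟨k * d, mul_mem hk hdL, ?_⟩
        rw [← ek, ← hkind.2, ← (D.phi hkind.1).2]; group
    intro r' hr'
    rcases List.mem_cons.1 hr' with rfl | hr'
    · exact hr1
    · refine ih (r.1 :: seen) (fun n hn => ?_) hrest r' hr'
      rcases List.mem_cons.1 hn with rfl | hn
      exacts [hr1, hseen n hn]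

theorem MData.local_classes (M : MData z Q i p a s d) (I : Img i p a s d L) {v : G}
    (hv : v ∈ Subgroup.centralizer ({z} : Set G)) (hv2 : orderOf v = 2) : ∃ k ∈ L, k * v * k⁻¹ = z := by
  have D := M.sd
  obtain ⟨n, hn, rfl⟩ := D.bij.2.1 v hv
  have h := steps_check.2
  simp only [List.all_eq_true, List.mem_range, Bool.or_eq_true, List.any_eq_true, Nat.beq_eq, Bool.not_eq_true',
    Bool.eq_false_iff, ne_eq] at h
  have hnn : hm 5 n n = 0 := by
    refine D.inj (hm_spec D.dat.rel hn hn).1 (by norm_num) ?_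
    rw [(hm_spec D.dat.rel hn hn).2, val_zero, ← pow_two, ← hv2, pow_orderOf_eq_one]
  have hseen : ∀ m ∈ [zC 5], ∃ k ∈ L, k * val 5 i p a s m * k⁻¹ = z := fun m hm' => by
    obtain rfl : m = zC 5 := by simpa using hm'
    exact ⟨1, one_mem _, by rw [D.dat.z_eq]; group⟩
  rcases h n hn with ((h0 | h0) | h0) | ⟨r, hr, rfl⟩
  · exact absurd hnn h0
  · exfalso; rw [h0, val_zero, orderOf_one] at hv2; exact absurd hv2 (by norm_num)
  · exact hseen n (by simp [h0])
  · exact M.chain_spec I stepList [zC 5] hseen steps_check.1 r hr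

theorem MData.all_classes (M : MData z Q i p a s d) (I : Img i p a s d L) {v : G} (hvL : v ∈ L)
    (hv2 : orderOf v = 2) : ∃ k ∈ L, k * v * k⁻¹ = z := by
  classical
  haveI : Fact (Nat.Prime 2) := ⟨Nat.prime_two⟩
  obtain ⟨hHL, -, -⟩ := M.z_mem I
  set H := Subgroup.centralizer ({z} : Set G) with hH
  obtain ⟨T⟩ : Nonempty (Sylow 2 H) := inferInstance
  have hTcard : Nat.card T = 128 := by
    rw [Sylow.card_eq_multiplicity, hH, M.sd.card_H, show (1152 : ℕ) = 2 ^ 7 * 9 by norm_num,
      Nat.factorization_mul (by norm_num) (by norm_num), Finsupp.add_apply, Nat.Prime.factorization_pow (by norm_num),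
      Finsupp.single_eq_same, Nat.factorization_eq_zero_of_not_dvd (by norm_num : ¬ 2 ∣ 9)]
    norm_num
  set T' := (((T : Subgroup H).map H.subtype).subgroupOf L) with hT'
  have hle : (T : Subgroup H).map H.subtype ≤ L := le_trans (Subgroup.map_subtype_le _) hHL
  have hcT : Nat.card T' = 2 ^ (Nat.card L).factorization 2 := by
    rw [Nat.card_congr (Subgroup.subgroupOfEquivOfLe hle).toEquiv,
      Subgroup.card_map_of_injective H.subtype_injective, I.card, show (3265920 : ℕ) = 2 ^ 7 * 25515 by norm_num,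
      Nat.factorization_mul (by norm_num) (by norm_num), Finsupp.add_apply, Nat.Prime.factorization_pow (by norm_num),
      Finsupp.single_eq_same, Nat.factorization_eq_zero_of_not_dvd (by norm_num : ¬ 2 ∣ 25515)]
    exact hTcard
  let S : Sylow 2 L := Sylow.ofCard T' hcT
  have hp : IsPGroup 2 (Subgroup.zpowers (⟨v, hvL⟩ : L)) := IsPGroup.of_card (n := 1) (by
    rw [Nat.card_zpowers, Subgroup.orderOf_mk, hv2, pow_one])
  obtain ⟨S', hS'⟩ := hp.exists_le_sylow
  obtain ⟨c, hc⟩ := MulAction.exists_smul_eq L S' S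
  have hmem : (c * ⟨v, hvL⟩ * c⁻¹ : L) ∈ (S : Subgroup L) := by
    rw [← hc, Sylow.coe_subgroup_smul, Subgroup.mem_pointwise_smul_iff_inv_smul_mem]
    simp only [MulAut.smul_def, ← map_inv, MulAut.conj_apply, inv_inv]
    rw [show c⁻¹ * (c * (⟨v, hvL⟩ : L) * c⁻¹) * c = ⟨v, hvL⟩ by group]
    exact hS' (Subgroup.mem_zpowers _)
  rw [Sylow.coe_ofCard] at hmem
  have hH' : (c : G) * v * (c : G)⁻¹ ∈ H := Subgroup.map_subtype_le _ hmem
  obtain ⟨k, hk, ek⟩ := M.local_classes I hH' (by rw [← MulAut.conj_apply, MulEquiv.orderOf_eq, hv2])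
  exact ⟨k * c, mul_mem hk c.2, by rw [← ek]; group⟩

theorem MData.cent_le (M : MData z Q i p a s d) (I : Img i p a s d L) {v : G} (hvL : v ∈ L) (hv2 : orderOf v = 2) :
    Subgroup.centralizer ({v} : Set G) ≤ L := by
  obtain ⟨k, hk, ek⟩ := M.all_classes I hvL hv2
  obtain ⟨hHL, -, -⟩ := M.z_mem I
  intro c hc
  have hc' : k * c * k⁻¹ ∈ Subgroup.centralizer ({z} : Set G) := by
    rw [Subgroup.mem_centralizer_singleton_iff, ← ek]
    calc k * c * k⁻¹ * (k * v * k⁻¹) = k * (c * v) * k⁻¹ := by group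
      _ = k * (v * c) * k⁻¹ := by rw [Subgroup.mem_centralizer_singleton_iff.1 hc]
      _ = _ := by group
  rw [show c = k⁻¹ * (k * c * k⁻¹) * k by group]
  exact mul_mem (mul_mem (inv_mem hk) (hHL hc')) hk

/-- a group of order 35 has a central subgroup of order seven -/
theorem card_thirtyfive {K : Type*} [Group K] [Finite K] (hK : Nat.card K = 35) :
    ∃ x y : K, orderOf x = 7 ∧ orderOf y = 5 ∧ y * x = x * y := by
  haveI : Fact (Nat.Prime 7) := ⟨by norm_num⟩
  haveI : Fact (Nat.Prime 5) := ⟨by norm_num⟩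
  obtain ⟨P⟩ : Nonempty (Sylow 7 K) := inferInstance
  have hP : Nat.card P = 7 := by
    rw [Sylow.card_eq_multiplicity, hK, show (35 : ℕ) = 7 ^ 1 * 5 by norm_num,
      Nat.factorization_mul (by norm_num) (by norm_num), Finsupp.add_apply, Nat.Prime.factorization_pow (by norm_num),
      Finsupp.single_eq_same, Nat.factorization_eq_zero_of_not_dvd (by norm_num : ¬ 7 ∣ 5)]
    rfl
  have hn1 : Nat.card (Sylow 7 K) = 1 := by
    have h1 := card_sylow_modEq_one 7 K
    have h2 := P.card_dvd_index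
    have h3 := (P : Subgroup K).card_mul_index
    rw [show Nat.card (P : Subgroup K) = 7 from hP, hK] at h3
    have hi : (P : Subgroup K).index = 5 := by omega
    rw [hi] at h2
    have hle := Nat.le_of_dvd (by norm_num) h2
    have key : ∀ n ≤ 5, n ∣ 5 → n % 7 = 1 → n = 1 := by decide
    exact key _ hle h2 h1
  haveI : Subsingleton (Sylow 7 K) := (Nat.card_eq_one_iff_unique.1 hn1).1
  haveI : (P : Subgroup K).Normal := Sylow.normal_of_subsingleton P
  obtain ⟨y, hy⟩ := exists_prime_orderOf_dvd_card' (G := K) 5 (by rw [hK]; norm_num)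
  obtain ⟨x, hx⟩ := exists_prime_orderOf_dvd_card' (G := (P : Subgroup K)) 7 (by rw [hP])
  refine ⟨x, y, by rw [Subgroup.orderOf_coe]; exact hx, hy, ?_⟩
  let φ : K →* MulAut (P : Subgroup K) := MulAut.conjNormal
  haveI : IsCyclic (P : Subgroup K) := isCyclic_of_prime_card hP
  have hAut : Nat.card (MulAut (P : Subgroup K)) = 6 := by
    rw [IsCyclic.card_mulAut, show Nat.card (P : Subgroup K) = 7 from hP]
    decide +kernel
  haveI : Finite (MulAut (P : Subgroup K)) := Nat.finite_of_card_ne_zero (by rw [hAut]; norm_num)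
  have h1 : orderOf (φ y) ∣ 5 := hy ▸ orderOf_map_dvd φ y
  have h2 : orderOf (φ y) ∣ 6 := hAut ▸ orderOf_dvd_natCard (φ y)
  have he : φ y = 1 := orderOf_eq_one_iff.1 (Nat.eq_one_of_dvd_coprimes (by norm_num) h1 h2)
  have h : y * (x : K) * y⁻¹ = x := by
    rw [← MulAut.conjNormal_apply]
    exact congrArg Subtype.val (MulEquiv.ext_iff.1 he x)
  exact mul_inv_eq_iff_eq_mul.1 h

theorem MData.eq_top (M : MData z Q i p a s d) (I : Img i p a s d L) {K : Type} [Field K] [Fintype K]
    (hK9 : Fintype.card K = 9) (e : PSU 4 K 3 ≃* L) : L = ⊤ := by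
  classical
  by_contra hne
  obtain ⟨hHL, -, hzL⟩ := M.z_mem I
  have hz2 := M.sd.z_ord
  have heven : Even (Nat.card L) := by rw [I.card]; decide
  have hse : Cfsg.IsStronglyEmbedded L := (CfsgLib.Invol.strongly_iff_centralizer_fusion hne heven).2
    ⟨fun t ht ht2 => M.cent_le I ht ht2, fun t ht u hu ht2 hu2 _ => by
      obtain ⟨k, hk, ek⟩ := M.all_classes I ht ht2
      obtain ⟨k', hk', ek'⟩ := M.all_classes I hu hu2
      refine ⟨k'⁻¹ * k, mul_mem (inv_mem hk') hk, ?_⟩
      rw [show k'⁻¹ * k * t * (k'⁻¹ * k)⁻¹ = k'⁻¹ * (k * t * k⁻¹) * k' by group, ek, ← ek']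
      group⟩
  obtain ⟨u, hu2, huL⟩ := CfsgLib.Invol.strongly_exists_invol_not_mem hse
  set D0 := L ⊓ L.map (MulAut.conj u).toMonoidHom with hD0
  have hgu : u ∉ L := huL
  have hodd : Odd (Nat.card D0) := hse.2.2 u hgu
  set D := D0.subgroupOf L with hD
  have hDodd : Odd (Nat.card D) := by
    rw [hD, Nat.card_congr (Subgroup.subgroupOfEquivOfLe inf_le_left).toEquiv]; exact hodd
  -- transitivity on the involutions
  let zL : L := ⟨z, hzL⟩
  have hcount : Nat.card (MulAction.orbit (ConjAct L) zL) = 2835 := by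
    have h1 := Subgroup.card_eq_card_quotient_mul_card_subgroup (MulAction.stabilizer (ConjAct L) zL)
    rw [← Nat.card_congr (MulAction.orbitEquivQuotientStabilizer (ConjAct L) zL)] at h1
    have h2 : Nat.card (MulAction.stabilizer (ConjAct L) zL) = 1152 := by
      rw [← M.sd.card_H]
      refine Nat.card_congr
        { toFun := fun c => ⟨((ConjAct.ofConjAct (c : ConjAct L) : L) : G), ?_⟩
          invFun := fun c => ⟨ConjAct.toConjAct ⟨(c : G), hHL c.2⟩, ?_⟩
          left_inv := fun c => rfl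
          right_inv := fun c => rfl }
      · refine Subgroup.mem_centralizer_singleton_iff.2 ?_
        have hc : (c : ConjAct L) • zL = zL := c.2
        rw [ConjAct.smul_def] at hc
        exact mul_inv_eq_iff_eq_mul.1 (congrArg Subtype.val hc)
      · rw [MulAction.mem_stabilizer_iff, ConjAct.smul_def, ConjAct.ofConjAct_toConjAct]
        exact mul_inv_eq_iff_eq_mul.2 (Subtype.ext (Subgroup.mem_centralizer_singleton_iff.1 c.2))
    rw [h2, show Nat.card (ConjAct L) = 3265920 from I.card] at h1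
    omega
  have hdiv : 2835 ∣ Nat.card D := by
    let DC : Subgroup (ConjAct L) := D.map ConjAct.toConjAct.toMonoidHom
    have hDC : Nat.card DC = Nat.card D := Subgroup.card_map_of_injective ConjAct.toConjAct.injective
    have horb : MulAction.orbit DC zL = MulAction.orbit (ConjAct L) zL := by
      refine Set.Subset.antisymm ?_ ?_
      · rintro _ ⟨g, rfl⟩; exact ⟨(g : ConjAct L), rfl⟩
      · rintro w ⟨g, rfl⟩
        have hz2L : orderOf zL = 2 := by rw [← Subgroup.orderOf_coe]; exact hz2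
        have hw : orderOf (((g • zL : L)) : G) = 2 := by
          rw [Subgroup.orderOf_coe, ConjAct.smul_def, ← MulAut.conj_apply, MulEquiv.orderOf_eq, hz2L]
        obtain ⟨m, hm', em⟩ := CfsgLib.Invol.strongly_inter_transitive hse hu2 huL hz2 hzL hw (g • zL : L).2
        have hmL : m ∈ L := hm'.1
        refine ⟨⟨ConjAct.toConjAct (⟨m, hmL⟩ : L), ⟨⟨m, hmL⟩, hm', rfl⟩⟩, ?_⟩
        refine Subtype.ext ?_
        show ((ConjAct.toConjAct (⟨m, hmL⟩ : L) • zL : L) : G) = _
        rw [ConjAct.toConjAct_smul]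
        exact em
    have h1 := Subgroup.card_eq_card_quotient_mul_card_subgroup (MulAction.stabilizer DC zL)
    rw [← Nat.card_congr (MulAction.orbitEquivQuotientStabilizer DC zL), horb, hcount, hDC] at h1
    exact ⟨_, h1⟩
  -- a subgroup of order 35
  have hDd : Nat.card D ∣ 3265920 := I.card ▸ Subgroup.card_subgroup_dvd_card D
  have h729 : Nat.card D ∣ 25515 := by
    have hc : Nat.Coprime (Nat.card D) (2 ^ 7) := (Nat.coprime_two_right.2 hDodd).pow_right 7
    refine hc.dvd_of_dvd_mul_left ?_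
    norm_num
    exact hDd
  obtain ⟨q, hq⟩ := hdiv
  have hq' : q ∣ 9 := Nat.dvd_of_mul_dvd_mul_left (by norm_num : 0 < 2835) (by rw [← hq]; norm_num; exact h729)
  haveI : Group.IsSolvable D := CfsgLib.OddOrder.solvable_of_odd (Nat.card D) D rfl hDodd
  have hmn : Nat.card D = 35 * (81 * q) := by rw [hq]; ring
  have hcop : Nat.Coprime 35 (81 * q) :=
    (show Nat.Coprime 35 729 by norm_num).coprime_dvd_right (by
      rw [show (729 : ℕ) = 81 * 9 by norm_num]; exact Nat.mul_dvd_mul_left _ hq')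
  obtain ⟨K35, hK35⟩ := CfsgLib.Hall.exists_hall hmn hcop
  obtain ⟨x, y, hx, hy, hxy⟩ := card_thirtyfive hK35
  let j : K35 →* PSU 4 K 3 := e.symm.toMonoidHom.comp (D.subtype.comp K35.subtype)
  have hj : Function.Injective j :=
    e.symm.injective.comp (D.subtype_injective.comp K35.subtype_injective)
  have hX7 : Nat.card (Subgroup.zpowers (j x)) = 7 := by
    rw [Nat.card_zpowers, orderOf_injective j hj, hx]
  obtain ⟨-, hcent⟩ := Cfsg.Agent.S5513.result K hK9 (Subgroup.zpowers (j x)) hX7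
  have hyc : j y ∈ Subgroup.centralizer ((Subgroup.zpowers (j x) : Subgroup (PSU 4 K 3)) : Set (PSU 4 K 3)) := by
    rw [Subgroup.mem_centralizer_iff]
    intro w hw
    obtain ⟨m, rfl⟩ := Subgroup.mem_zpowers_iff.1 hw
    have hc : Commute (j y) (j x) := (show Commute y x from hxy).map j
    exact (hc.zpow_right m).eq.symm
  rw [hcent] at hyc
  have h5 := orderOf_dvd_natCard (⟨j y, hyc⟩ : Subgroup.zpowers (j x))
  rw [hX7, Subgroup.orderOf_mk, orderOf_injective j hj, hy] at h5
  norm_num at h5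

/-- the two conclusions -/
theorem Hyp.main {α β : SL23 →* G} (h : Hyp z α β Q) {K : Type} [Field K] [Fintype K] (hK9 : Fintype.card K = 9) :
    Nonempty (G ≃* PSU 4 K 3) ∧ Nat.card G = 3265920 ∧
      ∀ x y : G, orderOf x = 2 → orderOf y = 2 → IsConj x y := by
  obtain ⟨i, p, a, s, d, -, -, D⟩ := h.exists_sdata
  obtain ⟨d', M⟩ := D.exists_mdata
  obtain ⟨f, hinj, I⟩ := M.exists_embedding hK9
  let e := MonoidHom.ofInjective hinj
  have htop := M.eq_top I hK9 e
  refine ⟨⟨((MulEquiv.subgroupCongr htop).trans Subgroup.topEquiv).symm.trans e.symm⟩, ?_, fun x y hx hy => ?_⟩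
  · rw [← I.card, htop, Subgroup.card_top]
  · have m : ∀ v : G, v ∈ f.range := fun v => by rw [htop]; exact Subgroup.mem_top v
    obtain ⟨k1, -, e1⟩ := M.all_classes I (m x) hx
    obtain ⟨k2, -, e2⟩ := M.all_classes I (m y) hy
    exact (isConj_iff.2 ⟨k1, e1⟩).trans (isConj_iff.2 ⟨k2, e2⟩).symm

end

end CfsgLib.UFourType
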