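import Cfsg.Agent.Lib.UFourType.WArg

/-!
The four classes of actions on the Sylow 3-subgroup.
-/

set_option autoImplicit false
set_option maxHeartbeats 1000000

namespace CfsgLib.UFourType

section

variable {G : Type*} [Group G] [Finite G] {z : G} {α β : SL23 →* G} {Q : Subgroup G}

/-- No element of the centralizer of `t` inverts one factor and fixes the other. -/
theorem Hyp.no_twist (h : Hyp z α β Q) {t : G} (ht : t ∈ Q) (ht2 : t * t = 1) (ht1 : t ≠ 1) (hne : t ≠ z)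
    {w n k : G} (hn : n ∈ Subgroup.centralizer ({z} : Set G)) (hk : k ∈ kK α β) (hw : w = k * n)
    (hwt : w * t = t * w) (hcomm : ∀ c ∈ Q, c * t = t * c → InV z t (w * c * w⁻¹ * c⁻¹))
    (hu : n * α sU * n⁻¹ = (α sU)⁻¹) (hv : n * β sU * n⁻¹ = β sU) : False := by
  obtain ⟨q, r, hq, hr, htqr⟩ := h.invol_Q ht ht2 ht1 hne
  obtain ⟨r0, hr0, hqr0⟩ := sl_partner q hq
  obtain ⟨s0, hs0, hrs0⟩ := sl_partner r hr
  have q4 : ∀ {x : SL23}, x * x = sZ → x ^ 4 = 1 := fun {x} hx => (sl_two_sq x).1 (Or.inr (by rw [pow_two, hx]))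
  obtain ⟨l, hl⟩ := h.swap.fix_auto hn (by rw [← mul_inv_eq_iff_eq_mul, hv])
  have hr' := h.range_map hn h.α_normal (hu.symm ▸ inv_mem ⟨sU, rfl⟩)
  obtain ⟨j, hj⟩ := hr' sI
  have hz : n * z * n⁻¹ = z := by rw [Subgroup.mem_centralizer_singleton_iff.1 hn]; group
  have hjj : j * j = sZ := h.α_inj (by
    rw [map_mul, hj, h.αZ]
    calc n * α sI * n⁻¹ * (n * α sI * n⁻¹) = n * α (sI * sI) * n⁻¹ := by rw [map_mul]; group
      _ = z := by rw [sl_z.1, h.αZ, hz])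
  have hrel : sU * sU * sI * sU⁻¹ * sU⁻¹ = sU * sI * sU⁻¹ * sI := by decide +kernel
  have hjrel : sU⁻¹ * sU⁻¹ * j * sU * sU = sU⁻¹ * j * sU * j := h.α_inj (by
    have hh := congrArg (MulAut.conj n) (congrArg α hrel)
    simpa only [map_mul, map_inv, MulAut.conj_apply, hu, ← hj, inv_inv] using hh)
  obtain ⟨x, y, hxy⟩ := h.mem_K.1 hk
  obtain ⟨a, b, hab⟩ := (sl_quat_form q).1 (q4 hq)
  obtain ⟨c, e, hce⟩ := (sl_quat_form r0).1 (q4 hr0)
  -- the action on the first factor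
  have hA : ∀ (A : Fin 4) (B : Fin 2), w * α (sI ^ (A : ℕ) * (sU * sI * sU⁻¹) ^ (B : ℕ)) * w⁻¹ =
      α (x * (j ^ (A : ℕ) * (sU⁻¹ * j * sU) ^ (B : ℕ)) * x⁻¹) := by
    intro A B
    have e1 : n * α (sI ^ (A : ℕ) * (sU * sI * sU⁻¹) ^ (B : ℕ)) * n⁻¹ =
        α (j ^ (A : ℕ) * (sU⁻¹ * j * sU) ^ (B : ℕ)) := by
      rw [← MulAut.conj_apply]
      simp only [map_mul, map_pow, map_inv]
      simp only [MulAut.conj_apply, hu, ← hj, inv_inv]
    rw [hw, show k * n * α (sI ^ (A : ℕ) * (sU * sI * sU⁻¹) ^ (B : ℕ)) * (k * n)⁻¹ =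
      k * (n * α (sI ^ (A : ℕ) * (sU * sI * sU⁻¹) ^ (B : ℕ)) * n⁻¹) * k⁻¹ by group, e1, hxy,
      map_mul α (x * _), map_mul α x, map_inv, mul_inv_rev]
    rw [show α x * β y * α (j ^ (A : ℕ) * (sU⁻¹ * j * sU) ^ (B : ℕ)) * ((β y)⁻¹ * (α x)⁻¹) =
      α x * (β y * α (j ^ (A : ℕ) * (sU⁻¹ * j * sU) ^ (B : ℕ))) * (β y)⁻¹ * (α x)⁻¹ by group, ← h.comm]
    group
  -- the action on the second factor
  set y' := y * sU ^ (l : ℕ) with hy'
  have hB : ∀ u, w * β u * w⁻¹ = β (y' * u * y'⁻¹) := by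
    intro u
    rw [hw, show k * n * β u * (k * n)⁻¹ = k * (n * β u * n⁻¹) * k⁻¹ by group, hl, hxy, hy',
      show y * sU ^ (l : ℕ) * u * (y * sU ^ (l : ℕ))⁻¹ = y * (sU ^ (l : ℕ) * u * (sU ^ (l : ℕ))⁻¹) * y⁻¹ by group,
      map_mul β (y * _), map_mul β y, map_inv, mul_inv_rev]
    rw [show α x * β y * β (sU ^ (l : ℕ) * u * (sU ^ (l : ℕ))⁻¹) * ((β y)⁻¹ * (α x)⁻¹) =
      α x * (β y * β (sU ^ (l : ℕ) * u * (sU ^ (l : ℕ))⁻¹) * (β y)⁻¹) * (α x)⁻¹ by group,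
      ← map_inv β, ← map_mul, ← map_mul, h.comm]
    group
  set q' := x * (j ^ (a : ℕ) * (sU⁻¹ * j * sU) ^ (b : ℕ)) * x⁻¹ with hq'
  set r0' := x * (j ^ (c : ℕ) * (sU⁻¹ * j * sU) ^ (e : ℕ)) * x⁻¹ with hr0'
  have hq'' : w * α q * w⁻¹ = α q' := by rw [hq', ← hA a b, ← hab]
  have hr'' : w * α r0 * w⁻¹ = α r0' := by rw [hr0', ← hA c e, ← hce]
  have hwt' : α q' * β (y' * r * y'⁻¹) = α q * β r := by
    rw [← hq'', ← hB, ← htqr, show w * α q * w⁻¹ * (w * β r * w⁻¹) = w * (α q * β r) * w⁻¹ by group, ← htqr,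
      hwt]
    group
  have hsz : ∀ {u : SL23}, u * u = sZ → u * sZ = u⁻¹ := fun {u} hu' =>
    (inv_eq_of_mul_eq_one_right (by rw [← mul_assoc, hu']; exact sl_z.2.1)).symm
  obtain ⟨hqq, hrr⟩ : (q' = q ∨ q' = q⁻¹) ∧ (y' * r * y'⁻¹ = r ∨ y' * r * y'⁻¹ = r⁻¹) := by
    rcases h.unique hwt' with ⟨u1, u2⟩ | ⟨u1, u2⟩
    · exact ⟨Or.inl u1, Or.inl u2⟩
    · exact ⟨Or.inr (by rw [u1, hsz hq]), Or.inr (by rw [u2, hsz hr])⟩
  have hy4 := sl_stab y' r hr hrr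
  have hbad := sl_twist j hjj hjrel x a c b e (hab ▸ hq) (by rw [← hab]; exact hqq)
    (by rw [← hab, ← hce]; exact hqr0)
  have hbad' : r0' * r0⁻¹ = q ∨ r0' * r0⁻¹ = q⁻¹ := by rw [← hab, ← hce] at hbad; exact hbad
  set cc := α r0 * β s0 with hcc
  have hccQ : cc ∈ Q := h.mem_Q.2 ⟨_, _, q4 hr0, q4 hs0, rfl⟩
  have hcct : cc * t = t * cc := by
    have e' : h.φ (q, r) * h.φ (r0, s0) * (h.φ (q, r))⁻¹ * (h.φ (r0, s0))⁻¹ = 1 := by
      rw [← map_inv, ← map_inv, ← map_mul, ← map_mul, ← map_mul]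
      show α (q * r0 * q⁻¹ * r0⁻¹) * β (r * s0 * r⁻¹ * s0⁻¹) = 1
      rw [hqr0, hrs0, h.αZ, h.βZ, h.z_sq]
    rw [htqr]
    exact (mul_inv_eq_iff_eq_mul.1 (mul_inv_eq_one.1 e')).symm
  have hfin : InV z t (α (r0' * r0⁻¹) * β (y' * s0 * y'⁻¹ * s0⁻¹)) := by
    have hh := hcomm cc hccQ hcct
    have e1 : w * cc * w⁻¹ * cc⁻¹ = α r0' * β (y' * s0 * y'⁻¹) * (α r0 * β s0)⁻¹ := by
      rw [← hr'', ← hB, hcc]; group
    rw [e1] at hh
    have e2 : α r0' * β (y' * s0 * y'⁻¹) * (α r0 * β s0)⁻¹ =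
        α (r0' * r0⁻¹) * β (y' * s0 * y'⁻¹ * s0⁻¹) := by
      show h.φ (r0', y' * s0 * y'⁻¹) * (h.φ (r0, s0))⁻¹ = h.φ (r0' * r0⁻¹, y' * s0 * y'⁻¹ * s0⁻¹)
      rw [← map_inv, ← map_mul]; rfl
    rwa [e2] at hh
  set q0 := r0' * r0⁻¹ with hq0
  set m := y' * s0 * y'⁻¹ * s0⁻¹ with hm
  have hm1 : m = 1 ∨ m = sZ := (sl_quat_mul y' s0 hy4 (q4 hs0)).2
  have hne' : ∀ {u : SL23}, u * u = sZ → u ≠ 1 ∧ u ≠ sZ := fun {u} hu' =>
    ⟨fun e => sl_z.2.2.1 (by rw [e, one_mul] at hu'; exact hu'.symm),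
     fun e => sl_z.2.2.1 (by rw [e, sl_z.2.1] at hu'; exact hu'.symm)⟩
  have hq0' : q0 ≠ 1 ∧ q0 ≠ sZ := by
    rcases hbad' with e | e <;> rw [e]
    · exact hne' hq
    · refine hne' ?_
      rw [← mul_inv_rev, hq, inv_eq_of_mul_eq_one_left sl_z.2.1]
  obtain ⟨hr1, hr2⟩ := hne' hr
  rcases hfin with e | e | e | e
  · rcases h.unique (x' := 1) (y' := 1) (show α q0 * β m = α 1 * β 1 by simpa using e) with ⟨u, -⟩ | ⟨u, -⟩
    exacts [hq0'.1 u, hq0'.2 (by simpa using u)]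
  · rcases h.unique (x' := sZ) (y' := 1) (show α q0 * β m = α sZ * β 1 by simpa [h.αZ] using e) with
      ⟨u, -⟩ | ⟨u, -⟩
    exacts [hq0'.2 u, hq0'.1 (by rw [u, sl_z.2.1])]
  · rcases h.unique (x' := q) (y' := r) (e.trans htqr) with ⟨-, u⟩ | ⟨-, u⟩
    · rcases hm1 with v | v <;> rw [v] at u
      exacts [hr1 u.symm, hr2 u.symm]
    · rcases hm1 with v | v <;> rw [v] at u
      · exact hr2 (by
          have := congrArg (· * sZ) u
          simpa [mul_assoc, sl_z.2.1] using this.symm)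
      · exact hr1 (mul_eq_right.1 u.symm)
  · rcases h.unique (x' := sZ * q) (y' := r) (e.trans (by rw [map_mul, h.αZ, htqr, mul_assoc])) with
      ⟨-, u⟩ | ⟨-, u⟩
    · rcases hm1 with v | v <;> rw [v] at u
      exacts [hr1 u.symm, hr2 u.symm]
    · rcases hm1 with v | v <;> rw [v] at u
      · exact hr2 (by
          have := congrArg (· * sZ) u
          simpa [mul_assoc, sl_z.2.1] using this.symm)
      · exact hr1 (mul_eq_right.1 u.symm)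

/-- the four actions -/
def Typ (α β : SL23 →* G) (n : G) : Fin 4 → Prop
  | 0 => n * α sU * n⁻¹ = α sU ∧ n * β sU * n⁻¹ = β sU
  | 1 => n * α sU * n⁻¹ = (α sU)⁻¹ ∧ n * β sU * n⁻¹ = (β sU)⁻¹
  | 2 => n * α sU * n⁻¹ = β sU ∧ n * β sU * n⁻¹ = α sU
  | 3 => n * α sU * n⁻¹ = (β sU)⁻¹ ∧ n * β sU * n⁻¹ = (α sU)⁻¹

theorem Hyp.U_ne (h : Hyp z α β Q) : (α sU)⁻¹ ≠ α sU ∧ β sU ≠ α sU ∧ (β sU)⁻¹ ≠ α sU := by
  have key : ∀ a b : Fin 3, α (sU ^ (a : ℕ)) * β (sU ^ (b : ℕ)) = α sU → a = 1 ∧ b = 0 := by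
    intro a b e
    rcases h.unique (x' := sU ^ ((1 : Fin 3) : ℕ)) (y' := sU ^ ((0 : Fin 3) : ℕ))
      (show α (sU ^ (a : ℕ)) * β (sU ^ (b : ℕ)) = _ by rw [e]; simp) with ⟨u, v⟩ | ⟨u, v⟩
    exacts [⟨(sl_U_pows a 1).1 (Or.inl u), (sl_U_pows b 0).1 (Or.inl v)⟩,
      ⟨(sl_U_pows a 1).1 (Or.inr u), (sl_U_pows b 0).1 (Or.inr v)⟩]
  have two : ∀ γ : SL23 →* G, γ (sU ^ ((2 : Fin 3) : ℕ)) = (γ sU)⁻¹ := fun γ => by
    refine eq_inv_of_mul_eq_one_left ?_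
    rw [← map_mul, ← pow_succ, show ((2 : Fin 3) : ℕ) + 1 = 3 from rfl, sl_z.2.2.2.1, map_one]
  refine ⟨fun e => ?_, fun e => ?_, fun e => ?_⟩
  · exact absurd (key 2 0 (by rw [two, e]; simp)).1 (by decide)
  · exact absurd (key 0 1 (by simpa using e)).2 (by decide)
  · exact absurd (key 0 2 (by rw [two, e]; simp)).2 (by decide)

/-- An element normalizing the Sylow subgroup, whose square lies in the product, has one of four actions
when it comes from the centralizer of `t`. -/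
theorem Hyp.typ_cases (h : Hyp z α β Q) {t : G} (ht : t ∈ Q) (ht2 : t * t = 1) (ht1 : t ≠ 1) (hne : t ≠ z)
    {w n k : G} (hn : h.NP n) (hk : k ∈ kK α β) (hw : w = k * n) (hwH : w ∈ Subgroup.centralizer ({z} : Set G))
    (hww : w * w ∈ kK α β)
    (hwt : w * t = t * w) (hcomm : ∀ c ∈ Q, c * t = t * c → InV z t (w * c * w⁻¹ * c⁻¹)) :
    ∃ T, Typ α β n T := by
  have hn2K : n * n ∈ kK α β := by
    have e : n = k⁻¹ * w := by rw [hw]; group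
    rw [e, show k⁻¹ * w * (k⁻¹ * w) = k⁻¹ * (w * k⁻¹ * w⁻¹) * (w * w) by group]
    exact mul_mem (mul_mem (inv_mem hk) (h.K_normal w hwH _ (inv_mem hk))) hww
  have hn2 : ∀ x ∈ h.P, n * n * x * (n * n)⁻¹ ∈ h.P := fun x hx => by
    rw [show n * n * x * (n * n)⁻¹ = n * (n * x * n⁻¹) * n⁻¹ by group]
    exact hn.2 _ (hn.2 _ hx)
  obtain ⟨cu, cv⟩ := h.NP_K hn2K hn2
  have fu : n * (n * α sU * n⁻¹) * n⁻¹ = α sU := by
    rw [show n * (n * α sU * n⁻¹) * n⁻¹ = n * n * α sU * (n * n)⁻¹ by group, cu]; group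
  have fv : n * (n * β sU * n⁻¹) * n⁻¹ = β sU := by
    rw [show n * (n * β sU * n⁻¹) * n⁻¹ = n * n * β sU * (n * n)⁻¹ by group, cv]; group
  have hiv : ∀ g : G, n * g⁻¹ * n⁻¹ = (n * g * n⁻¹)⁻¹ := fun g => by group
  have hn' : h.swap.NP n := ⟨hn.1, fun x hx => by
    obtain ⟨a', b', rfl⟩ := h.swap.mem_P.1 hx
    obtain ⟨c, d, e⟩ := h.mem_P.1 (hn.2 _ (h.mem_P.2 ⟨b', a', (h.comm _ _).symm⟩))
    exact h.swap.mem_P.2 ⟨d, c, by rw [e, h.comm]⟩⟩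
  rcases h.image_u hn with a | a | a | a
  · rcases h.swap.image_u (n := n) hn' with b | b | b | b
    · exact ⟨0, a, b⟩
    · exact (h.swap.no_twist ht ht2 ht1 hne hn.1 (by unfold kK; rw [sup_comm]; exact hk) hw hwt hcomm b a).elim
    · exact absurd (mul_left_cancel (mul_right_cancel (b.trans a.symm))) h.U_ne.2.1
    · exact absurd (mul_left_cancel (mul_right_cancel ((b.trans (by rw [← a])).trans (hiv _).symm)))
        fun e => h.U_ne.2.2 (by rw [e, inv_inv])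
  · rcases h.swap.image_u (n := n) hn' with b | b | b | b
    · exact (h.no_twist ht ht2 ht1 hne hn.1 hk hw hwt hcomm a b).elim
    · exact ⟨1, a, b⟩
    · refine absurd (mul_left_cancel (mul_right_cancel ((b.trans ?_).trans (hiv _).symm)))
        fun e => h.U_ne.2.2 (by rw [e, inv_inv])
      rw [a, inv_inv]
    · exact absurd (mul_left_cancel (mul_right_cancel (b.trans a.symm))) h.U_ne.2.1
  · exact ⟨2, a, by rw [a] at fu; exact fu⟩
  · refine ⟨3, a, ?_⟩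
    rw [a, hiv] at fu
    exact inv_eq_iff_eq_inv.1 fu

/-- all four actions occur, one in each coset -/
theorem Hyp.typ_exists (h : Hyp z α β Q) :
    (∀ T, ∃ n, h.NP n ∧ Typ α β n T) ∧
      ∀ x ∈ Subgroup.centralizer ({z} : Set G), ∃ n T, h.NP n ∧ Typ α β n T ∧ n⁻¹ * x ∈ kK α β := by
  classical
  obtain ⟨g, ht, hne⟩ := h.moved
  set t := g * z * g⁻¹ with hgt
  have ht2 : t * t = 1 := by
    rw [hgt, show g * z * g⁻¹ * (g * z * g⁻¹) = g * (z * z) * g⁻¹ by group, h.z_sq]; group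
  have ht1 : t ≠ 1 := fun e => h.z_ne (by
    rw [show z = g⁻¹ * (g * z * g⁻¹) * g by group, ← hgt, e]; group)
  set H := Subgroup.centralizer ({z} : Set G)
  have main : ∀ x ∈ H, ∃ n T, h.NP n ∧ Typ α β n T ∧ n⁻¹ * x ∈ kK α β := by
    intro x hx
    obtain ⟨w, hwH, hwt, hww, hwx, hcomm⟩ := h.reps (hgt.symm) ht hne x hx
    obtain ⟨k, hk, hkP⟩ := h.frattini hwH
    have hn : h.NP (k⁻¹ * w) := ⟨mul_mem (inv_mem (h.K_le hk)) hwH, hkP⟩
    obtain ⟨T, hT⟩ := h.typ_cases ht ht2 ht1 hne hn hk (w := w) (by group) hwH hww hwt hcomm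
    refine ⟨_, T, hn, hT, ?_⟩
    rw [show (k⁻¹ * w)⁻¹ * x = (w⁻¹ * k * w) * (w⁻¹ * x) by group]
    refine mul_mem ?_ hwx
    have := h.K_normal w⁻¹ (inv_mem hwH) k hk
    rwa [inv_inv] at this
  refine ⟨?_, main⟩
  let S := H ⧸ (kK α β).subgroupOf H
  haveI := h.K_sub_normal
  haveI : Fintype S := Fintype.ofFinite S
  choose! nn TT h1 h2 h3 using main
  let f : S → Fin 4 := fun c => TT ((c.out : H) : G)
  have hinj : Function.Injective f := by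
    intro c d e
    have cH := (c.out : H).2
    have dH := (d.out : H).2
    set n := nn ((c.out : H) : G)
    set m := nn ((d.out : H) : G)
    have hc := h2 _ cH
    have hd := h2 _ dH
    change Typ α β n (f c) at hc
    change Typ α β m (f d) at hd
    rw [← e] at hd
    obtain ⟨e1, e2⟩ : n * α sU * n⁻¹ = m * α sU * m⁻¹ ∧ n * β sU * n⁻¹ = m * β sU * m⁻¹ := by
      generalize f c = T at hc hd
      fin_cases T <;> exact ⟨hc.1.trans hd.1.symm, hc.2.trans hd.2.symm⟩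
    have hcm : ∀ u : G, n * u * n⁻¹ = m * u * m⁻¹ → m⁻¹ * n * u = u * (m⁻¹ * n) := fun u hu => by
      calc m⁻¹ * n * u = m⁻¹ * (n * u * n⁻¹) * n := by group
        _ = _ := by rw [hu]; group
    obtain ⟨a, b, e', hab⟩ := h.cent_P (mul_mem (inv_mem (h1 _ dH).1) (h1 _ cH).1) (hcm _ e1) (hcm _ e2)
    have hK : m⁻¹ * n ∈ kK α β := by
      rw [hab]
      exact mul_mem (h.mem_K.2 ⟨_, _, rfl⟩) (pow_mem (h.Q_le h.z_mem_Q) _)
    have : (d.out : H)⁻¹ * c.out ∈ (kK α β).subgroupOf H := by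
      rw [Subgroup.mem_subgroupOf, Subgroup.coe_mul, Subgroup.coe_inv,
        show ((d.out : H) : G)⁻¹ * (c.out : H) = (m⁻¹ * (d.out : H))⁻¹ * (m⁻¹ * n) * (n⁻¹ * (c.out : H)) by group]
      exact mul_mem (mul_mem (inv_mem (h3 _ dH)) hK) (h3 _ cH)
    have h5 := QuotientGroup.eq.2 this
    rw [QuotientGroup.out_eq', QuotientGroup.out_eq'] at h5
    exact h5.symm
  have hbij := (Fintype.bijective_iff_injective_and_card f).2 ⟨hinj, by
    rw [Fintype.card_fin, ← Nat.card_eq_fintype_card]; exact h.index_K⟩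
  intro T
  obtain ⟨c, hc⟩ := hbij.2 T
  exact ⟨_, h1 _ (c.out : H).2, hc ▸ h2 _ (c.out : H).2⟩

end

end CfsgLib.UFourType
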