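import Cfsg.Agent.Lib.UFourType.Sylow
import Mathlib.GroupTheory.Index

/-!
The action of the centralizer on the Sylow 3-subgroup, from the conjugate of the central involution.
-/

set_option autoImplicit false
set_option maxHeartbeats 1000000

namespace CfsgLib.UFourType

section

variable {G : Type*} [Group G] [Finite G] {z : G} {α β : SL23 →* G} {Q : Subgroup G}

theorem Hyp.index_K (h : Hyp z α β Q) :
    Nat.card (Subgroup.centralizer ({z} : Set G) ⧸ (kK α β).subgroupOf (Subgroup.centralizer ({z} : Set G))) = 4 := by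
  have h1 := Subgroup.card_eq_card_quotient_mul_card_subgroup
    ((kK α β).subgroupOf (Subgroup.centralizer ({z} : Set G)))
  rw [Nat.card_congr (Subgroup.subgroupOfEquivOfLe h.K_le).toEquiv, h.card_K, h.card_H] at h1
  omega

theorem Hyp.K_sub_normal (h : Hyp z α β Q) :
    ((kK α β).subgroupOf (Subgroup.centralizer ({z} : Set G))).Normal :=
  ⟨fun x hx g => h.K_normal g g.2 x hx⟩

theorem Hyp.comm_K (h : Hyp z α β Q) {a b : G} (ha : a ∈ Subgroup.centralizer ({z} : Set G))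
    (hb : b ∈ Subgroup.centralizer ({z} : Set G)) : a * b * a⁻¹ * b⁻¹ ∈ kK α β := by
  set H := Subgroup.centralizer ({z} : Set G)
  haveI := h.K_sub_normal
  haveI : Fact (Nat.Prime 2) := ⟨by norm_num⟩
  have hc := IsPGroup.commutative_of_card_eq_prime_sq (p := 2) (G := H ⧸ (kK α β).subgroupOf H)
    (by rw [h.index_K]; rfl) (⟨a, ha⟩ : H) (⟨b, hb⟩ : H)
  have h2 : ((⟨a, ha⟩ * ⟨b, hb⟩ * ⟨a, ha⟩⁻¹ * ⟨b, hb⟩⁻¹ : H) : H ⧸ (kK α β).subgroupOf H) = 1 := by
    rw [QuotientGroup.mk_mul, QuotientGroup.mk_mul, QuotientGroup.mk_mul, QuotientGroup.mk_inv,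
      QuotientGroup.mk_inv, hc]
    group
  have h3 := (QuotientGroup.eq_one_iff _).1 h2
  exact h3

/-- the form of an involution of `Q` other than `z` -/
theorem Hyp.invol_Q (h : Hyp z α β Q) {t : G} (ht : t ∈ Q) (h2 : t * t = 1) (h1 : t ≠ 1) (hne : t ≠ z) :
    ∃ q r : SL23, q * q = sZ ∧ r * r = sZ ∧ t = α q * β r := by
  obtain ⟨q, r, -, -, rfl⟩ := h.mem_Q.1 ht
  have e : α (q * q) * β (r * r) = 1 := by
    rw [← h2]
    show h.φ ((q, r) * (q, r)) = h.φ (q, r) * h.φ (q, r)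
    rw [map_mul]
  rcases h.ker_eq e with ⟨a, b⟩ | ⟨a, b⟩
  · exfalso
    rcases (sl_z.2.2.2.2.2.2 q).2 a with rfl | rfl <;> rcases (sl_z.2.2.2.2.2.2 r).2 b with rfl | rfl
    · exact h1 (by simp)
    · exact hne (by simp [h.βZ])
    · exact hne (by simp [h.αZ])
    · exact h1 (by rw [h.αZ, h.βZ, h.z_sq])
  · exact ⟨q, r, a, b, rfl⟩

/-- the centralizer in the product of such an involution lies in `Q` -/
theorem Hyp.cent_invol (h : Hyp z α β Q) {q r : SL23} (hq : q * q = sZ) (hr : r * r = sZ) {k : G}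
    (hk : k ∈ kK α β) (hc : k * (α q * β r) = α q * β r * k) : k ∈ Q := by
  obtain ⟨x, y, rfl⟩ := h.mem_K.1 hk
  have e : α (x * q) * β (y * r) = α (q * x) * β (r * y) := by
    show h.φ ((x, y) * (q, r)) = h.φ ((q, r) * (x, y))
    rw [map_mul, map_mul]; exact hc
  have key : ∀ {u w : SL23}, w * w = sZ → (u * w = w * u ∨ u * w = w * u * sZ) → u ^ 4 = 1 := by
    intro u w hw huw
    refine sl_stab u w hw ?_
    rcases huw with e | e <;> rw [e]
    · left; group
    · right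
      rw [show w * u * sZ = w * sZ * u by rw [mul_assoc, (sl_z.2.2.2.2.2.2 u).1, ← mul_assoc]]
      have : w⁻¹ = w * sZ := inv_eq_of_mul_eq_one_right (by rw [← mul_assoc, hw]; exact sl_z.2.1)
      rw [this]; group
  rcases h.unique e with ⟨a, b⟩ | ⟨a, b⟩
  · exact h.mem_Q.2 ⟨x, y, key hq (Or.inl a), key hr (Or.inl b), rfl⟩
  · exact h.mem_Q.2 ⟨x, y, key hq (Or.inr a), key hr (Or.inr b), rfl⟩

/-- the four-group on the two involutions -/
def InV (z t c : G) : Prop := c = 1 ∨ c = z ∨ c = t ∨ c = z * t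

theorem conj_mem_Q_iff {g x : G} : x ∈ Q.map (MulAut.conj g).toMonoidHom ↔ g⁻¹ * x * g ∈ Q := by
  constructor
  · rintro ⟨y, hy, rfl⟩
    have : g⁻¹ * (g * y * g⁻¹) * g = y := by group
    rw [show (MulAut.conj g).toMonoidHom y = g * y * g⁻¹ from rfl, this]; exact hy
  · intro hx
    exact ⟨_, hx, by show g * (g⁻¹ * x * g) * g⁻¹ = x; group⟩

/-- representatives of the cosets of the product -/
theorem Hyp.reps (h : Hyp z α β Q) {g t : G} (hg : g * z * g⁻¹ = t) (ht : t ∈ Q) (hne : t ≠ z) :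
    ∀ x ∈ Subgroup.centralizer ({z} : Set G), ∃ w ∈ Subgroup.centralizer ({z} : Set G),
      w * t = t * w ∧ w * w ∈ kK α β ∧ w⁻¹ * x ∈ kK α β ∧
      ∀ c ∈ Q, c * t = t * c → InV z t (w * c * w⁻¹ * c⁻¹) := by
  classical
  set H := Subgroup.centralizer ({z} : Set G) with hH
  have htz : t * z = z * t := h.comm_z (h.Q_le ht)
  have ht2 : t * t = 1 := by
    rw [← hg, show g * z * g⁻¹ * (g * z * g⁻¹) = g * (z * z) * g⁻¹ by group, h.z_sq]; group
  have ht1 : t ≠ 1 := fun e => h.z_ne (by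
    rw [e] at hg
    rw [show z = g⁻¹ * (g * z * g⁻¹) * g by group, hg]; group)
  obtain ⟨q, r, hq, hr, htqr⟩ := h.invol_Q ht ht2 ht1 hne
  obtain ⟨r0, hr0, hqr0⟩ := sl_partner q hq
  obtain ⟨s0, hs0, hrs0⟩ := sl_partner r hr
  have q4 : ∀ {x : SL23}, x * x = sZ → x ^ 4 = 1 := fun {x} hx => (sl_two_sq x).1 (Or.inr (by rw [pow_two, hx]))
  have toH : ∀ {c : G}, c * t = t * c → g⁻¹ * c * g ∈ H := by
    intro c hc
    rw [hH, Subgroup.mem_centralizer_singleton_iff]
    calc g⁻¹ * c * g * z = g⁻¹ * (c * (g * z * g⁻¹)) * g := by group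
      _ = g⁻¹ * (g * z * g⁻¹ * c) * g := by rw [hg, hc]
      _ = _ := by group
  -- two commuting elements whose commutator is the central involution
  set c1 := α q * β 1 with hc1
  set c2 := α r0 * β s0 with hc2
  have hc1t : c1 * t = t * c1 := by
    rw [htqr, hc1]
    show h.φ (q, 1) * h.φ (q, r) = h.φ (q, r) * h.φ (q, 1)
    rw [← map_mul, ← map_mul, Prod.mk_mul_mk, Prod.mk_mul_mk, one_mul, mul_one]
  have hc2t : c2 * t = t * c2 := by
    rw [htqr, hc2]
    have e : α (q * r0 * q⁻¹ * r0⁻¹) * β (r * s0 * r⁻¹ * s0⁻¹) = 1 := by rw [hqr0, hrs0, h.αZ, h.βZ, h.z_sq]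
    have e' : h.φ (q, r) * h.φ (r0, s0) * (h.φ (q, r))⁻¹ * (h.φ (r0, s0))⁻¹ = 1 := by
      rw [← map_inv, ← map_inv, ← map_mul, ← map_mul, ← map_mul]; exact e
    exact ((mul_inv_eq_iff_eq_mul.1 (mul_inv_eq_one.1 e')).symm)
  have hzc : c1 * c2 * c1⁻¹ * c2⁻¹ = z := by
    show h.φ (q, 1) * h.φ (r0, s0) * (h.φ (q, 1))⁻¹ * (h.φ (r0, s0))⁻¹ = z
    rw [← map_inv, ← map_inv, ← map_mul, ← map_mul, ← map_mul]
    show α (q * r0 * q⁻¹ * r0⁻¹) * β (1 * s0 * 1⁻¹ * s0⁻¹) = z
    rw [hqr0, inv_one, mul_one, one_mul, mul_inv_cancel, map_one, mul_one, h.αZ]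
  set c0 := g⁻¹ * z * g with hc0
  have hc0K : c0 ∈ kK α β := by
    have := h.comm_K (toH hc1t) (toH hc2t)
    rw [show g⁻¹ * c1 * g * (g⁻¹ * c2 * g) * (g⁻¹ * c1 * g)⁻¹ * (g⁻¹ * c2 * g)⁻¹ =
      g⁻¹ * (c1 * c2 * c1⁻¹ * c2⁻¹) * g by group, hzc] at this
    exact this
  have hc02 : c0 * c0 = 1 := by
    rw [hc0, show g⁻¹ * z * g * (g⁻¹ * z * g) = g⁻¹ * (z * z) * g by group, h.z_sq]; group
  have hc0Q : c0 ∈ Q := by
    obtain ⟨x, y, hxy⟩ := h.mem_K.1 hc0K
    have e : α (x * x) * β (y * y) = 1 := by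
      rw [← hc02, hxy]
      show h.φ ((x, y) * (x, y)) = h.φ (x, y) * h.φ (x, y)
      rw [map_mul]
    refine h.mem_Q.2 ⟨x, y, ?_, ?_, hxy⟩
    · refine (sl_two_sq x).1 ?_
      rw [pow_two]; rcases h.ker_eq e with ⟨a, -⟩ | ⟨a, -⟩
      exacts [Or.inl a, Or.inr a]
    · refine (sl_two_sq y).1 ?_
      rw [pow_two]; rcases h.ker_eq e with ⟨-, b⟩ | ⟨-, b⟩
      exacts [Or.inl b, Or.inr b]
  -- the intersection
  have hI4 := h.meet_conj g (by rw [hg]; exact ht) (by rw [hg]; exact hne)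
  have hinV : ∀ c ∈ Q, g⁻¹ * c * g ∈ Q → InV z t c := by
    intro c hcQ hcg
    set I := Q ⊓ Q.map (MulAut.conj g).toMonoidHom
    have hmem : ∀ x, x ∈ Q → g⁻¹ * x * g ∈ Q → x ∈ I := fun x a b => ⟨a, conj_mem_Q_iff.2 b⟩
    have h4 : ∀ x ∈ ({1, z, t, z * t} : Finset G), x ∈ I := by
      have hzI : z ∈ I := hmem z h.z_mem_Q hc0Q
      have htI : t ∈ I := hmem t ht (by rw [← hg, show g⁻¹ * (g * z * g⁻¹) * g = z by group]; exact h.z_mem_Q)
      intro x hx
      simp only [Finset.mem_insert, Finset.mem_singleton] at hx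
      rcases hx with rfl | rfl | rfl | rfl
      exacts [one_mem _, hzI, htI, mul_mem hzI htI]
    have hcard : ({1, z, t, z * t} : Finset G).card = 4 := by
      have hzt1 : z * t ≠ 1 := fun e => hne (by
        rw [eq_inv_of_mul_eq_one_right e, inv_eq_of_mul_eq_one_left h.z_sq])
      have hztz : z * t ≠ z := fun e => ht1 (mul_eq_left.1 e)
      have hztt : z * t ≠ t := fun e => h.z_ne (mul_eq_right.1 e)
      rw [Finset.card_insert_of_notMem, Finset.card_insert_of_notMem, Finset.card_insert_of_notMem,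
        Finset.card_singleton]
      · simp only [Finset.mem_singleton]; exact fun e => hztt e.symm
      · simp only [Finset.mem_insert, Finset.mem_singleton, not_or]
        exact ⟨fun e => hne e.symm, fun e => hztz e.symm⟩
      · simp only [Finset.mem_insert, Finset.mem_singleton, not_or]
        exact ⟨fun e => h.z_ne e.symm, fun e => ht1 e.symm, fun e => hzt1 e.symm⟩
    by_contra hno
    have hnot : c ∉ ({1, z, t, z * t} : Finset G) := by simpa [InV] using hno
    have := Finset.card_le_card (s := insert c ({1, z, t, z * t} : Finset G))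
      (t := (I : Set G).toFinite.toFinset) (by
        intro x hx
        rw [Set.Finite.mem_toFinset]
        rcases Finset.mem_insert.1 hx with rfl | hx
        · exact hmem _ hcQ hcg
        · exact h4 _ hx)
    rw [Finset.card_insert_of_notMem hnot, hcard, ← Nat.card_eq_card_finite_toFinset] at this
    change 4 + 1 ≤ Nat.card I at this
    omega
  -- the subgroup W
  set R := Q ⊓ Subgroup.centralizer ({c0} : Set G) with hR
  set W := R.map (MulAut.conj g).toMonoidHom with hW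
  have hWspec : ∀ w ∈ W, w ∈ H ∧ g⁻¹ * w * g ∈ Q := by
    rintro _ ⟨y, ⟨hy, hyc⟩, rfl⟩
    show g * y * g⁻¹ ∈ H ∧ g⁻¹ * (g * y * g⁻¹) * g ∈ Q
    have e : g⁻¹ * (g * y * g⁻¹) * g = y := by group
    refine ⟨?_, e.symm ▸ hy⟩
    rw [hH, Subgroup.mem_centralizer_singleton_iff]
    have hyc' : y * c0 = c0 * y := Subgroup.mem_centralizer_singleton_iff.1 hyc
    calc g * y * g⁻¹ * z = g * (y * c0) * g⁻¹ := by rw [hc0]; group
      _ = g * (c0 * y) * g⁻¹ := by rw [hyc']
      _ = _ := by rw [hc0]; group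
  have hWt : ∀ w ∈ W, w * t = t * w := by
    intro w hw
    have := h.comm_z (h.Q_le (hWspec w hw).2)
    rw [← hg]
    calc w * (g * z * g⁻¹) = g * (g⁻¹ * w * g * z) * g⁻¹ := by group
      _ = g * (z * (g⁻¹ * w * g)) * g⁻¹ := by rw [this]
      _ = _ := by group
  have hWsq : ∀ w ∈ W, w * w ∈ kK α β := by
    intro w hw
    have hy := (hWspec w hw).2
    rcases (h.Q_comm hy hy).2 with e | e
    · have : w * w = 1 := by
        rw [show w * w = g * (g⁻¹ * w * g * (g⁻¹ * w * g)) * g⁻¹ by group, e]; group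
      rw [this]; exact one_mem _
    · have : w * w = t := by
        rw [show w * w = g * (g⁻¹ * w * g * (g⁻¹ * w * g)) * g⁻¹ by group, e, hg]
      rw [this]; exact h.Q_le ht
  -- counting
  have hRcard : 16 ≤ Nat.card R := by
    let C : Subgroup G := Subgroup.zpowers z
    have hcz : ∀ y ∈ Q, y * c0 * y⁻¹ * c0⁻¹ = 1 ∨ y * c0 * y⁻¹ * c0⁻¹ = z := fun y hy => (h.Q_comm hy hc0Q).1
    let f : Q → C := fun y => ⟨(y : G) * c0 * (y : G)⁻¹ * c0⁻¹, by
      rcases hcz y y.2 with e | e <;> rw [e]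
      exacts [one_mem _, Subgroup.mem_zpowers z]⟩
    have hf : ∀ a b : Q, f (a * b) = f a * f b := by
      intro a b
      refine Subtype.ext ?_
      show (a * b : G) * c0 * (a * b : G)⁻¹ * c0⁻¹ = ((a : G) * c0 * (a : G)⁻¹ * c0⁻¹) * ((b : G) * c0 * (b : G)⁻¹ * c0⁻¹)
      set d := (b : G) * c0 * (b : G)⁻¹ * c0⁻¹ with hd
      have hb' : ∀ x ∈ kK α β, x * d = d * x := by
        intro x hx
        rcases hcz b b.2 with e | e <;> rw [hd, e]
        · rw [mul_one, one_mul]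
        · exact h.comm_z hx
      calc (a * b : G) * c0 * (a * b : G)⁻¹ * c0⁻¹ = (a : G) * d * (c0 * (a : G)⁻¹ * c0⁻¹) := by
            rw [hd]; group
        _ = d * a * (c0 * (a : G)⁻¹ * c0⁻¹) := by rw [hb' a (h.Q_le a.2)]
        _ = d * ((a : G) * c0 * (a : G)⁻¹ * c0⁻¹) := by group
        _ = _ := (hb' _ (mul_mem (mul_mem (mul_mem (h.Q_le a.2) hc0K) (inv_mem (h.Q_le a.2))) (inv_mem hc0K))).symm
    let F : Q →* C := MonoidHom.mk' f hf
    have hk : F.ker.map Q.subtype = R := by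
      ext x
      constructor
      · rintro ⟨y, hy, rfl⟩
        refine ⟨y.2, Subgroup.mem_centralizer_singleton_iff.2 ?_⟩
        have e : (y : G) * c0 * (y : G)⁻¹ * c0⁻¹ = 1 := congrArg Subtype.val hy
        exact mul_inv_eq_iff_eq_mul.1 (mul_inv_eq_one.1 e)
      · rintro ⟨hxQ, hxc⟩
        refine ⟨⟨x, hxQ⟩, Subtype.ext ?_, rfl⟩
        show x * c0 * x⁻¹ * c0⁻¹ = 1
        rw [Subgroup.mem_centralizer_singleton_iff.1 hxc]; group
    have h1 := Subgroup.card_eq_card_quotient_mul_card_subgroup F.ker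
    rw [Nat.card_congr (QuotientGroup.quotientKerEquivRange F).toEquiv, h.card_Q] at h1
    have h2 : Nat.card F.range ≤ 2 := by
      refine (Subgroup.card_le_card_group _).trans ?_
      rw [Nat.card_zpowers, h.z_ord]
    rw [← hk, Subgroup.card_map_of_injective Q.subtype_injective]
    nlinarith [Nat.zero_le (Nat.card F.ker)]
  have hWcard : 16 ≤ Nat.card W := by
    rw [hW, Subgroup.card_map_of_injective (MulAut.conj g).injective]; exact hRcard
  haveI := h.K_sub_normal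
  let π : W →* H ⧸ (kK α β).subgroupOf H :=
    (QuotientGroup.mk' _).comp (Subgroup.inclusion fun w hw => (hWspec w hw).1)
  have hker : Nat.card π.ker ≤ 4 := by
    refine le_of_le_of_eq (Nat.card_le_card_of_injective
      (fun w : π.ker => (⟨((w : W) : G), ?_⟩ : ↥(Q ⊓ Q.map (MulAut.conj g).toMonoidHom)))
      (fun a b e => Subtype.ext (Subtype.ext (by simpa using congrArg Subtype.val e)))) hI4
    have hwK : ((w : W) : G) ∈ kK α β := by
      have h5 : π (w : W) = 1 := w.2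
      have h6 := (QuotientGroup.eq_one_iff (N := (kK α β).subgroupOf H)
        (Subgroup.inclusion (fun x hx => (hWspec x hx).1) (w : W))).1 h5
      exact h6
    refine ⟨?_, conj_mem_Q_iff.2 (hWspec _ (w : W).2).2⟩
    exact h.cent_invol hq hr hwK (htqr ▸ hWt _ (w : W).2)
  have hsurj : Function.Surjective π := by
    rw [← MonoidHom.range_eq_top]
    refine Subgroup.eq_top_of_le_card _ ?_
    rw [h.index_K]
    have h1 := Subgroup.card_eq_card_quotient_mul_card_subgroup π.ker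
    rw [Nat.card_congr (QuotientGroup.quotientKerEquivRange π).toEquiv] at h1
    nlinarith [Nat.card_pos (α := π.ker)]
  intro x hx
  obtain ⟨w, hw⟩ := hsurj ((⟨x, hx⟩ : H) : H ⧸ (kK α β).subgroupOf H)
  refine ⟨w, (hWspec _ w.2).1, hWt _ w.2, hWsq _ w.2, ?_, fun c hc hct => ?_⟩
  · exact Subgroup.mem_subgroupOf.1 (QuotientGroup.eq.1 hw)
  · refine hinV _ (mul_mem (h.Q_normal _ (hWspec _ w.2).1 _ hc) (inv_mem hc)) ?_
    have hc' := toH hct
    have hy := (hWspec _ w.2).2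
    have e : g⁻¹ * ((w : G) * c * (w : G)⁻¹ * c⁻¹) * g =
        (g⁻¹ * w * g) * ((g⁻¹ * c * g) * (g⁻¹ * w * g)⁻¹ * (g⁻¹ * c * g)⁻¹) := by group
    rw [e]
    exact mul_mem hy (h.Q_normal _ hc' _ (inv_mem hy))

end

end CfsgLib.UFourType
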